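import Cfsg.Agent.Lib.PLocal.SLTwo
import Cfsg.Agent.Lib.PSolvable.Basic
import Mathlib.FieldTheory.Finite.Basic
import Mathlib.GroupTheory.Nilpotent
import Mathlib.GroupTheory.Sylow

/-!
# What a section isomorphic to `SL(2,p)` forbids

Owner: helper19. For odd `p` it forces nonabelian Sylow 2-subgroups, for `p ≥ 5` it forbids
`p`-solvability.
-/

set_option autoImplicit false

namespace Cfsg.Agent.Lib.PLocal.Sections

open Matrix
open Cfsg.Agent.Lib.PLocal.SLTwo

variable {p : ℕ} [Fact p.Prime]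

local notation "SLp" => Matrix.SpecialLinearGroup (Fin 2) (ZMod p)

/-- For odd `p`, `SL(2,p)` has a noncommutative `2`-subgroup. -/
theorem exists_noncomm_two (hp : p ≠ 2) :
    ∃ P : Subgroup SLp, IsPGroup 2 P ∧ ∃ x ∈ P, ∃ y ∈ P, x * y ≠ y * x := by
  obtain ⟨a, b, hab⟩ := ZMod.sq_add_sq p (-1)
  have hdet : a * (-a) - b * b = 1 := by
    rw [show a * (-a) - b * b = -(a ^ 2 + b ^ 2) by ring, hab, neg_neg]
  let x : SLp := ⟨!![0, -1; 1, 0], by simp [Matrix.det_fin_two]⟩
  let y : SLp := ⟨!![a, b; b, -a], by rw [Matrix.det_fin_two_of]; exact hdet⟩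
  have hab' : a * a + b * b = -1 := by linear_combination hab
  have hx2 : (x * x).1 = -1 := by
    rw [val_mul]; ext i j; fin_cases i <;> fin_cases j <;>
      simp [x, Matrix.mul_fin_two, Matrix.one_fin_two]
  have hy2 : (y * y).1 = -1 := by
    rw [val_mul]; ext i j; fin_cases i <;> fin_cases j <;>
      simp [y, Matrix.mul_fin_two, Matrix.one_fin_two] <;> first | ring1 | linear_combination hab'
  have hxy : (x * y).1 = -(y * x).1 := by
    rw [val_mul, val_mul]; ext i j; fin_cases i <;> fin_cases j <;>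
      simp [x, y, Matrix.mul_fin_two]
  have h4 : ∀ z : SLp, (z * z).1 = -1 → z ^ 4 = 1 := by
    intro z hz
    apply Subtype.ext
    rw [show z ^ 4 = (z * z) * (z * z) by simp [pow_succ, mul_assoc], val_mul, hz]
    simp
  have hxinv : x⁻¹.1 = -x.1 := by
    have h : (x * x * x).1 = -x.1 := by rw [val_mul, hx2]; simp
    rwa [show x * x * x = x⁻¹ by
      rw [eq_inv_iff_mul_eq_one, show x * x * x * x = x ^ 4 by simp [pow_succ, mul_assoc], h4 x hx2]] at h
  have hconj : y * x * y⁻¹ = x⁻¹ := by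
    rw [mul_inv_eq_iff_eq_mul]
    apply Subtype.ext
    rw [val_mul x⁻¹ y, hxinv, Matrix.neg_mul, ← val_mul, hxy, neg_neg]
  have hpg : ∀ z : SLp, z ^ 4 = 1 → IsPGroup 2 (Subgroup.zpowers z) := by
    intro z hz
    refine IsPGroup.of_card_dvd_pow (n := 2) ?_
    rw [Nat.card_zpowers]
    exact orderOf_dvd_of_pow_eq_one (by simpa using hz)
  have hn : Subgroup.zpowers y ≤ Subgroup.normalizer (Subgroup.zpowers x : Set SLp) := by
    rw [Subgroup.zpowers_le]
    refine Subgroup.mem_normalizer_fintype (S := (Subgroup.zpowers x : Set SLp)) ?_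
    rintro _ ⟨k, rfl⟩
    rw [SetLike.mem_coe, ← conj_zpow, hconj]
    exact Subgroup.zpow_mem _ (Subgroup.inv_mem _ (Subgroup.mem_zpowers x)) k
  refine ⟨Subgroup.zpowers y ⊔ Subgroup.zpowers x,
    IsPGroup.to_sup_of_normal_right' (hpg y (h4 y hy2)) (hpg x (h4 x hx2)) hn,
    x, Subgroup.mem_sup_right (Subgroup.mem_zpowers x),
    y, Subgroup.mem_sup_left (Subgroup.mem_zpowers y), fun h => ?_⟩
  rw [h] at hxy
  have h2 : (2 : ZMod p) • (y * x).1 = 0 := by
    rw [two_smul]; exact add_eq_zero_iff_eq_neg.mpr hxy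
  have hne : (2 : ZMod p) ≠ 0 := by
    intro h0
    have h1 : ((2 : ℕ) : ZMod p) = 0 := by exact_mod_cast h0
    rw [ZMod.natCast_eq_zero_iff] at h1
    exact hp ((Nat.prime_dvd_prime_iff_eq Fact.out Nat.prime_two).mp h1)
  have h3 := (y * x).2
  rw [(smul_eq_zero.mp h2).resolve_left hne, Matrix.det_zero] at h3
  exact zero_ne_one h3

theorem lo_one_mem_commutator (hp : 5 ≤ p) :
    lo (1 : ZMod p) ∈ _root_.commutator SLp := by
  let w : SLp := ⟨!![0, -1; 1, 0], by simp [Matrix.det_fin_two]⟩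
  have h : w * (up (1 : ZMod p))⁻¹ * w⁻¹ = lo 1 := by
    rw [mul_inv_eq_iff_eq_mul, eq_comm, eq_mul_inv_iff_mul_eq]
    apply Subtype.ext
    rw [val_mul, val_mul]
    ext i j
    fin_cases i <;> fin_cases j <;> simp [w, up, lo, Matrix.mul_fin_two]
  rw [← h]
  exact Subgroup.Normal.conj_mem inferInstance _ (Subgroup.inv_mem _ (up_one_mem_commutator hp)) w

theorem commutator_eq_top (hp : 5 ≤ p) : _root_.commutator SLp = ⊤ := by
  refine top_le_iff.mp (closure_pair_eq_top.ge.trans ((Subgroup.closure_le _).mpr ?_))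
  rintro _ (rfl | rfl)
  exacts [up_one_mem_commutator hp, lo_one_mem_commutator hp]

theorem not_isPSolvable_sl2 (hp : 5 ≤ p) : ¬ Cfsg.IsPSolvable p SLp := by
  intro h
  classical
  obtain ⟨N, ⟨hN, hNt⟩, hmax⟩ := Set.exists_max_image
    {N : Subgroup SLp | N.Normal ∧ N ≠ ⊤} (fun N => Nat.card N) (Set.toFinite _)
    ⟨⊥, inferInstance, fun h => up_one_ne_one (p := p) (by
      have := Subgroup.mem_top (up (1 : ZMod p))
      rwa [← h, Subgroup.mem_bot] at this)⟩
  haveI := hN
  obtain ⟨M, hM, hlt, hpn⟩ := PSolvable.exists_step h N hNt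
  have hMt : M = ⊤ := by
    by_contra hMt
    have := hmax M ⟨hM, hMt⟩
    exact hlt.ne (Subgroup.eq_of_le_of_card_ge hlt.le this)
  rw [hMt, Subgroup.relIndex_top_right] at hpn
  haveI : Nontrivial (SLp ⧸ N) := QuotientGroup.nontrivial_iff.mpr hNt
  rcases hpn with ⟨m, hm⟩ | hc
  · have hP : IsPGroup p (SLp ⧸ N) := IsPGroup.of_card (n := m) hm
    haveI := hP.isNilpotent
    refine (Group.IsSolvable.commutator_lt_top_of_nontrivial (SLp ⧸ N)).ne ?_
    rw [_root_.commutator_def, ← Subgroup.map_top_of_surjective (QuotientGroup.mk' N)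
      (QuotientGroup.mk'_surjective N), ← Subgroup.map_commutator, ← _root_.commutator_def,
      commutator_eq_top hp]
  · apply hNt
    have hmem : ∀ z : SLp, z ^ p = 1 → z ∈ N := by
      intro z hz
      rw [← QuotientGroup.eq_one_iff, ← orderOf_eq_one_iff]
      refine Nat.eq_one_of_dvd_coprimes hc ?_ ?_
      · exact orderOf_dvd_natCard _
      · exact orderOf_dvd_of_pow_eq_one (by rw [← QuotientGroup.mk_pow, hz, QuotientGroup.mk_one])
    refine top_le_iff.mp (closure_pair_eq_top.ge.trans ((Subgroup.closure_le _).mpr ?_))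
    rintro _ (rfl | rfl)
    · exact hmem _ up_one_pow
    · exact hmem _ (by rw [← lo_natCast, ZMod.natCast_self, lo_zero])

variable {G : Type*} [Group G] [Finite G]

/-- A section `SL(2,p)` of a `p`-solvable group forces `p ≤ 3`. -/
theorem p_lt_five_of_section (hsep : Cfsg.IsPSolvable p G) (K L : Subgroup G)
    (hL : (L.subgroupOf K).Normal)
    (h : Nonempty ((K ⧸ L.subgroupOf K) ≃* SLp)) : p < 5 := by
  by_contra hp
  obtain ⟨e⟩ := h
  exact not_isPSolvable_sl2 (not_lt.mp hp) ((PSolvable.isPSolvable_congr e).mp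
    (PSolvable.isPSolvable_quotient (PSolvable.isPSolvable_subgroup hsep K) _))

/-- If one Sylow `2`-subgroup is abelian then so is every `2`-subgroup of every section. -/
theorem two_subgroup_comm_of_section (T : Sylow 2 G) (hT : IsMulCommutative T) {K : Subgroup G}
    {S : Type*} [Group S] (f : K →* S) (hf : Function.Surjective f) {P : Subgroup S}
    (hP : IsPGroup 2 P) : ∀ x ∈ P, ∀ y ∈ P, x * y = y * x := by
  haveI : Finite S := Finite.of_surjective f hf
  obtain ⟨Q, hQ⟩ := hP.exists_le_sylow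
  obtain ⟨R, rfl⟩ := Sylow.mapSurjective_surjective hf 2 Q
  obtain ⟨T', hT'⟩ := (R.isPGroup'.map K.subtype).exists_le_sylow
  obtain ⟨g, hg⟩ := MulAction.exists_smul_eq G T T'
  intro x hx y hy
  obtain ⟨u, hu, rfl⟩ := hQ hx
  obtain ⟨v, hv, rfl⟩ := hQ hy
  rw [← map_mul, ← map_mul]
  congr 1
  apply Subtype.ext
  have hu' : (u : G) ∈ T' := hT' (Subgroup.mem_map_of_mem K.subtype hu)
  have hv' : (v : G) ∈ T' := hT' (Subgroup.mem_map_of_mem K.subtype hv)
  rw [← hg] at hu' hv'
  obtain ⟨u0, hu0, hu1⟩ := hu'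
  obtain ⟨v0, hv0, hv1⟩ := hv'
  have hc : u0 * v0 = v0 * u0 := congrArg Subtype.val (hT.is_comm.comm ⟨u0, hu0⟩ ⟨v0, hv0⟩)
  rw [Subgroup.coe_mul, Subgroup.coe_mul, ← hu1, ← hv1]
  show MulAut.conj g u0 * MulAut.conj g v0 = MulAut.conj g v0 * MulAut.conj g u0
  rw [← map_mul, ← map_mul, hc]

/-- A section `SL(2,p)`, `p` odd, forces nonabelian Sylow `2`-subgroups. -/
theorem sylow_two_noncomm_of_section (hp : p ≠ 2) (T : Sylow 2 G) (K L : Subgroup G)
    (hL : (L.subgroupOf K).Normal) (h : Nonempty ((K ⧸ L.subgroupOf K) ≃* SLp)) :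
    ¬ IsMulCommutative T := by
  intro hT
  obtain ⟨e⟩ := h
  obtain ⟨P, hP, x, hx, y, hy, hne⟩ := exists_noncomm_two (p := p) hp
  exact hne (two_subgroup_comm_of_section T hT
    (e.toMonoidHom.comp (QuotientGroup.mk' (L.subgroupOf K)))
    (e.surjective.comp (QuotientGroup.mk'_surjective _)) hP x hx y hy)

/-- Sylow subgroups and sections, relative to a subgroup `H`. -/
theorem sylow_two_noncomm_of_section_le (hp : p ≠ 2) {H : Subgroup G} (T : Sylow 2 H)
    (K L : Subgroup G) (hL : (L.subgroupOf K).Normal) (hKH : K ≤ H)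
    (h : Nonempty ((K ⧸ L.subgroupOf K) ≃* SLp)) : ¬ IsMulCommutative T := by
  intro hT
  obtain ⟨e⟩ := h
  obtain ⟨P, hP, x, hx, y, hy, hne⟩ := exists_noncomm_two (p := p) hp
  let i : (K.subgroupOf H) ≃* K := Subgroup.subgroupOfEquivOfLe hKH
  exact hne (two_subgroup_comm_of_section T hT
    ((e.toMonoidHom.comp (QuotientGroup.mk' (L.subgroupOf K))).comp i.toMonoidHom)
    ((e.surjective.comp (QuotientGroup.mk'_surjective _)).comp i.surjective) hP x hx y hy)

/-- `p`-solvability of `H` and a section `SL(2,p)` inside `H` with `p` odd force `p = 3`. -/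
theorem p_eq_three_of_section_le (hp : p ≠ 2) {H : Subgroup G} (hsep : Cfsg.IsPSolvable p H)
    (K L : Subgroup G) (hL : (L.subgroupOf K).Normal) (hKH : K ≤ H)
    (h : Nonempty ((K ⧸ L.subgroupOf K) ≃* SLp)) : p = 3 := by
  have hK : Cfsg.IsPSolvable p K :=
    PSolvable.isPSolvable_of_injective (Subgroup.inclusion hKH) (Subgroup.inclusion_injective hKH) hsep
  have hlt : p < 5 := by
    by_contra hp5
    obtain ⟨e⟩ := h
    exact not_isPSolvable_sl2 (not_lt.mp hp5) ((PSolvable.isPSolvable_congr e).mp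
      (PSolvable.isPSolvable_quotient hK _))
  have hpr := (Fact.out : p.Prime)
  interval_cases p <;> first | omega | exact absurd hpr (by norm_num)

end Cfsg.Agent.Lib.PLocal.Sections
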