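import Cfsg.Agent.Lib.PLocal.Replacement
import Cfsg.Agent.Lib.PGroups.Thompson
import Cfsg.Agent.Lib.PGroups.Omega
import Cfsg.Agent.Lib.Cores.Basic

/-!
# The Thompson subgroup of a finite group; Thompson factorization

Owner: helper19.
-/

namespace Cfsg.Agent.Lib.PLocal

open Subgroup
open scoped commutatorElement

variable {G : Type*} [Group G] {p : ℕ}

/-- `Ω₁(Z(S))` for a subgroup `S`. -/
abbrev omegaCenterOf (p : ℕ) (S : Subgroup G) : Subgroup G :=
  Cfsg.omegaOne p (S ⊓ Subgroup.centralizer (S : Set G))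

/-- The subgroup generated by all `Ω₁(Z(S))`. -/
abbrev omegaCenterSup (p : ℕ) (G : Type*) [Group G] : Subgroup G :=
  ⨆ S : Sylow p G, omegaCenterOf p (S : Subgroup G)

theorem inf_centralizer_comm (S : Subgroup G) :
    IsMulCommutative ↥(S ⊓ Subgroup.centralizer (S : Set G)) :=
  Subgroup.le_centralizer_iff_isMulCommutative.mp
    (inf_le_right.trans (Subgroup.centralizer_le inf_le_left))

theorem omegaCenterOf_elemAb (S : Subgroup G) : Cfsg.IsElementaryAbelian p (omegaCenterOf p S) :=
  PGroups.elemAb_omegaOne (inf_centralizer_comm S)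

theorem omegaCenterOf_le (S : Subgroup G) : omegaCenterOf p S ≤ S :=
  (PGroups.omegaOne_le p _).trans inf_le_left

theorem le_centralizer_omegaCenterOf (S : Subgroup G) :
    S ≤ Subgroup.centralizer (omegaCenterOf p S : Set G) :=
  Subgroup.le_centralizer_iff.mp ((PGroups.omegaOne_le p _).trans inf_le_right)

theorem map_omegaCenterOf {H : Type*} [Group H] (f : G →* H) (hf : Function.Injective f)
    (S : Subgroup G) : (omegaCenterOf p S).map f = omegaCenterOf p (S.map f) := by
  rw [omegaCenterOf, PGroups.map_omegaOne_of_injective f hf,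
    PGroups.map_inf_centralizer_of_injective f hf]

theorem omegaCenterSup_characteristic [Finite G] [Fact p.Prime] : (omegaCenterSup p G).Characteristic := by
  refine Subgroup.characteristic_iff_map_le.mpr fun e => ?_
  rw [Subgroup.map_iSup]
  refine iSup_le fun S => ?_
  rw [map_omegaCenterOf _ e.injective]
  exact le_iSup_of_le (S.mapSurjective (f := e.toMonoidHom) e.surjective) le_rfl

instance omegaCenterSup_normal [Finite G] [Fact p.Prime] : (omegaCenterSup p G).Normal :=
  have := omegaCenterSup_characteristic (p := p) (G := G)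
  inferInstance

section Max

variable [Finite G] [hp : Fact p.Prime]

theorem exists_maxElemAbIn_sylow {A : Subgroup G}
    (hA : A ∈ Cfsg.maxElementaryAbelianSubgroups p G) :
    ∃ S : Sylow p G, A ∈ PGroups.maxElemAbIn p (S : Subgroup G) := by
  obtain ⟨S, hS⟩ := (PGroups.elemAb_isPGroup hA.1).exists_le_sylow
  exact ⟨S, hS, hA.1, fun B _ hB => hA.2 B hB⟩

theorem maxElemAbIn_sylow_subset (S : Sylow p G) :
    PGroups.maxElemAbIn p (S : Subgroup G) ⊆ Cfsg.maxElementaryAbelianSubgroups p G := by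
  rintro A ⟨-, hA, hmax⟩
  refine ⟨hA, fun B hB => ?_⟩
  obtain ⟨T, hT⟩ := (PGroups.elemAb_isPGroup hB).exists_le_sylow
  obtain ⟨g, hg⟩ := MulAction.exists_smul_eq G T S
  have hle : B.map (MulAut.conj g).toMonoidHom ≤ (S : Subgroup G) := by
    rw [← hg, Sylow.coe_subgroup_smul]
    exact Subgroup.map_mono hT
  have h := hmax _ hle (PGroups.elemAb_conj g hB)
  rwa [Subgroup.card_map_of_injective (MulAut.conj g).injective] at h

theorem exists_maxElemAb_le_sylow (S : Sylow p G) :
    ∃ A ∈ Cfsg.maxElementaryAbelianSubgroups p G, A ≤ (S : Subgroup G) := by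
  obtain ⟨A, hA⟩ := PGroups.maxElemAbIn_nonempty p (S : Subgroup G)
  exact ⟨A, maxElemAbIn_sylow_subset S hA, hA.1⟩

theorem thompsonSubgroupOf_sylow_le (S : Sylow p G) :
    Cfsg.thompsonSubgroupOf p (S : Subgroup G) ≤ Cfsg.thompsonSubgroup p G := by
  rw [PGroups.thompsonSubgroupOf_eq]
  exact sSup_le_sSup (maxElemAbIn_sylow_subset S)

theorem thompsonSubgroup_eq_iSup :
    Cfsg.thompsonSubgroup p G = ⨆ S : Sylow p G, Cfsg.thompsonSubgroupOf p (S : Subgroup G) := by
  refine le_antisymm (sSup_le fun A hA => ?_) (iSup_le thompsonSubgroupOf_sylow_le)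
  obtain ⟨S, hS⟩ := exists_maxElemAbIn_sylow hA
  exact le_iSup_of_le S (PGroups.le_thompsonSubgroupOf hS)

/-- For `A` of largest order and an elementary abelian `V`, `C_V(A) = V ∩ A`. -/
theorem fixOn_eq_inf {A V : Subgroup G} (hA : A ∈ Cfsg.maxElementaryAbelianSubgroups p G)
    (hV : Cfsg.IsElementaryAbelian p V) : fixOn V A = V ⊓ A := by
  refine le_antisymm (fun v hv =>
    ⟨hv.1, PGroups.mem_maxElemAb_of_commute hA (hV.2 v hv.1) (mem_fixOn.mp hv).2⟩) fun v hv => ?_
  exact mem_fixOn.mpr ⟨hv.1, fun a ha => PGroups.elemAb_comm hA.1 ha hv.2⟩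

/-- Members of largest order are best offenders on every elementary abelian subgroup they normalise. -/
theorem bestOffender_of_maxElemAb {A V : Subgroup G}
    (hA : A ∈ Cfsg.maxElementaryAbelianSubgroups p G) (hV : Cfsg.IsElementaryAbelian p V) :
    Cfsg.IsBestOffenderOn p V A := by
  refine ⟨fun B hB => ?_, ?_, fun a ha => by rw [hA.1.2 a ha]; exact one_mem _⟩
  · have hE : Cfsg.IsElementaryAbelian p (B ⊔ fixOn V B) := by
      refine PGroups.elemAb_sup (PGroups.elemAb_mono hA.1 hB) (PGroups.elemAb_mono hV fixOn_le) ?_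
      intro b hb v hv
      exact (mem_fixOn.mp hv).2 b hb
    have hn : B ≤ Subgroup.normalizer (fixOn V B : Set G) := fun b hb =>
      Subgroup.centralizer_le_normalizer _ (Subgroup.mem_centralizer_iff.mpr fun v hv =>
        ((mem_fixOn.mp hv).2 b hb).symm)
    change meas V B ≤ meas V A
    rw [meas, meas, ← card_sup_mul_card_inf hn]
    refine Nat.mul_le_mul (hA.2 _ hE) (Subgroup.card_le_of_le ?_)
    rw [fixOn_eq_inf hA hV]
    exact fun x hx => ⟨hx.2.1, hB hx.1⟩
  · have := hA.1.1
    rw [Subgroup.commutator_self_eq_bot_iff.mpr this]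
    exact bot_le

theorem thompsonSubgroup_ne_bot (h : p ∣ Nat.card G) : Cfsg.thompsonSubgroup p G ≠ ⊥ := by
  intro hb
  obtain ⟨A, hA⟩ := PGroups.maxElemAb_nonempty (p := p) (G := G)
  have hAb : A = ⊥ := le_bot_iff.mp (hb ▸ le_sSup hA)
  obtain ⟨x, hx⟩ := exists_prime_orderOf_dvd_card' (G := G) p h
  have h2 := hA.2 (Subgroup.zpowers x) (PGroups.elemAb_zpowers (hx ▸ pow_orderOf_eq_one x))
  rw [Nat.card_zpowers, hx, hAb, Subgroup.card_bot] at h2
  exact absurd h2 (not_le.mpr hp.out.one_lt)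

/-- The intersection of a Sylow subgroup with a normal subgroup is a Sylow subgroup of it. -/
theorem not_dvd_relIndex_inf (S : Sylow p G) (N : Subgroup G) [N.Normal] :
    ¬ p ∣ ((S : Subgroup G) ⊓ N).relIndex N := by
  have hn : (S : Subgroup G) ≤ Subgroup.normalizer (N : Set G) :=
    le_top.trans (Subgroup.normalizer_eq_top N).ge
  have h1 := card_sup_mul_card_inf hn
  have h2 : Nat.card N = Nat.card ((S : Subgroup G) ⊓ N : Subgroup G) *
      ((S : Subgroup G) ⊓ N).relIndex N := by
    rw [Subgroup.relIndex,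
      ← Nat.card_congr (Subgroup.subgroupOfEquivOfLe (inf_le_right : (S : Subgroup G) ⊓ N ≤ N)).toEquiv,
      Subgroup.card_mul_index]
  have h3 : Nat.card ((S : Subgroup G) ⊔ N : Subgroup G) =
      Nat.card (S : Subgroup G) * (S : Subgroup G).relIndex ((S : Subgroup G) ⊔ N) := by
    rw [Subgroup.relIndex,
      ← Nat.card_congr (Subgroup.subgroupOfEquivOfLe
        (le_sup_left : (S : Subgroup G) ≤ (S : Subgroup G) ⊔ N)).toEquiv,
      Subgroup.card_mul_index]
  rw [h2, h3] at h1
  have h4 : (S : Subgroup G).relIndex ((S : Subgroup G) ⊔ N) = ((S : Subgroup G) ⊓ N).relIndex N :=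
    Nat.eq_of_mul_eq_mul_left
      (Nat.mul_pos (Nat.card_pos (α := (S : Subgroup G)))
        (Nat.card_pos (α := ((S : Subgroup G) ⊓ N : Subgroup G)))) (by linarith)
  rw [← h4]
  exact fun h => S.not_dvd_index
    (h.trans (Subgroup.relIndex_mul_index (le_sup_left :
      (S : Subgroup G) ≤ (S : Subgroup G) ⊔ N) ▸ dvd_mul_right _ _))

/-- `S ∩ N` as a Sylow subgroup of `N`. -/
theorem exists_sylow_inf (S : Sylow p G) (N : Subgroup G) [N.Normal] :
    ∃ P : Sylow p N, (P : Subgroup N).map N.subtype = (S : Subgroup G) ⊓ N := by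
  refine ⟨((S.isPGroup'.to_le (inf_le_left : (S : Subgroup G) ⊓ N ≤ S)).comap_subtype (K := N)).toSylow
    (not_dvd_relIndex_inf S N), ?_⟩
  exact Subgroup.map_subgroupOf_eq_of_le inf_le_right

/-- Frattini argument. -/
theorem normalizer_inf_sup_eq_top (S : Sylow p G) (N : Subgroup G) [N.Normal] :
    Subgroup.normalizer (((S : Subgroup G) ⊓ N : Subgroup G) : Set G) ⊔ N = ⊤ := by
  obtain ⟨P, hP⟩ := exists_sylow_inf S N
  rw [← hP]
  exact P.normalizer_sup_eq_top

/-- A normal `p`-power extension of `C` is covered by `C` and a Sylow subgroup. -/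
theorem le_sup_inf_of_relIndex (S : Sylow p G) {C D : Subgroup G} [D.Normal]
    (hCD : C ≤ D) {k : ℕ} (hk : C.relIndex D = p ^ k) : D ≤ C ⊔ ((S : Subgroup G) ⊓ D) := by
  rw [← Subgroup.relIndex_eq_one]
  have hle : C ⊔ ((S : Subgroup G) ⊓ D) ≤ D := sup_le hCD inf_le_right
  have hd1 : (C ⊔ ((S : Subgroup G) ⊓ D)).relIndex D ∣ p ^ k :=
    hk ▸ Dvd.intro_left _ (Subgroup.relIndex_mul_relIndex C _ D le_sup_left hle)
  have hd2 : (C ⊔ ((S : Subgroup G) ⊓ D)).relIndex D ∣ ((S : Subgroup G) ⊓ D).relIndex D :=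
    Dvd.intro_left _ (Subgroup.relIndex_mul_relIndex _ _ D le_sup_right hle)
  obtain ⟨j, -, hj⟩ := (Nat.dvd_prime_pow hp.out).mp hd1
  rcases j with _ | j
  · simpa using hj
  · exact absurd ((dvd_pow_self p (Nat.succ_ne_zero j)).trans (hj ▸ hd2)) (not_dvd_relIndex_inf S D)

/-- If `V` is generated by fixed points of Sylow subgroups, `C_G(V)` has no normal `p`-power
extension. -/
theorem eq_centralizer_of_generated {V : Subgroup G}
    (hgen : V ≤ ⨆ S : Sylow p G, V ⊓ Subgroup.centralizer ((S : Subgroup G) : Set G))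
    (D : Subgroup G) [D.Normal] (hCD : Subgroup.centralizer (V : Set G) ≤ D)
    {k : ℕ} (hk : (Subgroup.centralizer (V : Set G)).relIndex D = p ^ k) :
    D = Subgroup.centralizer (V : Set G) := by
  refine le_antisymm (Subgroup.le_centralizer_iff.mpr ?_) hCD
  refine hgen.trans (iSup_le fun S => ?_)
  rw [Subgroup.le_centralizer_iff]
  refine (le_sup_inf_of_relIndex S hCD hk).trans (sup_le ?_ ?_)
  · exact Subgroup.centralizer_le inf_le_left
  · exact inf_le_left.trans (Subgroup.le_centralizer_iff.mp inf_le_right)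

theorem omegaCenterSup_generated :
    omegaCenterSup p G ≤ ⨆ S : Sylow p G,
      omegaCenterSup p G ⊓ Subgroup.centralizer ((S : Subgroup G) : Set G) :=
  iSup_le fun S => le_iSup_of_le S
    (le_inf (le_iSup (fun S : Sylow p G => omegaCenterOf p (S : Subgroup G)) S)
      ((PGroups.omegaOne_le p _).trans inf_le_right))

theorem omegaCenterSup_le_center_pCore
    (hc : Subgroup.centralizer (Cfsg.pCore p G : Set G) ≤ Cfsg.pCore p G) :
    omegaCenterSup p G ≤ Cfsg.pCore p G ⊓ Subgroup.centralizer (Cfsg.pCore p G : Set G) := by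
  refine iSup_le fun S => ?_
  have h : omegaCenterOf p (S : Subgroup G) ≤ Subgroup.centralizer (Cfsg.pCore p G : Set G) :=
    (PGroups.omegaOne_le p _).trans (inf_le_right.trans
      (Subgroup.centralizer_le (Cores.pCore_le_sylow S)))
  exact le_inf (h.trans hc) h

theorem omegaCenterSup_elemAb
    (hc : Subgroup.centralizer (Cfsg.pCore p G : Set G) ≤ Cfsg.pCore p G) :
    Cfsg.IsElementaryAbelian p (omegaCenterSup p G) := by
  have hcomm := inf_centralizer_comm (Cfsg.pCore p G)
  have h := omegaCenterSup_le_center_pCore hc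
  have hle : omegaCenterSup p G ≤ omegaCenterOf p (Cfsg.pCore p G) := iSup_le fun S x hx =>
    PGroups.mem_omegaOne_of_pow (h (le_iSup (fun S : Sylow p G => omegaCenterOf p (S : Subgroup G)) S hx))
      ((omegaCenterOf_elemAb (S : Subgroup G)).2 x hx)
  exact PGroups.elemAb_mono (omegaCenterOf_elemAb _) hle

/-- `G` is Thompson factorizable when `J(G)` centralises the `Ω₁(Z(S))`. -/
theorem factorizable_of_le
    (h : Cfsg.thompsonSubgroup p G ≤ Subgroup.centralizer (omegaCenterSup p G : Set G)) :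
    Cfsg.IsThompsonFactorizable p G := by
  intro S g
  set C := Subgroup.centralizer (omegaCenterSup p G : Set G)
  have hJ : Cfsg.thompsonSubgroupOf p ((S : Subgroup G) ⊓ C) =
      Cfsg.thompsonSubgroupOf p (S : Subgroup G) :=
    PGroups.thompsonSubgroupOf_eq_of_le inf_le_left
      (le_inf (PGroups.thompsonSubgroupOf_le p _) ((thompsonSubgroupOf_sylow_le S).trans h))
  have hg : g ∈ C ⊔ Subgroup.normalizer (((S : Subgroup G) ⊓ C : Subgroup G) : Set G) := by
    rw [sup_comm, normalizer_inf_sup_eq_top]; trivial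
  obtain ⟨c, hc, n, hn, rfl⟩ := Subgroup.mem_sup_of_normal_left.mp hg
  refine ⟨1, one_mem _, c, ?_, n, ?_, by rw [one_mul]⟩
  · exact Subgroup.centralizer_le
      (SetLike.coe_subset_coe.mpr (le_iSup (fun S : Sylow p G => omegaCenterOf p (S : Subgroup G)) S)) hc
  · have := PGroups.normalizer_le_normalizer_thompson (p := p) _ hn
    rwa [hJ] at this

/-- Conversely, if `G = C_G(Ω₁Z(S)) N_G(J(S))` then `J(G)` centralises every `Ω₁(Z(S))`. -/
theorem le_of_factorizable (hO : Cfsg.pPrimeCore p G = ⊥) (h : Cfsg.IsThompsonFactorizable p G) :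
    Cfsg.thompsonSubgroup p G ≤ Subgroup.centralizer (omegaCenterSup p G : Set G) := by
  rw [thompsonSubgroup_eq_iSup, Subgroup.le_centralizer_iff]
  refine iSup_le fun S => ?_
  rw [Subgroup.le_centralizer_iff]
  refine iSup_le fun T => ?_
  obtain ⟨g, hg⟩ := MulAction.exists_smul_eq G S T
  obtain ⟨x, hx, c, hc, n, hn, rfl⟩ := h S g
  rw [hO, Subgroup.mem_bot] at hx
  subst hx
  have hJS : Cfsg.thompsonSubgroupOf p (S : Subgroup G) ≤
      Subgroup.centralizer (omegaCenterOf p (S : Subgroup G) : Set G) :=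
    (PGroups.thompsonSubgroupOf_le p _).trans (le_centralizer_omegaCenterOf _)
  rw [← hg, Sylow.coe_subgroup_smul, Subgroup.pointwise_smul_def]
  rw [show (MulDistribMulAction.toMonoidEnd (MulAut G) G) (MulAut.conj (1 * c * n)) =
    (MulAut.conj (1 * c * n)).toMonoidHom from rfl, ← PGroups.thompsonSubgroupOf_conj]
  rintro _ ⟨y, hy, rfl⟩
  have hy' : n * y * n⁻¹ ∈ Subgroup.centralizer (omegaCenterOf p (S : Subgroup G) : Set G) :=
    hJS ((Subgroup.mem_normalizer_iff.mp hn y).mp hy)
  have h2 := Subgroup.mul_mem _ (Subgroup.mul_mem _ hc hy') (Subgroup.inv_mem _ hc)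
  convert h2 using 1
  simp [mul_assoc]

end Max

end Cfsg.Agent.Lib.PLocal
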