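import Cfsg.Agent.Lib.PLocal.Action
import Cfsg.Agent.Lib.PLocal.Thompson
import Cfsg.Agent.Lib.PGroups.Omega
import Cfsg.Agent.Lib.PGroups.Thompson

/-!
# The stable normal closure of `Ω₁(Z(S))`

Owner: helper19. Natural behaviour under isomorphisms, the bounds
`Ω₁(Z(S)) ≤ W(S) ≤ Ω₁(Z(J(S)))`, and the fact that quadratic elements centralise `W(S)`.
-/

set_option autoImplicit false

namespace Cfsg.Agent.Lib.PLocal

open Subgroup
open scoped commutatorElement

universe u

section Quad

variable {G : Type*} [Group G] {V : Subgroup G}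

/-- Element form of quadratic action on an abelian subgroup. -/
theorem quad_iff [Finite G] (hV : IsMulCommutative V) {a : G}
    (ha : a ∈ Subgroup.normalizer (V : Set G)) :
    ⁅⁅V, Subgroup.zpowers a⁆, Subgroup.zpowers a⁆ = ⊥ ↔
      ∀ v ∈ V, a * ⁅v, a⁆ = ⁅v, a⁆ * a := by
  constructor
  · intro h v hv
    exact Subgroup.mem_centralizer_iff.mp
      (Subgroup.commutator_eq_bot_iff_le_centralizer.mp h
        (Subgroup.commutator_mem_commutator hv (Subgroup.mem_zpowers a))) a
      (Subgroup.mem_zpowers a)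
  · intro h
    rw [Subgroup.commutator_eq_bot_iff_le_centralizer, Subgroup.commutator_le]
    intro v hv b hb
    obtain ⟨n, rfl⟩ := mem_powers_iff_mem_zpowers.mpr hb
    have hvn : ⁅v, a ^ n⁆ = ⁅v, a⁆ ^ n := by
      have h1 := congrArg (·⁻¹) (pow_conj_eq (h v hv) n)
      simp only [mul_inv_rev, inv_pow, inv_inv, ← mul_assoc] at h1
      calc ⁅v, a ^ n⁆ = v * (a ^ n * v⁻¹ * (a ^ n)⁻¹) := by rw [commutatorElement_def]; group
        _ = v * (v⁻¹ * ⁅v, a⁆ ^ n) := by rw [h1]
        _ = ⁅v, a⁆ ^ n := mul_inv_cancel_left _ _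
    show ⁅v, a ^ n⁆ ∈ _
    rw [hvn]
    refine Subgroup.pow_mem _ (Subgroup.mem_centralizer_iff.mpr ?_) n
    rintro x ⟨k, rfl⟩
    exact (show Commute a ⁅v, a⁆ from h v hv).zpow_left k

/-- Multiplying by an element that centralises `V` does not affect quadratic action. -/
theorem quad_mul_iff [Finite G] (hV : IsMulCommutative V) {c s : G}
    (hc : c ∈ Subgroup.centralizer (V : Set G)) (hs : s ∈ Subgroup.normalizer (V : Set G)) :
    ⁅⁅V, Subgroup.zpowers (c * s)⁆, Subgroup.zpowers (c * s)⁆ = ⊥ ↔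
      ⁅⁅V, Subgroup.zpowers s⁆, Subgroup.zpowers s⁆ = ⊥ := by
  have hcs : c * s ∈ Subgroup.normalizer (V : Set G) :=
    mul_mem (Subgroup.centralizer_le_normalizer _ hc) hs
  rw [quad_iff hV hcs, quad_iff hV hs]
  refine forall₂_congr fun v hv => ?_
  have h1 : s * v⁻¹ * s⁻¹ ∈ V := (Subgroup.mem_normalizer_iff.mp hs _).mp (V.inv_mem hv)
  have h2 : ⁅v, c * s⁆ = ⁅v, s⁆ := by
    calc ⁅v, c * s⁆ = v * (c * (s * v⁻¹ * s⁻¹) * c⁻¹) := by rw [commutatorElement_def]; group
      _ = v * ((s * v⁻¹ * s⁻¹) * c * c⁻¹) := by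
        rw [Subgroup.mem_centralizer_iff.mp hc _ h1]
      _ = ⁅v, s⁆ := by rw [commutatorElement_def]; group
  rw [h2]
  have h3 : c * ⁅v, s⁆ = ⁅v, s⁆ * c :=
    (Subgroup.mem_centralizer_iff.mp hc _ (commutatorElement_mem hs hv)).symm
  rw [← mul_assoc ⁅v, s⁆ c s, ← h3, mul_assoc, mul_assoc, mul_right_inj]

/-- Conjugation preserves quadratic action on a normal subgroup. -/
theorem quad_conj [hn : V.Normal] {a : G} (g : G)
    (h : ⁅⁅V, Subgroup.zpowers a⁆, Subgroup.zpowers a⁆ = ⊥) :
    ⁅⁅V, Subgroup.zpowers (g * a * g⁻¹)⁆, Subgroup.zpowers (g * a * g⁻¹)⁆ = ⊥ := by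
  have h' := congrArg (Subgroup.map (MulAut.conj g).toMonoidHom) h
  rw [Subgroup.map_bot, Subgroup.map_commutator, Subgroup.map_commutator,
    MonoidHom.map_zpowers] at h'
  have hV : V.map (MulAut.conj g).toMonoidHom = V := Subgroup.Normal.map_conj_eq V g
  rw [hV] at h'
  exact h'

end Quad

section Natural

variable {G H : Type*} [Group G] [Group H] {p : ℕ}

theorem maxElemAbIn_top :
    PGroups.maxElemAbIn p (⊤ : Subgroup G) = Cfsg.maxElementaryAbelianSubgroups p G := by
  ext A
  simp [PGroups.maxElemAbIn, Cfsg.maxElementaryAbelianSubgroups]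

theorem thompsonSubgroupOf_top :
    Cfsg.thompsonSubgroupOf p (⊤ : Subgroup G) = Cfsg.thompsonSubgroup p G := by
  rw [PGroups.thompsonSubgroupOf_eq, maxElemAbIn_top, Cfsg.thompsonSubgroup]

theorem map_thompsonSubgroup (f : G →* H) (hf : Function.Injective f) :
    (Cfsg.thompsonSubgroup p G).map f = Cfsg.thompsonSubgroupOf p f.range := by
  rw [← thompsonSubgroupOf_top, PGroups.map_thompsonSubgroupOf f hf, ← MonoidHom.range_eq_map]

theorem omegaCenterThompson_eq :
    Cfsg.omegaCenterThompson p G = Cfsg.omegaOne p (Cfsg.centerThompsonOf p (⊤ : Subgroup G)) := by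
  rw [Cfsg.centerThompsonOf, thompsonSubgroupOf_top]; rfl

theorem map_omegaCenterThompson (f : G →* H) (hf : Function.Injective f) :
    (Cfsg.omegaCenterThompson p G).map f = Cfsg.omegaOne p (Cfsg.centerThompsonOf p f.range) := by
  rw [omegaCenterThompson_eq, PGroups.map_omegaOne_of_injective f hf,
    PGroups.map_centerThompsonOf f hf, ← MonoidHom.range_eq_map]

theorem thompsonSubgroup_map_equiv (e : G ≃* H) :
    (Cfsg.thompsonSubgroup p G).map e.toMonoidHom = Cfsg.thompsonSubgroup p H := by
  rw [map_thompsonSubgroup _ e.injective, MonoidHom.range_eq_top.mpr e.surjective,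
    thompsonSubgroupOf_top]

theorem omegaCenterThompson_map_equiv (e : G ≃* H) :
    (Cfsg.omegaCenterThompson p G).map e.toMonoidHom = Cfsg.omegaCenterThompson p H := by
  rw [map_omegaCenterThompson _ e.injective, MonoidHom.range_eq_top.mpr e.surjective,
    ← omegaCenterThompson_eq]

theorem omegaCenterThompson_elemAb :
    Cfsg.IsElementaryAbelian p (Cfsg.omegaCenterThompson p G) :=
  PGroups.elemAb_omegaOne (inf_centralizer_comm _)

theorem omegaCenter_map_equiv (e : G ≃* H) :
    (Cfsg.omegaOne p (Subgroup.center G)).map e.toMonoidHom =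
      Cfsg.omegaOne p (Subgroup.center H) := by
  rw [PGroups.map_omegaOne_of_injective _ e.injective]
  congr 1
  ext y
  constructor
  · rintro ⟨x, hx, rfl⟩
    refine Subgroup.mem_center_iff.mpr fun z => ?_
    obtain ⟨w, rfl⟩ := e.surjective z
    show e w * e x = e x * e w
    rw [← map_mul, ← map_mul, Subgroup.mem_center_iff.mp hx w]
  · intro hy
    obtain ⟨x, rfl⟩ := e.surjective y
    refine ⟨x, Subgroup.mem_center_iff.mpr fun w => e.injective ?_, rfl⟩
    rw [map_mul, map_mul]
    exact Subgroup.mem_center_iff.mp hy (e w)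

end Natural

section Closure

variable {p : ℕ} {S : Type u} [Group S]

theorem omegaCenter_le_closure :
    Cfsg.omegaOne p (Subgroup.center S) ≤ Cfsg.stableNormalClosure p S :=
  le_sInf fun _ hW => hW.1

theorem omegaCenter_le_omegaCenterThompson [Finite S] [Fact p.Prime] :
    Cfsg.omegaOne p (Subgroup.center S) ≤ Cfsg.omegaCenterThompson p S := by
  rw [omegaCenterThompson_eq, Cfsg.omegaOne, Subgroup.closure_le]
  rintro x ⟨hx, hxp⟩
  exact PGroups.mem_omegaOne_of_pow (PGroups.mem_centerThompsonOf_of_center (Subgroup.mem_top x)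
    (fun y _ => (Subgroup.mem_center_iff.mp hx y).symm) hxp) hxp

theorem omegaCenterThompson_map_normal {H : Type u} [Group H] {τ : S →* H}
    (hτ : Cfsg.IsStableEmbedding p τ) : ((Cfsg.omegaCenterThompson p S).map τ).Normal := by
  rw [map_omegaCenterThompson τ hτ.1]
  have hJ := hτ.2.2.2.2.1
  rw [map_thompsonSubgroup τ hτ.1] at hJ
  haveI := hJ
  haveI : (Cfsg.centerThompsonOf p τ.range).Normal := Subgroup.normal_inf_normal _ _
  exact PGroups.omegaOne_normal

theorem closure_le_omegaCenterThompson [Finite S] [Fact p.Prime] :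
    Cfsg.stableNormalClosure p S ≤ Cfsg.omegaCenterThompson p S :=
  sInf_le ⟨omegaCenter_le_omegaCenterThompson, fun _ _ _ hτ => omegaCenterThompson_map_normal hτ⟩

theorem closure_elemAb [Finite S] [Fact p.Prime] :
    Cfsg.IsElementaryAbelian p (Cfsg.stableNormalClosure p S) :=
  PGroups.elemAb_mono omegaCenterThompson_elemAb closure_le_omegaCenterThompson

theorem closure_map_normal [Finite S] [Fact p.Prime] {H : Type u} [Group H] {τ : S →* H}
    (hτ : Cfsg.IsStableEmbedding p τ) : ((Cfsg.stableNormalClosure p S).map τ).Normal := by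
  refine ⟨?_⟩
  rintro _ ⟨w, hw, rfl⟩ g
  obtain ⟨w₀, -, hw₀⟩ := (omegaCenterThompson_map_normal hτ).conj_mem _
    (Subgroup.mem_map_of_mem τ (closure_le_omegaCenterThompson hw)) g
  refine ⟨w₀, Subgroup.mem_sInf.mpr fun W hW => ?_, hw₀⟩
  obtain ⟨w₁, hw₁, hw₁'⟩ := (hW.2 H τ hτ).conj_mem _
    (Subgroup.mem_map_of_mem τ ((Subgroup.mem_sInf.mp hw) W hW)) g
  exact hτ.1 (hw₁'.trans hw₀.symm) ▸ hw₁

theorem closure_ne_bot [Finite S] [Fact p.Prime] [Nontrivial S] (hS : IsPGroup p S) :
    Cfsg.stableNormalClosure p S ≠ ⊥ := by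
  have h0 : Subgroup.center S ≠ ⊥ :=
    (Subgroup.nontrivial_iff_ne_bot _).mp hS.center_nontrivial
  exact fun h => PGroups.omegaOne_ne_bot (hS.to_subgroup _) h0
    (le_bot_iff.mp (omegaCenter_le_closure.trans h.le))

theorem isStableEmbedding_comp {T : Type u} [Group T] (η : S ≃* T) {H : Type u} [Group H]
    {τ : T →* H} (hτ : Cfsg.IsStableEmbedding p τ) :
    Cfsg.IsStableEmbedding p (τ.comp η.toMonoidHom) := by
  obtain ⟨hi, hfin, ⟨P, hP⟩, hc, hJ, hst⟩ := hτ
  have hr : (τ.comp η.toMonoidHom).range = τ.range := by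
    rw [MonoidHom.range_comp, MonoidHom.range_eq_top.mpr η.surjective, ← MonoidHom.range_eq_map]
  refine ⟨hi.comp η.injective, hfin, ⟨P, hP.trans hr.symm⟩, hc, ?_, fun V _ hV => hst V ?_⟩
  · rw [← Subgroup.map_map, thompsonSubgroup_map_equiv]
    exact hJ
  · rwa [← omegaCenterThompson_map_equiv η, Subgroup.map_map]

theorem closure_le_comap_equiv {T : Type u} [Group T] (η : S ≃* T) :
    Cfsg.stableNormalClosure p S ≤ (Cfsg.stableNormalClosure p T).comap η.toMonoidHom := by
  intro x hx
  refine Subgroup.mem_sInf.mpr fun W hW => ?_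
  have h : W.comap η.toMonoidHom ∈ {W : Subgroup S | Cfsg.omegaOne p (Subgroup.center S) ≤ W ∧
      ∀ (H : Type u) [Group H] (τ : S →* H), Cfsg.IsStableEmbedding p τ → (W.map τ).Normal} := by
    refine ⟨?_, fun H _ τ hτ => ?_⟩
    · rw [← Subgroup.map_le_iff_le_comap, omegaCenter_map_equiv]
      exact hW.1
    · have h1 := hW.2 H _ (isStableEmbedding_comp η.symm hτ)
      rw [← Subgroup.map_map] at h1
      convert h1 using 2
      ext y
      simp only [Subgroup.mem_comap, Subgroup.mem_map, MulEquiv.coe_toMonoidHom]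
      exact ⟨fun hy => ⟨η y, hy, η.symm_apply_apply y⟩,
        fun ⟨z, hz, hzy⟩ => by rw [← hzy, η.apply_symm_apply]; exact hz⟩
  exact Subgroup.mem_sInf.mp hx _ h

theorem closure_map_equiv {T : Type u} [Group T] (η : S ≃* T) :
    (Cfsg.stableNormalClosure p S).map η.toMonoidHom = Cfsg.stableNormalClosure p T := by
  refine le_antisymm (Subgroup.map_le_iff_le_comap.mpr (closure_le_comap_equiv η)) fun y hy => ?_
  exact ⟨η.symm y, closure_le_comap_equiv η.symm hy, η.apply_symm_apply y⟩

theorem closure_characteristic : (Cfsg.stableNormalClosure p S).Characteristic :=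
  Subgroup.characteristic_iff_map_eq.mpr fun φ => closure_map_equiv φ

/-- Every element acting quadratically on `W(S)` centralises it. -/
theorem quad_centralizes [Finite S] [hp : Fact p.Prime] {x : S}
    (hx : ⁅⁅Cfsg.stableNormalClosure p S, Subgroup.zpowers x⁆, Subgroup.zpowers x⁆ = ⊥) :
    ⁅Cfsg.stableNormalClosure p S, Subgroup.zpowers x⁆ = ⊥ := by
  set W := Cfsg.stableNormalClosure p S with hW
  let Q : Subgroup S := Subgroup.closure
    {x | ⁅⁅W, Subgroup.zpowers x⁆, Subgroup.zpowers x⁆ = ⊥}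
  have key : W ≤ fixOn W Q := by
    refine sInf_le ⟨le_inf omegaCenter_le_closure ?_, fun H _ τ hτ => ?_⟩
    · exact ((PGroups.omegaOne_le p _).trans (Subgroup.center_le_centralizer _))
    haveI : Finite H := hτ.2.1
    obtain ⟨P, hP⟩ := hτ.2.2.1
    haveI hWn : (W.map τ).Normal := closure_map_normal hτ
    have hWab : IsMulCommutative ↥(W.map τ) := (PGroups.elemAb_map τ closure_elemAb).1
    have hst := hτ.2.2.2.2.2 (W.map τ) (Subgroup.map_mono closure_le_omegaCenterThompson)
    -- the elements of `H` that are quadratic on `W`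
    let QH : Subgroup H := Subgroup.closure
      {h | ⁅⁅W.map τ, Subgroup.zpowers h⁆, Subgroup.zpowers h⁆ = ⊥}
    haveI hQn : QH.Normal := by
      refine ⟨fun y hy g => ?_⟩
      induction hy using Subgroup.closure_induction with
      | mem z hz => exact Subgroup.subset_closure (quad_conj g hz)
      | one => simp
      | mul a b _ _ ha hb =>
        have := QH.mul_mem ha hb
        simpa [mul_assoc] using this
      | inv a _ ha => simpa [mul_assoc] using QH.inv_mem ha
    have hfix : (fixOn W Q).map τ = fixOn (W.map τ) QH := by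
      refine le_antisymm ?_ ?_
      · rintro _ ⟨w, hw, rfl⟩
        refine ⟨Subgroup.mem_map_of_mem τ hw.1, ?_⟩
        have hle : QH ≤ Subgroup.centralizer {τ w} := by
          refine (Subgroup.closure_le _).mpr fun h hh => ?_
          rw [SetLike.mem_coe, Subgroup.mem_centralizer_singleton_iff]
          set C := Subgroup.centralizer ((W.map τ : Subgroup H) : Set H) with hC
          haveI hCn : C.Normal := Subgroup.normal_centralizer
          let D : Subgroup H := (Cfsg.pCore p (H ⧸ C)).comap (QuotientGroup.mk' C)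
          have hCD : C ≤ D := fun c hc => by
            show QuotientGroup.mk' C c ∈ Cfsg.pCore p (H ⧸ C)
            rw [show QuotientGroup.mk' C c = 1 from (QuotientGroup.eq_one_iff c).mpr hc]
            exact Subgroup.one_mem _
          obtain ⟨k, hk⟩ : ∃ k, C.relIndex D = p ^ k := by
            obtain ⟨k, hk⟩ := (Cores.pCore_isPGroup (G := H ⧸ C) p).exists_card_eq
            refine ⟨k, ?_⟩
            rw [← hk, ← Subgroup.relIndex_bot_left,
              ← Subgroup.map_comap_eq_self_of_surjective (QuotientGroup.mk'_surjective C)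
                (Cfsg.pCore p (H ⧸ C)), ← Subgroup.relIndex_comap, MonoidHom.comap_bot,
              QuotientGroup.ker_mk']
          have hD : h ∈ C ⊔ ((P : Subgroup H) ⊓ D) := le_sup_inf_of_relIndex P hCD hk (hst h hh)
          rw [← SetLike.mem_coe, Subgroup.normal_mul] at hD
          obtain ⟨c, hc, s, hs, rfl⟩ := hD
          obtain ⟨t, rfl⟩ : s ∈ τ.range := hP ▸ hs.1
          have hqt : t ∈ Q := by
            refine Subgroup.subset_closure ?_
            have h2 := (quad_mul_iff hWab hc
              (by rw [Subgroup.normalizer_eq_top_iff.mpr hWn]; exact Subgroup.mem_top _)).mp hh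
            show ⁅⁅W, Subgroup.zpowers t⁆, Subgroup.zpowers t⁆ = ⊥
            refine (Subgroup.map_eq_bot_iff_of_injective _ hτ.1).mp ?_
            rw [Subgroup.map_commutator, Subgroup.map_commutator, MonoidHom.map_zpowers]
            exact h2
          have h3 : τ t * τ w = τ w * τ t := by
            rw [← map_mul, ← map_mul, (Subgroup.mem_centralizer_iff.mp hw.2 t hqt)]
          have h4 : τ w * c = c * τ w :=
            Subgroup.mem_centralizer_iff.mp hc _ (Subgroup.mem_map_of_mem τ hw.1)
          rw [mul_assoc, h3, ← mul_assoc, ← h4, mul_assoc]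
        exact Subgroup.mem_centralizer_iff.mpr fun h hh =>
          Subgroup.mem_centralizer_singleton_iff.mp (hle hh)
      · rintro _ ⟨⟨w, hw, rfl⟩, hwc⟩
        refine ⟨w, ⟨hw, ?_⟩, rfl⟩
        refine Subgroup.mem_centralizer_iff.mpr fun t ht => hτ.1 ?_
        rw [map_mul, map_mul]
        refine Subgroup.mem_centralizer_iff.mp hwc _ ?_
        have hQ : Q.map τ ≤ QH := by
          rw [MonoidHom.map_closure]
          refine Subgroup.closure_mono ?_
          rintro _ ⟨z, hz, rfl⟩
          show ⁅⁅W.map τ, Subgroup.zpowers (τ z)⁆, Subgroup.zpowers (τ z)⁆ = ⊥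
          rw [← MonoidHom.map_zpowers, ← Subgroup.map_commutator, ← Subgroup.map_commutator,
            show ⁅⁅W, Subgroup.zpowers z⁆, Subgroup.zpowers z⁆ = ⊥ from hz, Subgroup.map_bot]
        exact hQ (Subgroup.mem_map_of_mem τ ht)
    rw [hfix]
    exact Subgroup.normal_inf_normal _ _
  rw [Subgroup.commutator_eq_bot_iff_le_centralizer]
  exact (key.trans inf_le_right).trans
    (Subgroup.centralizer_le (Subgroup.zpowers_le.mpr (Subgroup.subset_closure hx)))

end Closure

end Cfsg.Agent.Lib.PLocal
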