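import Cfsg.Agent.Lib.PLocal.ActionQuotient
import Cfsg.Agent.Lib.PLocal.StableClosure
import Cfsg.Agent.Lib.PLocal.Sections
import Cfsg.Agent.Lib.Quadratic.Involves
import Cfsg.Agent.Lib.PGroups.Frattini

/-!
# Groups without an `SL(2,p)` section are `p`-stable in the action sense

Owner: helper19.
-/

set_option autoImplicit false

namespace Cfsg.Agent.Lib.PLocal

open Subgroup
open scoped commutatorElement

universe u

/-- No subgroup of `G` maps onto `SL(2,p)`. -/
def NoSLTwo (p : ℕ) (G : Type u) [Group G] : Prop :=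
  ∀ (K : Subgroup G) (f : K →* Matrix.SpecialLinearGroup (Fin 2) (ZMod p)), ¬ Function.Surjective f

variable {G : Type u} [Group G] {p : ℕ}

theorem noSLTwo_subgroup (h : NoSLTwo p G) (H : Subgroup G) : NoSLTwo p H := fun K f hf => by
  let e := (K.equivMapOfInjective H.subtype H.subtype_injective).symm
  exact h (K.map H.subtype) (f.comp e.toMonoidHom) (hf.comp e.surjective)

theorem noSLTwo_of_surjective {H : Type u} [Group H] (h : NoSLTwo p G) (π : G →* H)
    (hπ : Function.Surjective π) : NoSLTwo p H := fun K f hf => by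
  refine h (K.comap π) (f.comp ((π.comp (K.comap π).subtype).codRestrict K fun x => x.2))
    (hf.comp ?_)
  rintro ⟨y, hy⟩
  obtain ⟨x, rfl⟩ := hπ y
  exact ⟨⟨x, hy⟩, rfl⟩

theorem noSLTwo_of_abelian_sylow_two [Finite G] [Fact p.Prime] (hp : p ≠ 2) (T : Sylow 2 G)
    (hT : IsMulCommutative T) : NoSLTwo p G := fun K f hf => by
  obtain ⟨P, hP, x, hx, y, hy, hne⟩ := Sections.exists_noncomm_two (p := p) hp
  exact hne (Sections.two_subgroup_comm_of_section T hT f hf hP x hx y hy)

theorem noSLTwo_of_isPSolvable [Finite G] [Fact p.Prime] (hp : 5 ≤ p)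
    (hsep : Cfsg.IsPSolvable p G) : NoSLTwo p G := fun K f hf =>
  Sections.not_isPSolvable_sl2 hp
    (PSolvable.isPSolvable_of_surjective f hf (PSolvable.isPSolvable_subgroup hsep K))

/-- A quadratic element on a normal elementary abelian `p`-subgroup lands in `O_p(G/C_G(V))`. -/
theorem isPStableOn_of_noSLTwo [Finite G] [Fact p.Prime] (hp : p ≠ 2) (hG : NoSLTwo p G)
    (V : Subgroup G) [V.Normal] (hV : Cfsg.IsElementaryAbelian p V) : Cfsg.IsPStableOn p V := by
  intro a ha
  by_contra hna
  let e : (G ⧸ Subgroup.centralizer (V : Set G)) ≃* ↥(actH V) :=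
    MonoidHom.ofInjective SemidirectProduct.inr_injective
  have hxH : actHom V a ∈ actH V := (actHom_range V) ▸ ⟨a, rfl⟩
  have hq : Quadratic.Quad (actV V) (actHom V a) := by
    rintro _ ⟨v, rfl⟩
    have haN : a ∈ Subgroup.normalizer (V : Set G) := by
      rw [Subgroup.normalizer_eq_top]; trivial
    have hcm : ∀ w : V, ⁅actEmb V w, actHom V a⁆ =
        actEmb V ⟨⁅(w : G), a⁆, commutatorElement_mem haN w.2⟩ := by
      intro w
      have h1 : ⁅actEmb V w, actHom V a⁆ =
          actEmb V w * (actHom V a * actEmb V w⁻¹ * (actHom V a)⁻¹) := by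
        rw [commutatorElement_def, map_inv]; group
      rw [h1, actHom_conj, ← map_mul]
      congr 1
      apply Subtype.ext
      show (w : G) * ((MulAut.conjNormal a w⁻¹ : V) : G) = ⁅(w : G), a⁆
      rw [MulAut.conjNormal_apply, Subgroup.coe_inv, commutatorElement_def]
      group
    show ⁅⁅actEmb V v, actHom V a⁆, actHom V a⁆ = 1
    rw [hcm, hcm, map_eq_one_iff _ (actEmb_injective V)]
    exact Subtype.ext (Quadratic.quad_of_commutator_eq_bot ha (v : G) v.2)
  obtain ⟨K, L, hL, hKH, ⟨i⟩⟩ := Quadratic.exists_section_of_notMem_pCore hp (actV_elemAb V hV)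
    (actH_le_normalizer V) (actH_faithful V) hxH hq (fun h => hna (by
      rw [← Cores.map_pCore_equiv e] at h
      obtain ⟨y, hy, hye⟩ := h
      have hy' : y = QuotientGroup.mk a := e.injective (hye.trans (Subtype.ext rfl))
      exact hy' ▸ hy))
  have hno : NoSLTwo p ↥(actH V) :=
    noSLTwo_of_surjective (noSLTwo_of_surjective hG (QuotientGroup.mk'
      (Subgroup.centralizer (V : Set G))) (QuotientGroup.mk'_surjective _)) e.toMonoidHom e.surjective
  let j : (K.subgroupOf (actH V)) ≃* K := Subgroup.subgroupOfEquivOfLe hKH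
  exact hno (K.subgroupOf (actH V))
    ((i.toMonoidHom.comp (QuotientGroup.mk' (L.subgroupOf K))).comp j.toMonoidHom)
    ((i.surjective.comp (QuotientGroup.mk'_surjective _)).comp j.surjective)

/-- `P / Φ(P)` is elementary abelian. -/
theorem elemAb_frattini_image [Finite G] [Fact p.Prime] {P : Subgroup G} (hP : IsPGroup p P)
    [hn : ((frattini ↥P).map P.subtype).Normal] :
    Cfsg.IsElementaryAbelian p (P.map (QuotientGroup.mk' ((frattini ↥P).map P.subtype))) := by
  refine PGroups.elemAb_mk ?_ ?_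
  · rintro _ ⟨x, hx, rfl⟩ _ ⟨y, hy, rfl⟩
    rw [← map_mul, ← map_mul, QuotientGroup.mk'_apply, QuotientGroup.mk'_apply, QuotientGroup.eq]
    refine ⟨⁅(⟨y, hy⟩ : P)⁻¹, (⟨x, hx⟩ : P)⁻¹⁆, PGroups.commutatorElement_mem_frattini hP _ _, ?_⟩
    simp [commutatorElement_def, mul_assoc]
  · rintro _ ⟨x, hx, rfl⟩
    rw [← map_pow, QuotientGroup.mk'_apply, QuotientGroup.eq_one_iff]
    exact ⟨(⟨x, hx⟩ : P) ^ p, PGroups.pow_mem_frattini hP _, rfl⟩

/-- The action-level `p`-stability of groups without a section `SL(2,p)`. -/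
theorem isActionPStable_of_noSLTwo [Finite G] [Fact p.Prime] (hp : p ≠ 2) (hG : NoSLTwo p G) :
    Cfsg.IsActionPStable p G := by
  refine ⟨fun V _ hV => isPStableOn_of_noSLTwo hp hG V hV, ?_, fun S V _ hV => ?_⟩
  · haveI hN : ((frattini ↥(Cfsg.pCore p G)).map (Cfsg.pCore p G).subtype).Normal :=
      Cores.normal_map_subtype (Cfsg.pCore p G) (frattini ↥(Cfsg.pCore p G))
    set N := (frattini ↥(Cfsg.pCore p G)).map (Cfsg.pCore p G).subtype with hNdef
    set W := (Cfsg.pCore p G).map (QuotientGroup.mk' N) with hWdef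
    haveI hW : W.Normal := Subgroup.Normal.map inferInstance _ (QuotientGroup.mk'_surjective N)
    intro a ha
    have hq : ⁅⁅W, Subgroup.zpowers (QuotientGroup.mk' N a)⁆,
        Subgroup.zpowers (QuotientGroup.mk' N a)⁆ = ⊥ := by
      rw [← MonoidHom.map_zpowers, ← Subgroup.map_commutator, ← Subgroup.map_commutator,
        Subgroup.map_eq_bot_iff, QuotientGroup.ker_mk']
      exact ha
    have hmem := isPStableOn_of_noSLTwo hp
      (noSLTwo_of_surjective hG _ (QuotientGroup.mk'_surjective N)) W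
      (elemAb_frattini_image (Cores.pCore_isPGroup p)) _ hq
    set C := Subgroup.centralizer (W : Set (G ⧸ N)) with hC
    let f : G →* (G ⧸ N) ⧸ C := (QuotientGroup.mk' C).comp (QuotientGroup.mk' N)
    have hf : Function.Surjective f :=
      (QuotientGroup.mk'_surjective C).comp (QuotientGroup.mk'_surjective N)
    have hker : f.ker = Cfsg.sectionKernel (Cfsg.pCore p G) N := by
      rw [← MonoidHom.comap_ker, QuotientGroup.ker_mk']
      rfl
    refine ⟨(Cfsg.pCore p ((G ⧸ N) ⧸ C)).comap f, inferInstance, ?_, ?_, hmem⟩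
    · rw [← hker]
      exact fun x hx => by
        show f x ∈ Cfsg.pCore p ((G ⧸ N) ⧸ C)
        rw [show f x = 1 from hx]
        exact Subgroup.one_mem _
    · obtain ⟨k, hk⟩ := (Cores.pCore_isPGroup (G := (G ⧸ N) ⧸ C) p).exists_card_eq
      refine ⟨k, ?_⟩
      rw [← hker, Subgroup.relIndex_ker, Subgroup.map_comap_eq_self_of_surjective hf, hk]
  · refine isPStableOn_of_noSLTwo hp (noSLTwo_subgroup hG _) V ?_
    refine PGroups.elemAb_of_map _ (Subgroup.subtype_injective _) ?_
    exact PGroups.elemAb_mono (PGroups.elemAb_map _ omegaCenterThompson_elemAb) hV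

end Cfsg.Agent.Lib.PLocal
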