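import Cfsg.Agent.Lib.PLocal.Replacement
import Mathlib.GroupTheory.Sylow
import Mathlib.Algebra.BigOperators.Group.Finset.Basic
import Mathlib.Data.ZMod.Basic
import Mathlib.Algebra.Field.ZMod

/-!
# Generation of a `p'`-group by the centralisers of hyperplanes

Owner: helper19.
-/

namespace Cfsg.Agent.Lib.PLocal

open Subgroup
open scoped commutatorElement Pointwise

variable {p : ℕ}

theorem prod_range_fixed {W : Type*} [CommGroup W] (f : MulAut W) (w : W) {n : ℕ}
    (hf : (f ^ n) w = w) :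
    f (∏ i ∈ Finset.range n, (f ^ i) w) = ∏ i ∈ Finset.range n, (f ^ i) w := by
  rw [map_prod]
  have h1 : ∀ i, f ((f ^ i) w) = (f ^ (i + 1)) w := fun i => by rw [pow_succ', MulAut.mul_apply]
  simp only [h1]
  have h2 := Finset.prod_range_succ (fun i => (f ^ i) w) n
  have h3 := Finset.prod_range_succ' (fun i => (f ^ i) w) n
  simp only [pow_zero, MulAut.one_apply] at h3
  simp only [hf] at h2
  rw [h2] at h3
  exact (mul_right_cancel h3).symm

/-- Two commuting automorphisms of order dividing `p` of an abelian `p'`-group: some nontrivial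
combination fixes a nontrivial element. -/
theorem exists_fixed_of_two [Fact p.Prime] {W : Type*} [CommGroup W] [Finite W] [Nontrivial W]
    (hW : (Nat.card W).Coprime p) (f g : MulAut W) (hfg : Commute f g) (hf : f ^ p = 1)
    (hg : g ^ p = 1) :
    (∃ w : W, w ≠ 1 ∧ g w = w) ∨ ∃ k : ℕ, k < p ∧ ∃ w : W, w ≠ 1 ∧ (f * g ^ k) w = w := by
  by_contra hcon
  push Not at hcon
  obtain ⟨hb, hab⟩ := hcon
  obtain ⟨w, hw⟩ := exists_ne (1 : W)
  have hN : ∀ x : MulAut W, x ^ p = 1 → (∀ w : W, w ≠ 1 → x w ≠ w) →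
      ∀ w : W, ∏ i ∈ Finset.range p, (x ^ i) w = 1 := by
    intro x hx hfree w
    by_contra h
    exact hfree _ h (prod_range_fixed x w (by rw [hx]; rfl))
  have hNb := hN g hg hb
  have hdouble : ∏ k ∈ Finset.range p, ∏ i ∈ Finset.range p, ((f * g ^ k) ^ i) w = 1 := by
    refine Finset.prod_eq_one fun k hk => hN _ ?_ (fun w hw => hab k (Finset.mem_range.mp hk) w hw) w
    rw [(hfg.pow_right k).mul_pow, hf, one_mul, ← pow_mul, mul_comm k p, pow_mul, hg, one_pow]
  rw [Finset.prod_comm] at hdouble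
  have hp := (Fact.out : p.Prime)
  have hinner : ∀ i ∈ Finset.range p, i ≠ 0 →
      ∏ k ∈ Finset.range p, ((f * g ^ k) ^ i) w = 1 := by
    intro i hi hi0
    have e : ∀ k, ((f * g ^ k) ^ i) w = (f ^ i) ((g ^ (k * i % p)) w) := by
      intro k
      rw [(hfg.pow_right k).mul_pow, ← pow_mul, MulAut.mul_apply, pow_eq_pow_mod (k * i) hg]
    simp only [e]
    rw [← map_prod]
    have hperm : ∏ k ∈ Finset.range p, (g ^ (k * i % p)) w = ∏ k ∈ Finset.range p, (g ^ k) w := by
      refine Finset.prod_bij' (fun k _ => k * i % p)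
        (fun j _ => (((j : ZMod p) * (i : ZMod p)⁻¹)).val) ?_ ?_ ?_ ?_ ?_
      · intro k _; exact Finset.mem_range.mpr (Nat.mod_lt _ hp.pos)
      · intro j _; exact Finset.mem_range.mpr (ZMod.val_lt _)
      · intro k hk
        have hi' : (i : ZMod p) ≠ 0 := by
          rw [Ne, ZMod.natCast_eq_zero_iff]
          exact fun h => hi0 (Nat.eq_zero_of_dvd_of_lt h (Finset.mem_range.mp hi))
        rw [ZMod.natCast_mod, Nat.cast_mul, mul_assoc, mul_inv_cancel₀ hi', mul_one,
          ZMod.val_cast_of_lt (Finset.mem_range.mp hk)]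
      · intro j hj
        have hi' : (i : ZMod p) ≠ 0 := by
          rw [Ne, ZMod.natCast_eq_zero_iff]
          exact fun h => hi0 (Nat.eq_zero_of_dvd_of_lt h (Finset.mem_range.mp hi))
        rw [← ZMod.val_natCast, Nat.cast_mul, ZMod.natCast_zmod_val, mul_assoc,
          inv_mul_cancel₀ hi', mul_one, ZMod.val_cast_of_lt (Finset.mem_range.mp hj)]
      · intro k _; rfl
    rw [hperm, hNb, map_one]
  rw [Finset.prod_eq_single_of_mem 0 (Finset.mem_range.mpr hp.pos) hinner] at hdouble
  simp only [pow_zero, MulAut.one_apply, Finset.prod_const, Finset.card_range] at hdouble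
  exact hw ((powCoprime hW).injective (by simpa [powCoprime] using hdouble))

variable {G : Type*} [Group G] [Finite G] [hp : Fact p.Prime]

/-- An abelian `p'`-group with an elementary abelian `p`-group acting has a nontrivial element fixed
by a subgroup of index at most `p`. -/
theorem exists_hyperplane_fix {A W : Subgroup G} (hA : Cfsg.IsElementaryAbelian p A)
    (hAW : A ≤ Subgroup.normalizer (W : Set G)) (hWc : IsMulCommutative W)
    (hW : (Nat.card W).Coprime p) (hne : W ≠ ⊥) :
    ∃ B : Subgroup G, B ≤ A ∧ B.relIndex A ≤ p ∧ fixOn W B ≠ ⊥ := by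
  -- strong induction on `|A|`
  suffices key : ∀ (n : ℕ) (A W : Subgroup G), Nat.card A ≤ n → Cfsg.IsElementaryAbelian p A →
      A ≤ Subgroup.normalizer (W : Set G) → IsMulCommutative W → (Nat.card W).Coprime p → W ≠ ⊥ →
      ∃ B : Subgroup G, B ≤ A ∧ B.relIndex A ≤ p ∧ fixOn W B ≠ ⊥ from
    key _ A W le_rfl hA hAW hWc hW hne
  intro n
  induction n with
  | zero =>
    intro A W hn
    exact absurd hn (by have := Nat.card_pos (α := A); omega)
  | succ n ih =>
    intro A W hn hA hAW hWc hW hne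
    by_cases hsmall : Nat.card A ≤ p
    · refine ⟨⊥, bot_le, by rwa [Subgroup.relIndex_bot_left], by rwa [fixOn_bot]⟩
    push Not at hsmall
    have hA1 : A ≠ ⊥ := by
      rintro rfl; rw [Subgroup.card_bot] at hsmall; exact absurd hp.out.one_lt (by omega)
    obtain ⟨b, hbA, hb⟩ := (Subgroup.bot_or_exists_ne_one A).resolve_left hA1
    have hbord : orderOf b = p := PGroups.elemAb_orderOf hA hbA hb
    obtain ⟨a, haA, hab⟩ : ∃ a ∈ A, a ∉ Subgroup.zpowers b := by
      by_contra h
      push Not at h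
      have := Subgroup.card_le_of_le (show A ≤ Subgroup.zpowers b from h)
      rw [Nat.card_zpowers, hbord] at this
      omega
    -- some nontrivial element of `⟨a, b⟩` has a nontrivial fixed point
    obtain ⟨c, hcA, hc1, hcfix⟩ : ∃ c ∈ A, c ≠ 1 ∧ fixOn W (Subgroup.zpowers c) ≠ ⊥ := by
      let _ : CommGroup W := { (inferInstance : Group W) with mul_comm := hWc.is_comm.comm }
      have : Nontrivial W := (Subgroup.nontrivial_iff_ne_bot W).mpr hne
      let φ : A →* MulAut W := (Subgroup.normalizerMonoidHom W).comp (Subgroup.inclusion hAW)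
      have hpow : ∀ x : A, φ x ^ p = 1 := fun x => by
        rw [← map_pow, show x ^ p = 1 from Subtype.ext (by simpa using hA.2 x x.2), map_one]
      have hcomm : Commute (φ ⟨a, haA⟩) (φ ⟨b, hbA⟩) :=
        Commute.map (show Commute (⟨a, haA⟩ : A) ⟨b, hbA⟩ from
          Subtype.ext (PGroups.elemAb_comm hA haA hbA)) φ
      have hfix : ∀ x : A, (∃ w : W, w ≠ 1 ∧ φ x w = w) →
          fixOn W (Subgroup.zpowers (x : G)) ≠ ⊥ := by
        rintro x ⟨w, hw1, hw⟩ hbot
        have hmem : (w : G) ∈ fixOn W (Subgroup.zpowers (x : G)) := by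
          refine mem_fixOn.mpr ⟨w.2, fun y hy => ?_⟩
          obtain ⟨k, rfl⟩ := hy
          have h' : (x : G) * w * (x : G)⁻¹ = w := congrArg Subtype.val hw
          have : Commute (x : G) w := by
            rw [Commute, SemiconjBy]; nth_rw 2 [← h']; group
          exact this.zpow_left k
        rw [hbot, Subgroup.mem_bot] at hmem
        exact hw1 (Subtype.ext hmem)
      rcases exists_fixed_of_two hW _ _ hcomm (hpow _) (hpow _) with h | ⟨k, -, h⟩
      · exact ⟨b, hbA, hb, hfix ⟨b, hbA⟩ h⟩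
      · refine ⟨a * b ^ k, A.mul_mem haA (A.pow_mem hbA k), fun h1 => hab ?_,
          hfix ⟨a * b ^ k, A.mul_mem haA (A.pow_mem hbA k)⟩ ?_⟩
        · rw [eq_inv_of_mul_eq_one_left h1]
          exact Subgroup.inv_mem _ (Subgroup.pow_mem _ (Subgroup.mem_zpowers b) k)
        · obtain ⟨w, hw, hw'⟩ := h
          refine ⟨w, hw, ?_⟩
          rw [← map_pow, ← map_mul] at hw'
          exact hw'
    -- pass to a complement of `⟨c⟩`
    set W₁ := fixOn W (Subgroup.zpowers c) with hW₁
    obtain ⟨A₁, hA₁max, hA₁⟩ : ∃ A₁ : Subgroup G, (A₁ ≤ A ∧ c ∉ A₁) ∧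
        ∀ A₂ : Subgroup G, A₂ ≤ A → c ∉ A₂ → A₁ ≤ A₂ → A₁ = A₂ := by
      obtain ⟨A₁, h₁, hmax⟩ := Set.Finite.exists_maximal
        (s := {B : Subgroup G | B ≤ A ∧ c ∉ B}) (Set.toFinite _) ⟨⊥, bot_le, by simpa using hc1⟩
      exact ⟨A₁, h₁, fun A₂ h h' hle => le_antisymm hle (hmax ⟨h, h'⟩ hle)⟩
    have hcord : orderOf c = p := PGroups.elemAb_orderOf hA hcA hc1
    have hAeq : A ≤ A₁ ⊔ Subgroup.zpowers c := by
      intro x hx
      by_cases hxA : x ∈ A₁
      · exact Subgroup.mem_sup_left hxA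
      have hcx : c ∈ A₁ ⊔ Subgroup.zpowers x := by
        by_contra hc'
        exact hxA ((hA₁ _ (sup_le hA₁max.1 (Subgroup.zpowers_le.mpr hx)) hc' le_sup_left).symm ▸
          Subgroup.mem_sup_right (Subgroup.mem_zpowers x))
      have hn : A₁ ≤ Subgroup.normalizer (Subgroup.zpowers x : Set G) := fun y hy =>
        Subgroup.centralizer_le_normalizer _ (Subgroup.mem_centralizer_iff.mpr fun z hz =>
          PGroups.elemAb_comm hA (Subgroup.zpowers_le.mpr hx hz) (hA₁max.1 hy))
      have hcx' : c ∈ ((A₁ : Set G) * (Subgroup.zpowers x : Set G)) := by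
        rw [← Subgroup.coe_mul_of_left_le_normalizer_right _ _ hn]; exact hcx
      obtain ⟨y, hy, _, ⟨k, rfl⟩, hk⟩ := hcx'
      -- `x ^ k` is a generator of `⟨x⟩`
      have hxk : x ^ k ≠ 1 := fun h => hA₁max.2 (by rw [← hk]; simpa [h] using hy)
      have hx1 : x ≠ 1 := fun h => hxA (h ▸ A₁.one_mem)
      have hgen : x ∈ Subgroup.zpowers (x ^ k) := by
        have hsub : Subgroup.zpowers (x ^ k) ≤ Subgroup.zpowers x :=
          Subgroup.zpowers_le.mpr (Subgroup.zpow_mem _ (Subgroup.mem_zpowers x) k)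
        have he := Subgroup.eq_of_le_of_card_ge hsub (by
          rw [Nat.card_zpowers, Nat.card_zpowers, PGroups.elemAb_orderOf hA hx hx1,
            PGroups.elemAb_orderOf hA (A.zpow_mem hx k) hxk])
        exact he.symm ▸ Subgroup.mem_zpowers x
      refine (Subgroup.zpowers_le.mpr ?_) hgen
      have hk' : x ^ k = y⁻¹ * c := by rw [← hk]; simp
      rw [hk']
      exact Subgroup.mul_mem_sup (A₁.inv_mem hy) (Subgroup.mem_zpowers c)
    have hlt : Nat.card A₁ ≤ n := by
      have : Nat.card A₁ < Nat.card A := lt_of_le_of_ne (Subgroup.card_le_of_le hA₁max.1) fun he =>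
        hA₁max.2 ((Subgroup.eq_of_le_of_card_ge hA₁max.1 he.ge) ▸ hcA)
      omega
    have hAc : A ≤ Subgroup.normalizer (Subgroup.zpowers c : Set G) := fun y hy =>
      Subgroup.centralizer_le_normalizer _ (Subgroup.mem_centralizer_iff.mpr fun z hz =>
        PGroups.elemAb_comm hA (Subgroup.zpowers_le.mpr hcA hz) hy)
    have hW₁c : IsMulCommutative W₁ := Subgroup.le_centralizer_iff_isMulCommutative.mp
      (fixOn_le.trans ((Subgroup.le_centralizer_iff_isMulCommutative.mpr hWc).trans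
        (Subgroup.centralizer_le fixOn_le)))
    obtain ⟨B₁, hB₁, hB₁i, hB₁f⟩ := ih A₁ W₁ hlt (PGroups.elemAb_mono hA hA₁max.1)
      (hA₁max.1.trans ((le_inf hAW hAc).trans normalizer_inf_le_normalizer_fixOn)) hW₁c
      (Nat.Coprime.of_dvd_left (Subgroup.card_dvd_of_le fixOn_le) hW) hcfix
    refine ⟨B₁ ⊔ Subgroup.zpowers c, sup_le (hB₁.trans hA₁max.1) (Subgroup.zpowers_le.mpr hcA),
      ?_, fun hbot => hB₁f ?_⟩
    · have hn : A₁ ≤ Subgroup.normalizer ((B₁ ⊔ Subgroup.zpowers c : Subgroup G) : Set G) :=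
        fun y hy => Subgroup.centralizer_le_normalizer _ (Subgroup.mem_centralizer_iff.mpr fun z hz =>
          PGroups.elemAb_comm hA (sup_le (hB₁.trans hA₁max.1) (Subgroup.zpowers_le.mpr hcA) hz)
            (hA₁max.1 hy))
      refine le_trans ?_ hB₁i
      have hle : A ≤ A₁ ⊔ (B₁ ⊔ Subgroup.zpowers c) :=
        hAeq.trans (sup_le le_sup_left (le_sup_right.trans le_sup_right))
      set B := B₁ ⊔ Subgroup.zpowers c
      have h1 : B.relIndex A ∣ B.relIndex (A₁ ⊔ B) := by
        have hBA : B ≤ A := sup_le (hB₁.trans hA₁max.1) (Subgroup.zpowers_le.mpr hcA)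
        exact Dvd.intro _ (Subgroup.relIndex_mul_relIndex B A (A₁ ⊔ B) hBA hle)
      have hn' : (B.subgroupOf (A₁ ⊔ B)).Normal :=
        Subgroup.normal_subgroupOf_of_le_normalizer (sup_le hn Subgroup.le_normalizer)
      have h4 := Subgroup.relIndex_sup_right (A₁.subgroupOf (A₁ ⊔ B)) (B.subgroupOf (A₁ ⊔ B))
      rw [← Subgroup.subgroupOf_sup le_sup_left le_sup_right, Subgroup.subgroupOf_self,
        Subgroup.relIndex_top_right, Subgroup.relIndex_subgroupOf le_sup_left] at h4
      have h5 : B.relIndex (A₁ ⊔ B) = B.relIndex A₁ := h4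
      rw [h5] at h1
      have h6 : B.relIndex A₁ ≤ B₁.relIndex A₁ :=
        Subgroup.relIndex_le_of_le_left le_sup_left Subgroup.index_ne_zero_of_finite
      exact (Nat.le_of_dvd (Nat.pos_of_ne_zero Subgroup.index_ne_zero_of_finite) h1).trans h6
    · rw [eq_bot_iff, ← hbot, fixOn_sup]
      refine fun x hx => ⟨⟨fixOn_le hx.1, hx.2⟩, hx.1⟩

/-- A `p`-group acting on a `p'`-group normalises a Sylow `q`-subgroup of it. -/
theorem exists_invariant_sylow {A K : Subgroup G} (hA : IsPGroup p A)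
    (hAK : A ≤ Subgroup.normalizer (K : Set G)) (hK : (Nat.card K).Coprime p)
    (q : ℕ) [Fact q.Prime] :
    ∃ S : Sylow q K, A ≤ Subgroup.normalizer (((S : Subgroup K).map K.subtype : Subgroup G) : Set G) := by
  let φ : A →* MulAut K := (Subgroup.normalizerMonoidHom K).comp (Subgroup.inclusion hAK)
  let _ : MulAction A (Sylow q K) := MulAction.compHom _ φ
  have hnd : ¬ p ∣ Nat.card (Sylow q K) := by
    intro h
    obtain ⟨S⟩ : Nonempty (Sylow q K) := inferInstance
    have h2 : Nat.card (Sylow q K) ∣ Nat.card K := by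
      rw [S.card_eq_index_normalizer]
      exact Subgroup.index_dvd_card _
    exact hp.out.not_dvd_one (hK ▸ Nat.dvd_gcd (h.trans h2) dvd_rfl)
  obtain ⟨S, hS⟩ := hA.nonempty_fixed_point_of_prime_not_dvd_card _ hnd
  refine ⟨S, fun a ha => Subgroup.mem_normalizer_iff_map_conj_eq.mpr ?_⟩
  have h := congrArg (fun T : Sylow q K => (T : Subgroup K)) (hS ⟨a, ha⟩)
  change (S : Subgroup K).map (φ ⟨a, ha⟩).toMonoidHom = (S : Subgroup K) at h
  conv_rhs => rw [← h]
  rw [Subgroup.map_map, Subgroup.map_map]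
  rfl

/-- A coset invariant under a `p`-group contains a fixed point, the group of the coset being `p'`. -/
theorem exists_fixed_in_coset {B M : Subgroup G} (hB : IsPGroup p B)
    (hBM : B ≤ Subgroup.normalizer (M : Set G)) (hM : (Nat.card M).Coprime p) {x : G}
    (hx : ∀ b ∈ B, x⁻¹ * (b * x * b⁻¹) ∈ M) :
    ∃ y : G, x⁻¹ * y ∈ M ∧ ∀ b ∈ B, b * y = y * b := by
  let C := {y : G // x⁻¹ * y ∈ M}
  let _ : MulAction B C :=
    { smul := fun b y => ⟨(b : G) * y * (b : G)⁻¹, by
        have h1 := (Subgroup.mem_normalizer_iff.mp (hBM b.2) _).mp y.2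
        have h2 := M.mul_mem (hx b b.2) h1
        convert h2 using 1
        simp [mul_assoc]⟩
      one_smul := fun y => Subtype.ext (show (1 : G) * y * (1 : G)⁻¹ = y by simp)
      mul_smul := fun b c y => Subtype.ext
        (show ((b : G) * c) * y * ((b : G) * c)⁻¹ = (b : G) * ((c : G) * y * (c : G)⁻¹) * (b : G)⁻¹ by
          simp [mul_assoc]) }
  have hcard : Nat.card C = Nat.card M := Nat.card_congr
    { toFun := fun y => ⟨x⁻¹ * y, y.2⟩
      invFun := fun m => ⟨x * m, by simp⟩
      left_inv := fun y => Subtype.ext (mul_inv_cancel_left _ _)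
      right_inv := fun m => Subtype.ext (inv_mul_cancel_left _ _) }
  have hnd : ¬ p ∣ Nat.card C := fun h => by
    rw [hcard] at h
    exact hp.out.not_dvd_one (hM ▸ Nat.dvd_gcd h dvd_rfl)
  obtain ⟨⟨y, hy⟩, hfix⟩ := hB.nonempty_fixed_point_of_prime_not_dvd_card C hnd
  refine ⟨y, hy, fun b hb => ?_⟩
  have h : b * y * b⁻¹ = y := congrArg Subtype.val (hfix ⟨b, hb⟩)
  calc b * y = b * y * b⁻¹ * b := by group
    _ = y * b := by rw [h]

/-- A `p'`-group is generated by the centralisers of the subgroups of index at most `p` of an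
elementary abelian `p`-group acting on it. -/
theorem le_iSup_fixOn_hyperplane {A K : Subgroup G} (hA : Cfsg.IsElementaryAbelian p A)
    (hAK : A ≤ Subgroup.normalizer (K : Set G)) (hK : (Nat.card K).Coprime p) :
    K ≤ ⨆ B : {B : Subgroup G // B ≤ A ∧ B.relIndex A ≤ p}, fixOn K (B : Subgroup G) := by
  set M := ⨆ B : {B : Subgroup G // B ≤ A ∧ B.relIndex A ≤ p}, fixOn K (B : Subgroup G) with hM
  have hAp := PGroups.elemAb_isPGroup hA
  rw [← Subgroup.subgroupOf_eq_top, ← Subgroup.index_eq_one]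
  refine Nat.eq_one_iff_not_exists_prime_dvd.mpr fun q hq hdvd => ?_
  have := Fact.mk hq
  obtain ⟨S, hS⟩ := exists_invariant_sylow hAp hAK hK q
  refine S.not_dvd_index (hdvd.trans (Subgroup.index_dvd_of_le ?_))
  set R := (S : Subgroup K).map K.subtype with hR
  suffices hRM : R ≤ M by
    intro x hx
    exact hRM (Subgroup.mem_map_of_mem _ hx)
  have hRK : R ≤ K := Subgroup.map_subtype_le _
  have hRq : IsPGroup q R := S.isPGroup'.map _
  by_contra hne
  -- `M₀ := R ⊓ M` is properly contained in its normaliser in `R`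
  set M₀ := R ⊓ M with hM₀
  have hAM : A ≤ Subgroup.normalizer (M : Set G) := by
    intro a ha
    rw [Subgroup.mem_normalizer_iff_map_conj_eq]
    refine Subgroup.eq_of_le_of_card_ge ?_ (Subgroup.card_map_of_injective (MulAut.conj a).injective).ge
    rw [hM, Subgroup.map_iSup]
    refine iSup_mono fun B => ?_
    have hn : a ∈ Subgroup.normalizer ((fixOn K (B : Subgroup G)) : Set G) := by
      refine normalizer_inf_le_normalizer_fixOn ⟨hAK ha, Subgroup.centralizer_le_normalizer _ ?_⟩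
      exact Subgroup.mem_centralizer_iff.mpr fun z hz => PGroups.elemAb_comm hA (B.2.1 hz) ha
    exact (Subgroup.mem_normalizer_iff_map_conj_eq.mp hn).le
  set T := R ⊓ Subgroup.normalizer (M₀ : Set G) with hT
  have hlt : M₀ < T := by
    refine lt_of_le_of_ne (le_inf inf_le_left Subgroup.le_normalizer) fun he => ?_
    have : Group.IsNilpotent R := hRq.isNilpotent
    have hlt' : M₀.subgroupOf R < ⊤ := lt_of_le_of_ne le_top fun h =>
      hne ((Subgroup.subgroupOf_eq_top.mp h).trans inf_le_right)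
    have h2 := normalizerCondition_of_isNilpotent (G := R) _ hlt'
    refine absurd ?_ (not_le_of_gt h2)
    intro x hx
    have hxn : (x : G) ∈ Subgroup.normalizer (M₀ : Set G) := by
      have h3 := Subgroup.mem_map_of_mem R.subtype hx
      have h4 := Subgroup.le_normalizer_map R.subtype h3
      rwa [Subgroup.map_subgroupOf_eq_of_le inf_le_left] at h4
    exact (he.symm ▸ (⟨x.2, hxn⟩ : (x : G) ∈ T) : (x : G) ∈ M₀)
  have hAM₀ : A ≤ Subgroup.normalizer (M₀ : Set G) := fun a ha => by
    rw [Subgroup.mem_normalizer_iff_map_conj_eq, Subgroup.map_inf _ _ _ (MulAut.conj a).injective,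
      Subgroup.mem_normalizer_iff_map_conj_eq.mp (hS ha),
      Subgroup.mem_normalizer_iff_map_conj_eq.mp (hAM ha)]
  -- work in `N(M₀) / M₀`
  set N := Subgroup.normalizer (M₀ : Set G) with hN
  have hM₀n : (M₀.subgroupOf N).Normal :=
    Subgroup.normal_subgroupOf_of_le_normalizer le_rfl
  let π : N →* N ⧸ M₀.subgroupOf N := QuotientGroup.mk' _
  have hAT : A ≤ Subgroup.normalizer (T : Set G) := fun a ha => by
    have h2 : a ∈ Subgroup.normalizer (N : Set G) := Subgroup.le_normalizer (hAM₀ ha)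
    rw [Subgroup.mem_normalizer_iff_map_conj_eq, Subgroup.map_inf _ _ _ (MulAut.conj a).injective,
      Subgroup.mem_normalizer_iff_map_conj_eq.mp (hS ha),
      Subgroup.mem_normalizer_iff_map_conj_eq.mp h2]
  set A' := (A.subgroupOf N).map π with hA'
  set T' := (T.subgroupOf N).map π with hT'
  set Z := T' ⊓ Subgroup.centralizer (T' : Set (N ⧸ M₀.subgroupOf N)) with hZ
  have hA'e : Cfsg.IsElementaryAbelian p A' := PGroups.elemAb_map π (PGroups.elemAb_subgroupOf hA N)
  have hT'q : IsPGroup q T' :=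
    ((hRq.to_le inf_le_left).comap_subtype (K := N)).map π
  have hT'ne : Nontrivial T' := by
    rw [Subgroup.nontrivial_iff_ne_bot, Ne, Subgroup.map_eq_bot_iff, QuotientGroup.ker_mk']
    intro h
    exact not_le_of_gt hlt fun x hx => h (show (⟨x, hx.2⟩ : N) ∈ T.subgroupOf N from hx)
  have hZne : Z ≠ ⊥ := by
    have : Group.IsNilpotent T' := hT'q.isNilpotent
    have hc := Group.IsNilpotent.center_ne_bot (G := T')
    intro hbot
    refine hc (eq_bot_iff.mpr fun z hz => ?_)
    have hzZ : (z : N ⧸ M₀.subgroupOf N) ∈ Z := ⟨z.2, Subgroup.mem_centralizer_iff.mpr fun y hy =>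
      congrArg Subtype.val (Subgroup.mem_center_iff.mp hz ⟨y, hy⟩)⟩
    rw [hbot, Subgroup.mem_bot] at hzZ
    exact Subgroup.mem_bot.mpr (Subtype.ext hzZ)
  have hA'T' : A' ≤ Subgroup.normalizer (T' : Set (N ⧸ M₀.subgroupOf N)) := by
    refine le_trans (Subgroup.map_mono ?_) (Subgroup.le_normalizer_map π)
    exact (Subgroup.comap_mono hAT).trans (Subgroup.le_normalizer_comap N.subtype)
  have hA'Z : A' ≤ Subgroup.normalizer (Z : Set (N ⧸ M₀.subgroupOf N)) :=
    ((le_inf hA'T' hA'T').trans normalizer_inf_le_normalizer_fixOn)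
  have hTcop : (Nat.card T).Coprime p :=
    Nat.Coprime.of_dvd_left (Subgroup.card_dvd_of_le (inf_le_left.trans hRK)) hK
  have hZcop : (Nat.card Z).Coprime p := by
    refine Nat.Coprime.of_dvd_left ((Subgroup.card_dvd_of_le inf_le_left).trans
      ((Subgroup.card_map_dvd _ π).trans ?_)) hTcop
    rw [Nat.card_congr (Subgroup.subgroupOfEquivOfLe (inf_le_right : T ≤ N)).toEquiv]
  obtain ⟨B', hB', hB'i, hB'f⟩ := exists_hyperplane_fix hA'e hA'Z
    (Subgroup.le_centralizer_iff_isMulCommutative.mp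
      (inf_le_right.trans (Subgroup.centralizer_le inf_le_left))) hZcop hZne
  obtain ⟨z, hz, hz1⟩ := (Subgroup.bot_or_exists_ne_one _).resolve_left hB'f
  obtain ⟨x, hxT, rfl⟩ := hz.1.1
  set B := A ⊓ (B'.comap π).map N.subtype with hB
  have hBi : B.relIndex A ≤ p := by
    refine le_trans (le_of_eq ?_) hB'i
    rw [hA', ← Subgroup.relIndex_comap, hB]
    have h1 : (A ⊓ (B'.comap π).map N.subtype).subgroupOf N = A.subgroupOf N ⊓ B'.comap π := by
      ext y
      simp [Subgroup.mem_subgroupOf]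
    rw [← Subgroup.relIndex_subgroupOf hAM₀, h1, Subgroup.inf_relIndex_left]
  have hBM₀ : B ≤ Subgroup.normalizer (M₀ : Set G) := inf_le_left.trans hAM₀
  obtain ⟨y, hy, hyfix⟩ := exists_fixed_in_coset (p := p) (x := (x : G))
    ((hAp.to_le inf_le_left : IsPGroup p B)) hBM₀
    (Nat.Coprime.of_dvd_left (Subgroup.card_dvd_of_le (inf_le_left.trans hRK)) hK) (fun b hb => by
      obtain ⟨-, b', hb', rfl⟩ := hb
      have hcomm : π b' * π x = π x * π b' := (mem_fixOn.mp hz).2 _ hb'
      have h1 : π (x⁻¹ * (b' * x * b'⁻¹)) = 1 := by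
        rw [map_mul, map_mul, map_mul, map_inv, map_inv, hcomm]
        simp
      exact (QuotientGroup.eq_one_iff (N := M₀.subgroupOf N) (x⁻¹ * (b' * x * b'⁻¹))).mp h1)
  have hyR : y ∈ R := by
    have := R.mul_mem (show (x : G) ∈ R from hxT.1) hy.1
    rwa [mul_inv_cancel_left] at this
  have hyM : y ∈ M := by
    refine le_iSup (fun B : {B : Subgroup G // B ≤ A ∧ B.relIndex A ≤ p} =>
      fixOn K (B : Subgroup G)) ⟨B, inf_le_left, hBi⟩ ?_
    exact mem_fixOn.mpr ⟨hRK hyR, hyfix⟩
  refine hz1 ((QuotientGroup.eq_one_iff x).mpr (show (x : G) ∈ M₀ from ?_))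
  have := M₀.mul_mem (⟨hyR, hyM⟩ : y ∈ M₀) (M₀.inv_mem hy)
  simpa using this

end Cfsg.Agent.Lib.PLocal
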