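import Cfsg.Agent.Lib.SylowInter.ConstrainedLocal
import Cfsg.Agent.Lib.CharP.Basic

/-!
# Inheritance of `p`-constraint: isomorphisms and normal subgroups
-/

set_option autoImplicit false
open Cfsg
open Cfsg.Agent.Lib

namespace Cfsg.Agent.Lib.PLocal.Constrained

variable {G : Type*} [Group G] [Finite G] {p : ℕ} [Fact p.Prime]

theorem charP_transport {H : Type*} [Group H] {K : Type*} [Group K] (e : H ≃* K)
    (h : Subgroup.centralizer (pCore p H : Set H) ≤ pCore p H) :
    Subgroup.centralizer (pCore p K : Set K) ≤ pCore p K := by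
  intro x hx
  rw [← Cores.map_pCore_equiv e] at hx ⊢
  refine ⟨e.symm x, h ?_, e.apply_symm_apply x⟩
  rw [Subgroup.mem_centralizer_iff]
  intro y hy
  apply e.injective
  rw [map_mul, map_mul, e.apply_symm_apply]
  exact Subgroup.mem_centralizer_iff.mp hx _ ⟨y, hy, rfl⟩

theorem congr {H : Type*} [Group H] (e : G ≃* H) (h : IsPConstrained p G) :
    IsPConstrained p H := by
  haveI : Finite H := Finite.of_equiv G e.toEquiv
  rw [PSolvable.isPConstrained_iff] at h ⊢
  exact charP_transport (QuotientGroup.congr _ _ e (Cores.map_pPrimeCore_equiv e)) h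

/-- A normal subgroup of a `p`-constrained group is `p`-constrained. -/
theorem of_normal (hG : IsPConstrained p G) (K : Subgroup G) [K.Normal] :
    IsPConstrained p ↥K := by
  rw [PSolvable.isPConstrained_iff] at hG ⊢
  set π := QuotientGroup.mk' (pPrimeCore p G) with hπ
  haveI hn : (K.map π).Normal := Subgroup.Normal.map inferInstance π (QuotientGroup.mk'_surjective _)
  have hchar := CharP.charP_of_isSubnormal hG (K := K.map π) hn.isSubnormal
  have hker : (π.subgroupMap K).ker = pPrimeCore p ↥K := by
    refine le_antisymm ?_ ?_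
    · refine Cores.le_pPrimeCore ((Cores.pPrimeCore_coprime (G := G) p).coprime_dvd_left ?_)
      rw [← Subgroup.card_map_of_injective K.subtype_injective]
      refine Subgroup.card_dvd_of_le ?_
      rintro _ ⟨x, hx, rfl⟩
      exact (QuotientGroup.eq_one_iff _).1 (congrArg Subtype.val (MonoidHom.mem_ker.1 hx))
    · haveI := Cores.normal_map_subtype K (pPrimeCore p ↥K)
      intro x hx
      refine MonoidHom.mem_ker.2 (Subtype.ext ((QuotientGroup.eq_one_iff _).2 ?_))
      refine Cores.le_pPrimeCore (N := (pPrimeCore p ↥K).map K.subtype) ?_ ⟨x, hx, rfl⟩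
      rw [Subgroup.card_map_of_injective K.subtype_injective]
      exact Cores.pPrimeCore_coprime p
  let e : (↥K ⧸ pPrimeCore p ↥K) ≃* ↥(K.map π) :=
    (QuotientGroup.quotientMulEquivOfEq hker.symm).trans
      (QuotientGroup.quotientKerEquivOfSurjective (π.subgroupMap K) (π.subgroupMap_surjective K))
  exact charP_transport e.symm hchar

/-- If `P` is a `p`-subgroup and `N` contains `P` and its centralizer and normalizes `P`,
then `N` inherits `p`-constraint. -/
theorem of_normalizes (hG : IsPConstrained p G) {P N : Subgroup G} (hP : IsPGroup p ↥P)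
    (hPN : P ≤ N) (hC : Subgroup.centralizer (P : Set G) ≤ N)
    (hN : N ≤ Subgroup.normalizer (P : Set G)) : IsPConstrained p ↥N := by
  refine SylowInter.ConstrainedLocal.constrained_of_overgroup fun T => ?_
  intro S
  have hPS : P ≤ S := by
    intro t ht
    haveI : (P.subgroupOf N).Normal := Subgroup.normal_subgroupOf_of_le_normalizer hN
    have h1 : (⟨t, hPN ht⟩ : ↥N) ∈ pPrimePCore p ↥N :=
      PSolvable.pCore_le_pPrimePCore
        (Cores.le_pCore (N := P.subgroupOf N) hP.comap_subtype ht)
    have hp' : IsPGroup p ↥((P.subgroupOf N).subgroupOf (pPrimePCore p ↥N)) :=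
      hP.comap_subtype.comap_subtype
    have h2 := Cores.pCore_le_sylow T
      (Cores.le_pCore hp'
        (show (⟨_, h1⟩ : ↥(pPrimePCore p ↥N)) ∈ (P.subgroupOf N).subgroupOf _ from ht))
    exact ⟨⟨t, hPN ht⟩, ⟨⟨_, h1⟩, h2, rfl⟩, rfl⟩
  exact ⟨(Subgroup.centralizer_le hPS).trans hC, ⊤, congr Subgroup.topEquiv.symm hG, le_top, le_top⟩

/-- The centralizer of a `p`-subgroup inherits `p`-constraint. -/
theorem centralizer_pGroup (hG : IsPConstrained p G) {P : Subgroup G} (hP : IsPGroup p ↥P) :
    IsPConstrained p ↥(Subgroup.centralizer (P : Set G)) := by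
  set C := Subgroup.centralizer (P : Set G) with hC
  have hM := of_normalizes hG (N := P ⊔ C) hP le_sup_left le_sup_right
    (sup_le Subgroup.le_normalizer (Subgroup.centralizer_le_normalizer _))
  have hnorm : P ⊔ C ≤ Subgroup.normalizer (C : Set G) := by
    refine sup_le ?_ Subgroup.le_normalizer
    refine le_trans ?_ (Subgroup.centralizer_le_normalizer (C : Set G))
    exact Subgroup.le_centralizer_iff.1 le_rfl
  haveI : (C.subgroupOf (P ⊔ C)).Normal := Subgroup.normal_subgroupOf_of_le_normalizer hnorm
  exact congr (Subgroup.subgroupOfEquivOfLe le_sup_right) (of_normal hM (C.subgroupOf (P ⊔ C)))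

end Cfsg.Agent.Lib.PLocal.Constrained
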