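import Mathlib.LinearAlgebra.Matrix.SpecialLinearGroup
import Mathlib.Data.ZMod.Basic
import Mathlib.Algebra.Field.ZMod
import Mathlib.GroupTheory.Commutator.Basic
import Mathlib.GroupTheory.OrderOfElement
import Mathlib.Tactic.FieldSimp
import Mathlib.Tactic.LinearCombination
import Mathlib.Tactic.NormNum.Prime

/-!
# Facts about `SL(2,p)` used in the offender theory

Owner: helper19.
-/

namespace Cfsg.Agent.Lib.PLocal.SLTwo

open Matrix
open scoped commutatorElement

variable {F : Type*} [Field F]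

/-- `[[1,x],[0,1]]`. -/
def up (x : F) : SpecialLinearGroup (Fin 2) F := ⟨!![1, x; 0, 1], by simp [Matrix.det_fin_two]⟩

/-- `[[1,0],[x,1]]`. -/
def lo (x : F) : SpecialLinearGroup (Fin 2) F := ⟨!![1, 0; x, 1], by simp [Matrix.det_fin_two]⟩

theorem val_mul (M N : SpecialLinearGroup (Fin 2) F) : (M * N).1 = M.1 * N.1 := rfl

theorem up_add (x y : F) : up (x + y) = up x * up y := by
  apply Subtype.ext
  rw [val_mul]; simp [up, Matrix.mul_fin_two, add_comm]

theorem lo_add (x y : F) : lo (x + y) = lo x * lo y := by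
  apply Subtype.ext
  rw [val_mul]; simp [lo, Matrix.mul_fin_two]

theorem up_zero : up (0 : F) = 1 := by
  apply Subtype.ext
  simp [up, Matrix.one_fin_two]

theorem lo_zero : lo (0 : F) = 1 := by
  apply Subtype.ext
  simp [lo, Matrix.one_fin_two]

theorem lo_mul_up_mul {M : SpecialLinearGroup (Fin 2) F} (hc : M.1 1 0 ≠ 0) :
    up ((M.1 0 0 - 1) / M.1 1 0) * lo (M.1 1 0) * up ((M.1 1 1 - 1) / M.1 1 0) = M := by
  have hdet : M.1 0 0 * M.1 1 1 - M.1 0 1 * M.1 1 0 = 1 := by
    have := M.2; rwa [Matrix.det_fin_two] at this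
  apply Subtype.ext
  rw [val_mul, val_mul]
  ext i j
  fin_cases i <;> fin_cases j <;>
    simp [up, lo, Matrix.mul_fin_two] <;> field_simp <;> first | ring1 | linear_combination hdet

/-- Unipotent elements generate `SL(2,F)`. -/
theorem closure_eq_top :
    Subgroup.closure (Set.range (up (F := F)) ∪ Set.range (lo (F := F))) = ⊤ := by
  set K := Subgroup.closure (Set.range (up (F := F)) ∪ Set.range (lo (F := F)))
  have hup : ∀ x, up x ∈ K := fun x => Subgroup.subset_closure (Or.inl ⟨x, rfl⟩)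
  have hlo : ∀ x, lo x ∈ K := fun x => Subgroup.subset_closure (Or.inr ⟨x, rfl⟩)
  refine eq_top_iff.mpr fun M _ => ?_
  by_cases hc : M.1 1 0 = 0
  · have hdet : M.1 0 0 * M.1 1 1 - M.1 0 1 * M.1 1 0 = 1 := by
      have := M.2; rwa [Matrix.det_fin_two] at this
    have hc' : (lo (1 : F) * M).1 1 0 ≠ 0 := by
      have ha : M.1 0 0 ≠ 0 := fun h => by simp [h, hc] at hdet
      rw [val_mul]; simp [lo, Matrix.mul_apply, Fin.sum_univ_two, hc, ha]
    have h := lo_mul_up_mul hc'
    have hm : lo (1 : F) * M ∈ K := h ▸ K.mul_mem (K.mul_mem (hup _) (hlo _)) (hup _)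
    have := K.mul_mem (K.inv_mem (hlo 1)) hm
    rwa [inv_mul_cancel_left] at this
  · rw [← lo_mul_up_mul hc]
    exact K.mul_mem (K.mul_mem (hup _) (hlo _)) (hup _)

variable {p : ℕ} [Fact p.Prime]

theorem up_natCast (n : ℕ) : up (n : ZMod p) = up 1 ^ n := by
  induction n with
  | zero => simp [up_zero]
  | succ n ih => rw [Nat.cast_succ, up_add, ih, pow_succ]

theorem lo_natCast (n : ℕ) : lo (n : ZMod p) = lo 1 ^ n := by
  induction n with
  | zero => simp [lo_zero]
  | succ n ih => rw [Nat.cast_succ, lo_add, ih, pow_succ]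

/-- `SL(2,p)` is generated by the two standard transvections. -/
theorem closure_pair_eq_top :
    Subgroup.closure ({up (1 : ZMod p), lo 1} : Set (SpecialLinearGroup (Fin 2) (ZMod p))) = ⊤ := by
  refine eq_top_iff.mpr (closure_eq_top.ge.trans (Subgroup.closure_le _ |>.mpr ?_))
  rintro _ (⟨x, rfl⟩ | ⟨x, rfl⟩)
  · rw [SetLike.mem_coe, ← ZMod.natCast_zmod_val x, up_natCast]
    exact Subgroup.pow_mem _ (Subgroup.subset_closure (Set.mem_insert _ _)) _
  · rw [SetLike.mem_coe, ← ZMod.natCast_zmod_val x, lo_natCast]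
    exact Subgroup.pow_mem _
      (Subgroup.subset_closure (Set.mem_insert_of_mem _ (Set.mem_singleton _))) _

theorem up_one_pow : up (1 : ZMod p) ^ p = 1 := by
  rw [← up_natCast, ZMod.natCast_self, up_zero]

theorem up_one_ne_one : up (1 : ZMod p) ≠ 1 := fun h => by
  have := congrArg (fun M : SpecialLinearGroup (Fin 2) (ZMod p) => M.1 0 1) h
  simp [up] at this

/-- For `p ≥ 5`, the derived group of `SL(2,p)` contains `[[1,1],[0,1]]`. -/
theorem up_one_mem_commutator (hp : 5 ≤ p) :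
    up (1 : ZMod p) ∈ _root_.commutator (SpecialLinearGroup (Fin 2) (ZMod p)) := by
  have hne : ∀ n : ℕ, 0 < n → n < p → (n : ZMod p) ≠ 0 := fun n h0 hn h => by
    rw [ZMod.natCast_eq_zero_iff] at h
    exact absurd (Nat.le_of_dvd h0 h) (not_le.mpr hn)
  have h2 : (2 : ZMod p) ≠ 0 := by exact_mod_cast hne 2 (by norm_num) (by omega)
  have h3 : (3 : ZMod p) ≠ 0 := by exact_mod_cast hne 3 (by norm_num) (by omega)
  let d : SpecialLinearGroup (Fin 2) (ZMod p) :=
    ⟨!![2, 0; 0, 2⁻¹], by simp [Matrix.det_fin_two, h2]⟩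
  have key : ⁅d, up ((3 : ZMod p)⁻¹)⁆ = up 1 := by
    rw [commutatorElement_def, mul_inv_eq_iff_eq_mul, mul_inv_eq_iff_eq_mul, ← up_add]
    apply Subtype.ext
    rw [val_mul, val_mul]
    ext i j
    fin_cases i <;> fin_cases j <;> simp [d, up, Matrix.mul_fin_two] <;> field_simp <;> ring
  rw [← key]
  exact Subgroup.commutator_mem_commutator (Subgroup.mem_top _) (Subgroup.mem_top _)

theorem card_two : Nat.card (SpecialLinearGroup (Fin 2) (ZMod 2)) = 6 := by
  rw [Nat.card_eq_fintype_card]; decide +kernel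

theorem card_three : Nat.card (SpecialLinearGroup (Fin 2) (ZMod 3)) = 24 := by
  rw [Nat.card_eq_fintype_card]; decide +kernel

/-- Two non-commuting elements of order dividing `4` in `SL(2,3)`. -/
theorem exists_noncomm_three : ∃ x y : SpecialLinearGroup (Fin 2) (ZMod 3),
    x ^ 4 = 1 ∧ y ^ 4 = 1 ∧ x * y ≠ y * x :=
  ⟨⟨!![0, 2; 1, 0], by decide⟩, ⟨!![1, 1; 1, 2], by decide⟩, by decide +kernel, by decide +kernel,
    by decide +kernel⟩

end Cfsg.Agent.Lib.PLocal.SLTwo
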