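import Cfsg.Agent.Lib.PLocal.Thompson
import Cfsg.Agent.Lib.PLocal.StableClosure
import Cfsg.Agent.Lib.PSolvable.HallHigman

/-!
# Passing to the quotient by a normal `p'`-subgroup

Owner: helper19. Normalizers of `p`-subgroups, `Ω₁(Z(S))` and `J(S)` map as expected.
-/

set_option autoImplicit false

namespace Cfsg.Agent.Lib.PLocal

open Subgroup

variable {G : Type*} [Group G] {p : ℕ}

/-- A homomorphism injective on `P` sends `Ω₁(Z(P))` to that of the image. -/
theorem map_omegaCenterOf_of_injOn {H : Type*} [Group H] (f : G →* H) {P : Subgroup G}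
    (hf : Function.Injective (f.comp P.subtype)) :
    (omegaCenterOf p P).map f = omegaCenterOf p (P.map f) := by
  have h1 : omegaCenterOf p P = (omegaCenterOf p (⊤ : Subgroup P)).map P.subtype := by
    rw [map_omegaCenterOf _ P.subtype_injective, ← MonoidHom.range_eq_map, Subgroup.range_subtype]
  rw [h1, Subgroup.map_map, map_omegaCenterOf _ hf, ← MonoidHom.range_eq_map, MonoidHom.range_comp,
    Subgroup.range_subtype]

/-- A homomorphism injective on `P` sends `J(P)` to that of the image. -/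
theorem map_thompsonSubgroupOf_of_injOn {H : Type*} [Group H] (f : G →* H) {P : Subgroup G}
    (hf : Function.Injective (f.comp P.subtype)) :
    (Cfsg.thompsonSubgroupOf p P).map f = Cfsg.thompsonSubgroupOf p (P.map f) := by
  rw [Cfsg.thompsonSubgroupOf, Subgroup.map_map, map_thompsonSubgroup _ hf, MonoidHom.range_comp,
    Subgroup.range_subtype]

theorem comp_subtype_injective_of_coprime [Finite G] [hp : Fact p.Prime] {N P : Subgroup G}
    [N.Normal] (hN : (Nat.card N).Coprime p) (hP : IsPGroup p P) :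
    Function.Injective ((QuotientGroup.mk' N).comp P.subtype) := by
  obtain ⟨m, hm⟩ := hP.exists_card_eq
  have hinf : P ⊓ N = ⊥ :=
    (Subgroup.disjoint_of_coprime_natCard (by rw [hm]; exact Nat.Coprime.pow_left _ hN.symm)).eq_bot
  refine (injective_iff_map_eq_one _).mpr fun x hx => Subtype.ext ?_
  have hx' : (x : G) ∈ P ⊓ N := ⟨x.2, (QuotientGroup.eq_one_iff _).mp hx⟩
  rwa [hinf, Subgroup.mem_bot] at hx'

/-- Normalizers of `p`-subgroups lift through quotients by normal `p'`-subgroups. -/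
theorem normalizer_map_le_map_normalizer [Finite G] [hp : Fact p.Prime] (N P : Subgroup G)
    [N.Normal] (hN : (Nat.card N).Coprime p) (hP : IsPGroup p P) :
    Subgroup.normalizer ((P.map (QuotientGroup.mk' N) : Subgroup (G ⧸ N)) : Set (G ⧸ N)) ≤
      (Subgroup.normalizer (P : Set G)).map (QuotientGroup.mk' N) := by
  intro xq hxq
  obtain ⟨x, rfl⟩ := QuotientGroup.mk'_surjective N xq
  set M := (P.map (QuotientGroup.mk' N)).comap (QuotientGroup.mk' N) with hM
  have hMeq : M = P ⊔ N := by rw [hM, Subgroup.comap_map_eq, QuotientGroup.ker_mk']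
  have hPM : P ≤ M := hMeq ▸ le_sup_left
  set P' := P.map (MulAut.conj x).toMonoidHom with hP'
  have hP'M : P' ≤ M := by
    rintro _ ⟨a, ha, rfl⟩
    show QuotientGroup.mk' N (x * a * x⁻¹) ∈ P.map (QuotientGroup.mk' N)
    rw [map_mul, map_mul, map_inv]
    exact (Subgroup.mem_normalizer_iff.mp hxq _).mp (Subgroup.mem_map_of_mem _ ha)
  have hrel : ¬ p ∣ P.relIndex M := by
    have hd : P.relIndex M ∣ Nat.card N := by
      have h1 := card_sup_mul_card_inf (H := P) (K := N)
        (le_top.trans (Subgroup.normalizer_eq_top N).ge)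
      have h2 := Subgroup.relIndex_mul_relIndex ⊥ P M bot_le hPM
      rw [Subgroup.relIndex_bot_left, Subgroup.relIndex_bot_left] at h2
      rw [← hMeq, ← h2, mul_assoc] at h1
      exact ⟨Nat.card (P ⊓ N : Subgroup G), (Nat.eq_of_mul_eq_mul_left Nat.card_pos h1).symm⟩
    exact fun h => (Nat.Prime.coprime_iff_not_dvd Fact.out).mp hN.symm (h.trans hd)
  have hrel' : ¬ p ∣ P'.relIndex M := by
    have h1 := Subgroup.relIndex_mul_relIndex ⊥ P M bot_le hPM
    have h2 := Subgroup.relIndex_mul_relIndex ⊥ P' M bot_le hP'M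
    rw [Subgroup.relIndex_bot_left, Subgroup.relIndex_bot_left] at h1 h2
    rw [Subgroup.card_map_of_injective (MulEquiv.injective _), ← h1] at h2
    rwa [Nat.eq_of_mul_eq_mul_left Nat.card_pos h2]
  let S : Sylow p M := (hP.comap_subtype (K := M)).toSylow hrel
  let S' : Sylow p M := ((hP.map _).comap_subtype (K := M)).toSylow hrel'
  obtain ⟨h, hh⟩ := MulAction.exists_smul_eq M S' S
  have hhM : (h : G) ∈ P ⊔ N := hMeq ▸ h.2
  obtain ⟨a, ha, n, hn, hgn⟩ := Subgroup.mem_sup_of_normal_right.mp hhM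
  refine ⟨n * x, ?_, ?_⟩
  · have hle : ∀ b ∈ P, n * x * b * (n * x)⁻¹ ∈ P := by
      intro b hb
      have hmem : (⟨x * b * x⁻¹, hP'M ⟨b, hb, rfl⟩⟩ : M) ∈ S' := ⟨b, hb, rfl⟩
      have h3 : h * ⟨x * b * x⁻¹, hP'M ⟨b, hb, rfl⟩⟩ * h⁻¹ ∈ S := by
        rw [← hh]
        exact Subgroup.smul_mem_pointwise_smul _ (MulAut.conj h) (S' : Subgroup M) hmem
      have h4 : (h : G) * (x * b * x⁻¹) * (h : G)⁻¹ ∈ P := h3
      rw [← hgn] at h4
      have h5 := P.mul_mem (P.mul_mem (P.inv_mem ha) h4) ha
      convert h5 using 1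
      group
    refine Subgroup.mem_normalizer_fintype (S := (P : Set G)) hle
  · rw [map_mul, show QuotientGroup.mk' N n = 1 from (QuotientGroup.eq_one_iff n).mpr hn, one_mul]

end Cfsg.Agent.Lib.PLocal
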