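import Cfsg.Agent.Lib.PLocal.OffenderBasic
import Cfsg.Agent.Lib.PLocal.Thompson
import Cfsg.Agent.Lib.PSolvable.HallHigman
import Mathlib.GroupTheory.SemidirectProduct

/-!
# The group `G / C_G(V)` acting on `V`, inside a semidirect product

Owner: helper19. Offender theory is stated for a faithful subgroup normalising `V` inside one
ambient group; here `G/C_G(V)` and `V` are placed inside `V ⋊ (G/C_G(V))`.
-/

set_option autoImplicit false

namespace Cfsg.Agent.Lib.PLocal

open Subgroup
open scoped commutatorElement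

variable {G : Type*} [Group G] {p : ℕ}

/-- Hall–Higman with the roles of `p` and `p'` exchanged. -/
theorem centralizer_pPrimeCore_le [hp : Fact p.Prime] [Finite G] (h : Cfsg.IsPSolvable p G)
    (h1 : Cfsg.pCore p G = ⊥) :
    Subgroup.centralizer ((Cfsg.pPrimeCore p G : Subgroup G) : Set G) ≤ Cfsg.pPrimeCore p G := by
  by_contra hnot
  set C := Subgroup.centralizer ((Cfsg.pPrimeCore p G : Subgroup G) : Set G)
  set B := C ⊓ Cfsg.pPrimeCore p G with hBdef
  haveI : C.Normal := Subgroup.normal_centralizer
  haveI : B.Normal := Subgroup.normal_inf_normal C _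
  have hBp : (Nat.card B).Coprime p :=
    PSolvable.card_pPrimeCore_coprime.coprime_dvd_left (Subgroup.card_dvd_of_le inf_le_right)
  set π := QuotientGroup.mk' B
  haveI : (C.map π).Normal := Subgroup.Normal.map inferInstance _ (QuotientGroup.mk'_surjective B)
  haveI : Nontrivial (C.map π) := by
    rw [Subgroup.nontrivial_iff_ne_bot, Ne, Subgroup.map_eq_bot_iff, QuotientGroup.ker_mk']
    exact fun hle => hnot (hle.trans inf_le_right)
  have hstep : ∀ Dq : Subgroup (G ⧸ B), Dq.Normal → Dq ≤ C.map π →
      (IsPGroup p Dq ∨ (Nat.card Dq).Coprime p) → Dq = ⊥ := by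
    intro Dq hDq hDC hor
    haveI : (Dq.comap π).Normal := hDq.comap π
    have hDle : Dq.comap π ≤ C := by
      refine (Subgroup.comap_mono hDC).trans ?_
      rw [Subgroup.comap_map_eq, QuotientGroup.ker_mk', sup_le_iff]
      exact ⟨le_rfl, inf_le_left⟩
    suffices Dq.comap π ≤ B by
      rw [← Subgroup.map_comap_eq_self_of_surjective (QuotientGroup.mk'_surjective B) Dq,
        Subgroup.map_eq_bot_iff, QuotientGroup.ker_mk']
      exact this
    rcases hor with hpg | hc
    · set D := Dq.comap π with hD
      have hBD : B ≤ D := QuotientGroup.le_comap_mk' B Dq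
      set B' := B.subgroupOf D
      have hidx : B'.index = Nat.card Dq := by
        show B.relIndex D = _
        have hk := Subgroup.relIndex_ker (K := D) π
        rw [QuotientGroup.ker_mk', hD,
          Subgroup.map_comap_eq_self_of_surjective (QuotientGroup.mk'_surjective B) Dq] at hk
        exact hk
      obtain ⟨m, hm⟩ := IsPGroup.iff_card.mp hpg
      have hB' : Nat.card B' = Nat.card B :=
        Nat.card_congr (Subgroup.subgroupOfEquivOfLe hBD).toEquiv
      have hcop : (Nat.card B').Coprime B'.index := by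
        rw [hB', hidx, hm]; exact hBp.pow_right _
      obtain ⟨K, hK⟩ := Subgroup.exists_right_complement'_of_coprime hcop
      have hcen : B' ≤ Subgroup.center D := by
        intro b hb
        rw [Subgroup.mem_center_iff]
        intro d
        have hb2 : (b : G) ∈ Cfsg.pPrimeCore p G :=
          (Subgroup.mem_inf.mp (show (b : G) ∈ B from hb)).2
        exact Subtype.ext ((Subgroup.mem_centralizer_iff.mp (hDle d.2) (b : G) hb2).symm)
      haveI hKn : K.Normal := by
        rw [← Subgroup.normalizer_eq_top_iff, ← top_le_iff, ← hK.sup_eq_top, sup_le_iff]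
        exact ⟨hcen.trans (Subgroup.center_le_normalizer _), Subgroup.le_normalizer⟩
      have hcardK : IsPGroup p K := by
        refine IsPGroup.of_card (n := m) ?_
        have hmul := hK.card_mul_card
        rw [← Subgroup.card_mul_index B'] at hmul
        rw [Nat.eq_of_mul_eq_mul_left Nat.card_pos hmul, hidx]
        exact hm
      have hKbot : K = ⊥ := by
        have hle : (Cfsg.pCore p D).map D.subtype ≤ (⊥ : Subgroup G) :=
          (PSolvable.pCore_map_le_of_normal D).trans_eq h1
        rw [le_bot_iff, Subgroup.map_eq_bot_iff_of_injective _ D.subtype_injective] at hle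
        exact le_bot_iff.mp (hle ▸ PSolvable.le_pCore hKn hcardK)
      have htop : B' = ⊤ := by simpa [hKbot] using hK.sup_eq_top
      exact Subgroup.subgroupOf_eq_top.mp htop
    · refine le_inf hDle (PSolvable.le_pPrimeCore inferInstance ?_)
      rw [PSolvable.card_comap_mk']
      exact Nat.Coprime.mul_left hBp hc
  rcases PSolvable.cores_ne_bot
    (PSolvable.isPSolvable_map π (PSolvable.isPSolvable_subgroup h C)) with h' | h'
  · refine h' ((Subgroup.map_eq_bot_iff_of_injective _ (C.map π).subtype_injective).mp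
      (hstep _ inferInstance (Subgroup.map_subtype_le _) (Or.inl (PSolvable.isPGroup_pCore.map _))))
  · refine h' ((Subgroup.map_eq_bot_iff_of_injective _ (C.map π).subtype_injective).mp
      (hstep _ inferInstance (Subgroup.map_subtype_le _) (Or.inr ?_)))
    rw [Subgroup.card_map_of_injective (C.map π).subtype_injective]
    exact PSolvable.card_pPrimeCore_coprime

variable (V : Subgroup G) [V.Normal]

/-- The action of `G / C_G(V)` on `V`. -/
def quotAct : (G ⧸ Subgroup.centralizer (V : Set G)) →* MulAut V :=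
  QuotientGroup.lift _ (MulAut.conjNormal : G →* MulAut V) fun c hc => by
    rw [MonoidHom.mem_ker]
    refine MulEquiv.ext fun v => Subtype.ext ?_
    rw [MulAut.conjNormal_apply, MulAut.one_apply, ← Subgroup.mem_centralizer_iff.mp hc v v.2]
    group

/-- `V ⋊ (G / C_G(V))`. -/
abbrev actGroup : Type _ :=
  SemidirectProduct V (G ⧸ Subgroup.centralizer (V : Set G)) (quotAct V)

/-- `V` inside `V ⋊ (G/C_G(V))`. -/
def actV : Subgroup (actGroup V) := SemidirectProduct.inl.range

/-- `G / C_G(V)` inside `V ⋊ (G/C_G(V))`. -/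
def actH : Subgroup (actGroup V) := SemidirectProduct.inr.range

/-- The map `G → V ⋊ (G/C_G(V))`. -/
def actHom : G →* actGroup V :=
  SemidirectProduct.inr.comp (QuotientGroup.mk' (Subgroup.centralizer (V : Set G)))

/-- The embedding `V → V ⋊ (G/C_G(V))`. -/
def actEmb : V →* actGroup V := SemidirectProduct.inl

instance actGroup_finite [Finite G] : Finite (actGroup V) :=
  Finite.of_equiv _ SemidirectProduct.equivProd.symm

theorem actEmb_injective : Function.Injective (actEmb V) := SemidirectProduct.inl_injective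

theorem actHom_conj (g : G) (v : V) :
    actHom V g * actEmb V v * (actHom V g)⁻¹ = actEmb V (MulAut.conjNormal g v) :=
  by
  have h := (SemidirectProduct.inl_aut (φ := quotAct V) (QuotientGroup.mk g) v).symm
  rw [map_inv] at h
  exact h

theorem actHom_range : (actHom V).range = actH V := by
  rw [actHom, MonoidHom.range_comp, QuotientGroup.range_mk', ← MonoidHom.range_eq_map]
  rfl

theorem actHom_eq_one_iff {g : G} : actHom V g = 1 ↔ g ∈ Subgroup.centralizer (V : Set G) := by
  rw [actHom, MonoidHom.comp_apply, map_eq_one_iff _ SemidirectProduct.inr_injective]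
  exact QuotientGroup.eq_one_iff g

theorem actHom_commute_iff {g : G} {v : V} :
    actHom V g * actEmb V v = actEmb V v * actHom V g ↔ g * (v : G) = v * g := by
  constructor
  · intro h
    have h1 : actEmb V (MulAut.conjNormal g v) = actEmb V v := by
      rw [← actHom_conj, h, mul_inv_cancel_right]
    have h2 := congrArg Subtype.val (actEmb_injective V h1)
    rw [MulAut.conjNormal_apply] at h2
    calc g * (v : G) = g * v * g⁻¹ * g := by group
      _ = v * g := by rw [h2]
  · intro h
    have h1 : MulAut.conjNormal g v = v := by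
      apply Subtype.ext
      rw [MulAut.conjNormal_apply, h, mul_inv_cancel_right]
    have h2 := actHom_conj V g v
    rw [h1] at h2
    calc actHom V g * actEmb V v = actHom V g * actEmb V v * (actHom V g)⁻¹ * actHom V g := by group
      _ = actEmb V v * actHom V g := by rw [h2]

theorem actV_elemAb (hV : Cfsg.IsElementaryAbelian p V) :
    Cfsg.IsElementaryAbelian p (actV V) := by
  rw [actV, MonoidHom.range_eq_map]
  refine PGroups.elemAb_map _ (PGroups.elemAb_mk (fun x _ y _ => Subtype.ext ?_) fun a _ => ?_)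
  · exact PGroups.elemAb_comm hV x.2 y.2
  · exact Subtype.ext (hV.2 a a.2)

theorem actH_le_normalizer : actH V ≤ Subgroup.normalizer (actV V : Set (actGroup V)) := by
  rw [actV, SemidirectProduct.range_inl_eq_ker_rightHom, Subgroup.normalizer_eq_top]
  exact le_top

theorem actH_faithful : actH V ⊓ Subgroup.centralizer (actV V : Set (actGroup V)) = ⊥ := by
  rw [eq_bot_iff, ← actHom_range]
  rintro _ ⟨⟨g, rfl⟩, hg⟩
  rw [Subgroup.mem_bot, actHom_eq_one_iff, Subgroup.mem_centralizer_iff]
  intro v hv
  exact ((actHom_commute_iff V (v := ⟨v, hv⟩)).mp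
    (Subgroup.mem_centralizer_iff.mp hg _ ⟨⟨v, hv⟩, rfl⟩).symm).symm

theorem fixOn_act (A : Subgroup G) :
    fixOn (actV V) (A.map (actHom V)) = ((fixOn V A).subgroupOf V).map (actEmb V) := by
  ext x
  constructor
  · rintro ⟨⟨v, rfl⟩, hx⟩
    refine ⟨v, mem_fixOn.mpr ⟨v.2, fun a ha => ?_⟩, rfl⟩
    exact (actHom_commute_iff V).mp (Subgroup.mem_centralizer_iff.mp hx _ ⟨a, ha, rfl⟩)
  · rintro ⟨v, hv, rfl⟩
    refine ⟨⟨v, rfl⟩, Subgroup.mem_centralizer_iff.mpr ?_⟩
    rintro _ ⟨a, ha, rfl⟩
    exact (actHom_commute_iff V).mpr ((mem_fixOn.mp hv).2 a ha)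

theorem card_fixOn_act (A : Subgroup G) :
    Nat.card (fixOn (actV V) (A.map (actHom V))) = Nat.card (fixOn V A) := by
  rw [fixOn_act, Subgroup.card_map_of_injective (actEmb_injective V)]
  exact Nat.card_congr (Subgroup.subgroupOfEquivOfLe fixOn_le).toEquiv

theorem card_map_act_mul [Finite G] (A : Subgroup G) :
    Nat.card (A.map (actHom V)) * Nat.card (A ⊓ Subgroup.centralizer (V : Set G) : Subgroup G) =
      Nat.card A := by
  have hk : (actHom V).ker = Subgroup.centralizer (V : Set G) := by
    ext g; rw [MonoidHom.mem_ker, actHom_eq_one_iff]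
  rw [← Subgroup.relIndex_ker, hk, mul_comm, ← Subgroup.relIndex_bot_left,
    ← Subgroup.inf_relIndex_right (Subgroup.centralizer (V : Set G)) A,
    inf_comm (Subgroup.centralizer (V : Set G)) A,
    Subgroup.relIndex_mul_relIndex _ _ _ bot_le inf_le_left, Subgroup.relIndex_bot_left]

theorem bestOffender_act [Finite G] {A : Subgroup G} (h : Cfsg.IsBestOffenderOn p V A) :
    Cfsg.IsBestOffenderOn p (actV V) (A.map (actHom V)) := by
  refine ⟨fun B hB => ?_, ?_, ?_⟩
  · set C := Subgroup.centralizer (V : Set G)
    set B₀ := A ⊓ B.comap (actHom V) with hB₀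
    have hBmap : B₀.map (actHom V) = B := by
      refine le_antisymm ?_ fun y hy => ?_
      · rintro _ ⟨x, hx, rfl⟩; exact hx.2
      · obtain ⟨a, ha, rfl⟩ := hB hy
        exact ⟨a, ⟨ha, hy⟩, rfl⟩
    have hinf : B₀ ⊓ C = A ⊓ C := by
      refine le_antisymm (inf_le_inf_right _ inf_le_left) fun x hx => ⟨⟨hx.1, ?_⟩, hx.2⟩
      show actHom V x ∈ B
      rw [(actHom_eq_one_iff V).mpr hx.2]
      exact B.one_mem
    have h1 := h.1 B₀ inf_le_left
    rw [← hBmap]
    change Nat.card _ * Nat.card (fixOn _ _) ≤ Nat.card _ * Nat.card (fixOn _ _)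
    rw [card_fixOn_act, card_fixOn_act]
    change Nat.card B₀ * Nat.card (fixOn V B₀) ≤ Nat.card A * Nat.card (fixOn V A) at h1
    rw [← card_map_act_mul V B₀, ← card_map_act_mul V A, hinf] at h1
    refine Nat.le_of_mul_le_mul_right ?_ (Nat.card_pos (α := (A ⊓ C : Subgroup G)))
    calc _ = Nat.card (B₀.map (actHom V)) * Nat.card (A ⊓ C : Subgroup G) *
          Nat.card (fixOn V B₀) := by ring
      _ ≤ _ := h1
      _ = _ := by ring
  · have : ⁅A.map (actHom V), A.map (actHom V)⁆ = ⊥ := by
      rw [← Subgroup.map_commutator, Subgroup.map_eq_bot_iff]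
      exact h.2.1.trans fun x hx => (actHom_eq_one_iff V).mpr hx
    rw [this]; exact bot_le
  · rintro _ ⟨a, ha, rfl⟩
    rw [← map_pow, (actHom_eq_one_iff V).mpr (h.2.2 a ha)]
    exact Subgroup.one_mem _

theorem offenderSetup_act [Finite G] [Fact p.Prime] (hV : Cfsg.IsElementaryAbelian p V)
    (hsep : Cfsg.IsPSolvable p (G ⧸ Subgroup.centralizer (V : Set G)))
    (hO : Cfsg.pCore p (G ⧸ Subgroup.centralizer (V : Set G)) = ⊥) :
    OffenderSetup p (actV V) (actH V) ((Cfsg.pPrimeCore p ↥(actH V)).map (actH V).subtype) := by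
  let e : (G ⧸ Subgroup.centralizer (V : Set G)) ≃* ↥(actH V) :=
    MonoidHom.ofInjective SemidirectProduct.inr_injective
  refine offenderSetup_of_pPrimeCore (actV_elemAb V hV) (actH_le_normalizer V) (actH_faithful V)
    (centralizer_pPrimeCore_le ((PSolvable.isPSolvable_congr e).mp hsep) ?_)
  rw [← Cores.map_pCore_equiv e, hO, Subgroup.map_bot]

end Cfsg.Agent.Lib.PLocal
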