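import Cfsg.Agent.Lib.PLocal.Action

/-!
# The intersection lemma and Timmesfeld's replacement

Owner: helper19.
-/

namespace Cfsg.Agent.Lib.PLocal

open Subgroup
open scoped commutatorElement

variable {G : Type*} [Group G] {p : ℕ} {V A B : Subgroup G}

/-- `|A| |C_V(A)|`. -/
noncomputable abbrev meas (V A : Subgroup G) : ℕ := Nat.card A * Nat.card (fixOn V A)

theorem meas_pos [Finite G] (V A : Subgroup G) : 0 < meas V A :=
  Nat.mul_pos Nat.card_pos Nat.card_pos

theorem meas_bot : meas V (⊥ : Subgroup G) = Nat.card V := by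
  rw [meas, fixOn_bot, Subgroup.card_bot, one_mul]

theorem meas_le_of_bestOffender (h : Cfsg.IsBestOffenderOn p V A) (hB : B ≤ A) :
    meas V B ≤ meas V A :=
  h.1 B hB

/-- A subgroup of a best offender with the same measure is a best offender. -/
theorem bestOffender_of_meas_eq (h : Cfsg.IsBestOffenderOn p V A) (hB : B ≤ A)
    (he : meas V B = meas V A) : Cfsg.IsBestOffenderOn p V B :=
  ⟨fun C hC => (h.1 C (hC.trans hB)).trans he.ge,
    (Subgroup.commutator_mono hB hB).trans h.2.1, fun b hb => h.2.2 b (hB hb)⟩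

/-- `|HK| |H ∩ K| = |H| |K|` when `H` normalises `K`. -/
theorem card_sup_mul_card_inf [Finite G] {H K : Subgroup G}
    (h : H ≤ Subgroup.normalizer (K : Set G)) :
    Nat.card (H ⊔ K : Subgroup G) * Nat.card (H ⊓ K : Subgroup G) = Nat.card H * Nat.card K := by
  have hn : (K.subgroupOf (H ⊔ K)).Normal :=
    Subgroup.normal_subgroupOf_of_le_normalizer (sup_le h Subgroup.le_normalizer)
  have h4 := Subgroup.relIndex_sup_right (H.subgroupOf (H ⊔ K)) (K.subgroupOf (H ⊔ K))
  rw [← Subgroup.subgroupOf_sup le_sup_left le_sup_right, Subgroup.subgroupOf_self,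
    Subgroup.relIndex_top_right, Subgroup.relIndex_subgroupOf le_sup_left] at h4
  have h5 := Subgroup.card_mul_index (K.subgroupOf (H ⊔ K))
  rw [Nat.card_congr (Subgroup.subgroupOfEquivOfLe (le_sup_right : K ≤ H ⊔ K)).toEquiv, h4] at h5
  have h6 := Subgroup.card_mul_index (K.subgroupOf H)
  rw [← Subgroup.inf_subgroupOf_left,
    Nat.card_congr (Subgroup.subgroupOfEquivOfLe (inf_le_left : H ⊓ K ≤ H)).toEquiv] at h6
  rw [← h5, ← h6, Subgroup.inf_subgroupOf_left, Subgroup.relIndex]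
  ring

/-- The intersection lemma: two subgroups of maximal measure meet in one of maximal measure. -/
theorem meas_inf_eq [Finite G] (hV : IsMulCommutative V)
    (hmax : ∀ C : Subgroup G, C ≤ A → meas V C ≤ meas V A) {B₁ B₂ : Subgroup G}
    (h₁ : B₁ ≤ A) (h₂ : B₂ ≤ A) (hn : B₁ ≤ Subgroup.normalizer (B₂ : Set G))
    (e₁ : meas V B₁ = meas V A) (e₂ : meas V B₂ = meas V A) :
    meas V (B₁ ⊓ B₂) = meas V A ∧ fixOn V (B₁ ⊓ B₂) = fixOn V B₁ ⊔ fixOn V B₂ := by
  set C₁ := fixOn V B₁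
  set C₂ := fixOn V B₂
  have hn' : C₁ ≤ Subgroup.normalizer (C₂ : Set G) := by
    refine le_trans ?_ (Subgroup.centralizer_le_normalizer _)
    exact fixOn_le.trans ((Subgroup.le_centralizer_iff_isMulCommutative.mpr hV).trans
      (Subgroup.centralizer_le fixOn_le))
  have hsup : C₁ ⊔ C₂ ≤ fixOn V (B₁ ⊓ B₂) :=
    sup_le (fixOn_anti inf_le_left) (fixOn_anti inf_le_right)
  have hfs : fixOn V (B₁ ⊔ B₂) = C₁ ⊓ C₂ := fixOn_sup V B₁ B₂
  have hB := card_sup_mul_card_inf hn
  have hC := card_sup_mul_card_inf hn'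
  have h12 : meas V (B₁ ⊔ B₂) * (Nat.card (B₁ ⊓ B₂ : Subgroup G) * Nat.card (C₁ ⊔ C₂ : Subgroup G))
      = meas V A * meas V A := by
    nth_rw 1 [← e₁, ← e₂]
    simp only [meas, hfs]
    calc _ = (Nat.card (B₁ ⊔ B₂ : Subgroup G) * Nat.card (B₁ ⊓ B₂ : Subgroup G)) *
          (Nat.card (C₁ ⊔ C₂ : Subgroup G) * Nat.card (C₁ ⊓ C₂ : Subgroup G)) := by ring
      _ = _ := by rw [hB, hC]; ring
  have hle : Nat.card (B₁ ⊓ B₂ : Subgroup G) * Nat.card (C₁ ⊔ C₂ : Subgroup G) ≤
      meas V (B₁ ⊓ B₂) := Nat.mul_le_mul_left _ (Subgroup.card_le_of_le hsup)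
  have hi := hmax (B₁ ⊓ B₂) (inf_le_left.trans h₁)
  have hs := hmax (B₁ ⊔ B₂) (sup_le h₁ h₂)
  have hpos := meas_pos V A
  have e : meas V A ≤ Nat.card (B₁ ⊓ B₂ : Subgroup G) * Nat.card (C₁ ⊔ C₂ : Subgroup G) := by
    refine Nat.le_of_mul_le_mul_left ?_ hpos
    calc meas V A * meas V A = _ := h12.symm
      _ ≤ meas V A * _ := Nat.mul_le_mul_right _ hs
  refine ⟨le_antisymm hi (e.trans hle), (Subgroup.eq_of_le_of_card_ge hsup ?_).symm⟩
  refine Nat.le_of_mul_le_mul_left ?_ (Nat.card_pos (α := (B₁ ⊓ B₂ : Subgroup G)))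
  exact hi.trans e

theorem le_normalizer_of_commutator_le (hBA : B ≤ A) (hc : ⁅A, A⁆ ≤ B) :
    A ≤ Subgroup.normalizer (B : Set G) :=
  Subgroup.le_normalizer_iff_commutator_le_left.mpr ((Subgroup.commutator_mono hBA le_rfl).trans hc)

theorem commutator_zpowers_le_centralizer {c u : G} (hV : IsMulCommutative V)
    (hA : A ≤ Subgroup.normalizer (V : Set G)) (hu : u ∈ V)
    (h : ∀ b ∈ A, Commute c ⁅u, b⁆) :
    ⁅Subgroup.zpowers u, A⁆ ≤ Subgroup.centralizer {c} := by
  rw [Subgroup.commutator_le]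
  intro v hv b hb
  obtain ⟨k, rfl⟩ := hv
  rw [Subgroup.mem_centralizer_singleton_iff]
  have hk : ⁅u ^ k, b⁆ = ⁅u, b⁆ ^ k :=
    congrArg Subtype.val (map_zpow (commHom hV b (hA hb)) (⟨u, hu⟩ : V) k)
  show ⁅u ^ k, b⁆ * c = c * ⁅u ^ k, b⁆
  rw [hk]
  exact (((h b hb).zpow_right k).symm).eq

/-- Replacement for one element: the counting step. -/
theorem replacement_single [Finite G] (hV : IsMulCommutative V)
    (hA : A ≤ Subgroup.normalizer (V : Set G)) (hab : ⁅A, A⁆ ≤ Subgroup.centralizer (V : Set G))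
    (hmax : ∀ C : Subgroup G, C ≤ A → meas V C ≤ meas V A) {u : G} (hu : u ∈ V) :
    meas V (A ⊓ Subgroup.centralizer ((⁅Subgroup.zpowers u, A⁆ : Subgroup G) : Set G)) = meas V A ∧
      fixOn V (A ⊓ Subgroup.centralizer ((⁅Subgroup.zpowers u, A⁆ : Subgroup G) : Set G)) =
        ⁅Subgroup.zpowers u, A⁆ ⊔ fixOn V A := by
  set X : Subgroup G := ⁅Subgroup.zpowers u, A⁆ with hX
  set B := A ⊓ Subgroup.centralizer (X : Set G) with hB
  set C := fixOn V A with hC
  have hXV : X ≤ V :=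
    (Subgroup.commutator_mono (Subgroup.zpowers_le.mpr hu) le_rfl).trans (commutator_le_self hA)
  have hBA : B ≤ A := inf_le_left
  have hsup : X ⊔ C ≤ fixOn V B :=
    sup_le (le_inf hXV (Subgroup.le_centralizer_iff.mp inf_le_right)) (fixOn_anti hBA)
  have hidx : B.relIndex A ≤ C.relIndex (X ⊔ C) := by
    rw [Subgroup.relIndex, Subgroup.relIndex, Subgroup.index_eq_card, Subgroup.index_eq_card]
    let f : A → (X ⊔ C : Subgroup G) := fun a => ⟨⁅u, (a : G)⁆,
      Subgroup.mem_sup_left (Subgroup.commutator_mem_commutator (Subgroup.mem_zpowers u) a.2)⟩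
    refine Nat.card_le_card_of_injective
      (fun q => (QuotientGroup.mk (f q.out) : (X ⊔ C : Subgroup G) ⧸ C.subgroupOf (X ⊔ C))) ?_
    intro q q' h
    rw [← QuotientGroup.out_eq' q, ← QuotientGroup.out_eq' q', QuotientGroup.eq]
    have hmem := (QuotientGroup.eq.mp h)
    set a : G := ((q.out : A) : G) with haa
    set a' : G := ((q'.out : A) : G) with haa'
    have ha : a ∈ A := (q.out : A).2
    have ha' : a' ∈ A := (q'.out : A).2
    have hs : ⁅u, a⁆⁻¹ * ⁅u, a'⁆ ∈ C := hmem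
    show a⁻¹ * a' ∈ B
    set s := ⁅u, a⁆⁻¹ * ⁅u, a'⁆
    -- `c = a⁻¹ a'` moves `u` by a fixed element
    have hc' : a⁻¹ * a' ∈ A := A.mul_mem (A.inv_mem ha) ha'
    have huc : ⁅u, a⁻¹ * a'⁆ = s := by
      have hsa := (mem_fixOn.mp hs).2 a ha
      have h2 : ⁅u, a⁻¹ * a'⁆ = ⁅u, a⁻¹⁆ * (a⁻¹ * ⁅u, a'⁆ * a) := by
        simp only [commutatorElement_def]; group
      have h3 : ⁅u, a'⁆ = ⁅u, a⁆ * s := (mul_inv_cancel_left _ _).symm
      rw [h2, h3]
      calc ⁅u, a⁻¹⁆ * (a⁻¹ * (⁅u, a⁆ * s) * a) = ⁅u, a⁻¹⁆ * (a⁻¹ * ⁅u, a⁆ * (s * a)) := by group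
        _ = ⁅u, a⁻¹⁆ * (a⁻¹ * ⁅u, a⁆ * (a * s)) := by rw [hsa]
        _ = s := by simp only [commutatorElement_def]; group
    refine ⟨hc', Subgroup.mem_centralizer_iff.mpr fun x hx => ?_⟩
    refine Subgroup.mem_centralizer_singleton_iff.mp
      (commutator_zpowers_le_centralizer hV hA hu ?_ hx)
    intro b hb
    have h5 := commutatorElement_swap hV (hA hc') (hA hb)
      (hab (Subgroup.commutator_mem_commutator hc' hb)) hu
    rw [huc] at h5
    have h6 : ⁅s, b⁆ = 1 :=
      commutatorElement_eq_one_iff_mul_comm.mpr ((mem_fixOn.mp hs).2 b hb).symm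
    rw [h6] at h5
    exact (commutatorElement_eq_one_iff_commute.mp h5).symm
  have h1 : Nat.card A = Nat.card B * B.relIndex A := by
    rw [Subgroup.relIndex, ← Nat.card_congr (Subgroup.subgroupOfEquivOfLe hBA).toEquiv,
      Subgroup.card_mul_index]
  have h2 : Nat.card (X ⊔ C : Subgroup G) = Nat.card C * C.relIndex (X ⊔ C) := by
    rw [Subgroup.relIndex,
      ← Nat.card_congr (Subgroup.subgroupOfEquivOfLe (le_sup_right : C ≤ X ⊔ C)).toEquiv,
      Subgroup.card_mul_index]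
  have h3 : meas V A ≤ Nat.card B * Nat.card (X ⊔ C : Subgroup G) :=
    calc meas V A = Nat.card B * (Nat.card C * B.relIndex A) := by rw [meas, ← hC, h1]; ring
      _ ≤ Nat.card B * (Nat.card C * C.relIndex (X ⊔ C)) :=
          Nat.mul_le_mul_left _ (Nat.mul_le_mul_left _ hidx)
      _ = _ := by rw [h2]
  have h4 : Nat.card B * Nat.card (X ⊔ C : Subgroup G) ≤ meas V B :=
    Nat.mul_le_mul_left _ (Subgroup.card_le_of_le hsup)
  refine ⟨le_antisymm (hmax B hBA) (h3.trans h4), (Subgroup.eq_of_le_of_card_ge hsup ?_).symm⟩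
  exact Nat.le_of_mul_le_mul_left ((hmax B hBA).trans h3) Nat.card_pos

/-- Timmesfeld's replacement theorem for a subgroup of maximal measure. -/
theorem replacement [Finite G] (hV : IsMulCommutative V)
    (hA : A ≤ Subgroup.normalizer (V : Set G)) (hab : ⁅A, A⁆ ≤ Subgroup.centralizer (V : Set G))
    (hmax : ∀ C : Subgroup G, C ≤ A → meas V C ≤ meas V A) {U : Subgroup G} (hU : U ≤ V) :
    meas V (A ⊓ Subgroup.centralizer ((⁅U, A⁆ : Subgroup G) : Set G)) = meas V A ∧
      fixOn V (A ⊓ Subgroup.centralizer ((⁅U, A⁆ : Subgroup G) : Set G)) =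
        ⁅U, A⁆ ⊔ fixOn V A := by
  classical
  let X : Finset U → Subgroup G := fun s => s.sup fun u => ⁅Subgroup.zpowers (u : G), A⁆
  have hXle : ∀ s, X s ≤ V := fun s => Finset.sup_le fun u _ =>
    (Subgroup.commutator_mono (Subgroup.zpowers_le.mpr (hU u.2)) le_rfl).trans (commutator_le_self hA)
  have key : ∀ s : Finset U,
      meas V (A ⊓ Subgroup.centralizer (X s : Set G)) = meas V A ∧
        fixOn V (A ⊓ Subgroup.centralizer (X s : Set G)) = X s ⊔ fixOn V A := by
    intro s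
    induction s using Finset.induction with
    | empty =>
      have : A ⊓ Subgroup.centralizer ((X ∅ : Subgroup G) : Set G) = A := by
        simp only [X, Finset.sup_empty]
        exact inf_eq_left.mpr fun a _ => Subgroup.mem_centralizer_iff.mpr fun y hy => by
          obtain rfl := Subgroup.mem_bot.mp hy
          simp
      rw [this]
      simp [X]
    | insert u s hus ih =>
      have hins : X (insert u s) = ⁅Subgroup.zpowers (u : G), A⁆ ⊔ X s := Finset.sup_insert
      obtain ⟨e₁, f₁⟩ := replacement_single hV hA hab hmax (hU u.2)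
      set B₁ := A ⊓ Subgroup.centralizer ((⁅Subgroup.zpowers (u : G), A⁆ : Subgroup G) : Set G)
      set B₂ := A ⊓ Subgroup.centralizer (X s : Set G)
      have hn : B₁ ≤ Subgroup.normalizer (B₂ : Set G) :=
        inf_le_left.trans (le_normalizer_of_commutator_le inf_le_left
          (le_inf (Subgroup.commutator_le_self A) (hab.trans (Subgroup.centralizer_le (hXle s)))))
      have hinf : A ⊓ Subgroup.centralizer (X (insert u s) : Set G) = B₁ ⊓ B₂ := by
        rw [hins]
        apply le_antisymm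
        · exact le_inf (inf_le_inf_left _ (Subgroup.centralizer_le (SetLike.coe_subset_coe.mpr le_sup_left)))
            (inf_le_inf_left _ (Subgroup.centralizer_le (SetLike.coe_subset_coe.mpr le_sup_right)))
        · refine le_inf (inf_le_left.trans inf_le_left) (Subgroup.le_centralizer_iff.mpr ?_)
          exact sup_le (Subgroup.le_centralizer_iff.mpr (inf_le_left.trans inf_le_right))
            (Subgroup.le_centralizer_iff.mpr (inf_le_right.trans inf_le_right))
      obtain ⟨e, f⟩ := meas_inf_eq hV hmax inf_le_left inf_le_left hn e₁ ih.1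
      rw [hinf]
      refine ⟨e, ?_⟩
      rw [f, f₁, ih.2, hins, sup_sup_sup_comm, sup_idem]
  have hfin : X (Set.toFinite (Set.univ : Set U)).toFinset = ⁅U, A⁆ := by
    refine le_antisymm (Finset.sup_le fun u _ =>
      Subgroup.commutator_mono (Subgroup.zpowers_le.mpr u.2) le_rfl) ?_
    rw [Subgroup.commutator_le]
    intro u hu a ha
    exact Finset.le_sup (f := fun u : U => ⁅Subgroup.zpowers (u : G), A⁆)
      ((Set.Finite.mem_toFinset _).mpr (Set.mem_univ (⟨u, hu⟩ : U)))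
      (Subgroup.commutator_mem_commutator (Subgroup.mem_zpowers u) ha)
  rw [← hfin]
  exact key _

end Cfsg.Agent.Lib.PLocal
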