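import Cfsg.Agent.Lib.PLocal.OffenderStructure

/-!
# A coprime abelian operator group on a group generated by best offenders

Owner: helper19. `Y` is an abelian `q`-group (`q ≥ 5`) normalising `V`, `H` and `Q`. Every element
of a component `E = [Q,A]A` is induced on `W = [V,E]` by an element of `H` centralising `Y`, and
`W` has an isomorphic image in `C_V(Y)`.
-/

set_option autoImplicit false

namespace Cfsg.Agent.Lib.PLocal

open Subgroup
open scoped commutatorElement

section Transport

variable {G H : Type*} [Group G] [Group H] {p : ℕ}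

theorem map_fixOn_of_injective (f : G →* H) (hf : Function.Injective f) (V B : Subgroup G) :
    (fixOn V B).map f = fixOn (V.map f) (B.map f) := by
  ext y
  constructor
  · rintro ⟨x, hx, rfl⟩
    refine mem_fixOn.mpr ⟨Subgroup.mem_map_of_mem f hx.1, ?_⟩
    rintro _ ⟨b, hb, rfl⟩
    rw [← map_mul, ← map_mul, (mem_fixOn.mp hx).2 b hb]
  · intro hy
    obtain ⟨x, hx, rfl⟩ := (mem_fixOn.mp hy).1
    refine ⟨x, mem_fixOn.mpr ⟨hx, fun b hb => hf ?_⟩, rfl⟩
    rw [map_mul, map_mul]
    exact (mem_fixOn.mp hy).2 _ (Subgroup.mem_map_of_mem f hb)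

/-- Best offenders are preserved by injective homomorphisms. -/
theorem bestOffender_map (f : G →* H) (hf : Function.Injective f) {V A : Subgroup G}
    (h : Cfsg.IsBestOffenderOn p V A) : Cfsg.IsBestOffenderOn p (V.map f) (A.map f) := by
  have hc : ∀ x ∈ Subgroup.centralizer (V : Set G),
      f x ∈ Subgroup.centralizer ((V.map f : Subgroup H) : Set H) := by
    intro x hx
    refine Subgroup.mem_centralizer_iff.mpr ?_
    rintro _ ⟨v, hv, rfl⟩
    rw [← map_mul, ← map_mul, Subgroup.mem_centralizer_iff.mp hx v hv]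
  refine ⟨fun B hB => ?_, ?_, ?_⟩
  · have hB' : (B.comap f).map f = B :=
      Subgroup.map_comap_eq_self (hB.trans (Subgroup.map_le_range f A))
    have hle : B.comap f ≤ A := (Subgroup.comap_mono hB).trans
      (Subgroup.comap_map_eq_self_of_injective hf A).le
    have h1 := h.1 _ hle
    rw [← hB']
    change Nat.card _ * Nat.card (fixOn _ _) ≤ Nat.card _ * Nat.card (fixOn _ _)
    rw [← map_fixOn_of_injective f hf, ← map_fixOn_of_injective f hf,
      Subgroup.card_map_of_injective hf, Subgroup.card_map_of_injective hf,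
      Subgroup.card_map_of_injective hf, Subgroup.card_map_of_injective hf]
    exact h1
  · rw [← Subgroup.map_commutator]
    rintro _ ⟨x, hx, rfl⟩
    exact hc x (h.2.1 hx)
  · rintro _ ⟨a, ha, rfl⟩
    rw [← map_pow]
    exact hc _ (h.2.2 a ha)

end Transport

/-- Reindexing a product of commuting elements. -/
theorem noncommProd_univ_equiv {ι β : Type*} [Fintype ι] [Monoid β] (σ : Equiv.Perm ι) {f g : ι → β}
    (hfg : ∀ i, f i = g (σ i)) (hf) (hg) :
    Finset.univ.noncommProd f hf = Finset.univ.noncommProd g hg := by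
  have h : (Finset.univ : Finset ι).1.map f = (Finset.univ : Finset ι).1.map g := by
    rw [show f = g ∘ σ from funext hfg, ← Multiset.map_map, Multiset.map_univ_val_equiv]
  simp only [Finset.noncommProd]
  congr 1

variable {G : Type*} [Group G] [Finite G] {p q : ℕ} [hp : Fact p.Prime] [hq : Fact q.Prime]
  {V H Q Y A A' : Subgroup G}

/-- `Y` is an abelian `q`-group of operators, `q ≥ 5`. -/
structure OperatorSetup (p q : ℕ) (V H Q Y : Subgroup G) : Prop where
  setup : OffenderSetup p V H Q
  gen : H = ⨆ A : {A : Subgroup G // A ≤ H ∧ Cfsg.IsBestOffenderOn p V A}, (A : Subgroup G)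
  comm : IsMulCommutative Y
  qGroup : IsPGroup q Y
  q_ne_two : q ≠ 2
  q_ne_three : q ≠ 3
  normV : Y ≤ Subgroup.normalizer (V : Set G)
  normH : Y ≤ Subgroup.normalizer (H : Set G)
  normQ : Y ≤ Subgroup.normalizer (Q : Set G)

theorem isTransv_conj_of_normalizer (hB : IsTransv p V H A) {g : G}
    (hgV : g ∈ Subgroup.normalizer (V : Set G)) (hgH : g ∈ Subgroup.normalizer (H : Set G)) :
    IsTransv p V H (A.map (MulAut.conj g).toMonoidHom) := by
  refine ⟨?_, by rw [Subgroup.card_map_of_injective (MulAut.conj g).injective, hB.2.1], ?_⟩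
  · rintro _ ⟨b, hb, rfl⟩
    exact (Subgroup.mem_normalizer_iff.mp hgH b).mp (hB.1 hb)
  · rw [meas, map_conj_fixOn hgV, Subgroup.card_map_of_injective (MulAut.conj g).injective,
      Subgroup.card_map_of_injective (MulAut.conj g).injective]
    exact hB.2.2

theorem offE_conj {g : G} (hg : g ∈ Subgroup.normalizer (Q : Set G)) :
    (offE Q A).map (MulAut.conj g).toMonoidHom = offE Q (A.map (MulAut.conj g).toMonoidHom) := by
  rw [Subgroup.map_sup, Subgroup.map_commutator, map_conj_self hg]

namespace OperatorSetup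

theorem dvd_false (O : OperatorSetup p q V H Q Y) {n : ℕ} (hn : q ∣ n) (h0 : n ≠ 0) : 5 ≤ n := by
  have h1 := Nat.le_of_dvd (Nat.pos_of_ne_zero h0) hn
  have h2 := hq.out.two_le
  have h3 := O.q_ne_two
  have h4 := O.q_ne_three
  rcases Nat.lt_or_ge q 5 with h | h
  · have h5 : q = 4 := by omega
    exact absurd (h5 ▸ hq.out) (by decide)
  · omega

theorem coprime_pow (O : OperatorSetup p q V H Q Y) (hA : IsTransv p V H A) (k : ℕ) :
    (q ^ k).Coprime (Nat.card ↥(offE Q A)) := by
  refine Nat.Coprime.pow_left _ ((Nat.Prime.coprime_iff_not_dvd hq.out).mpr fun hd => ?_)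
  rw [card_offE O.setup hA] at hd
  have h5 : ∀ {n : ℕ}, q ∣ n → n ≠ 0 → 5 ≤ n := fun h h' => O.dvd_false h h'
  rcases (Nat.Prime.dvd_mul hq.out).mp hd with h | h
  · have := h5 h hp.out.ne_zero
    rcases p_eq_two_or_three O.setup hA with h' | h' <;> omega
  · rcases card_R O.setup hA with ⟨-, h'⟩ | ⟨-, h'⟩
    · rw [h'] at h
      have := h5 h (by norm_num)
      omega
    · rw [h'] at h
      have h2 : q ∣ 2 := hq.out.dvd_of_dvd_pow (show q ∣ 2 ^ 3 by simpa using h)
      have := h5 h2 (by norm_num)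
      omega

/-- An element of `Y` normalising a component centralises its plane. -/
theorem centralizes_W (O : OperatorSetup p q V H Q Y) (hA : IsTransv p V H A) {y : G} (hy : y ∈ Y)
    (hyE : y ∈ Subgroup.normalizer (offE Q A : Set G)) :
    y ∈ Subgroup.centralizer ((⁅V, offE Q A⁆ : Subgroup G) : Set G) := by
  set W : Subgroup G := ⁅V, offE Q A⁆ with hWdef
  have hzY : Subgroup.zpowers y ≤ Y := Subgroup.zpowers_le.mpr hy
  have hn : Subgroup.zpowers y ≤ Subgroup.normalizer (W : Set G) :=
    normalizer_W_of_normalizer (hzY.trans O.normV) (Subgroup.zpowers_le.mpr hyE)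
  let φ : ↥(Subgroup.zpowers y) →* MulAut W :=
    (Subgroup.normalizerMonoidHom W).comp (Subgroup.inclusion hn)
  letI : MulAction ↥(Subgroup.zpowers y) W := MulAction.compHom W φ
  have hmod := (O.qGroup.to_le hzY).card_modEq_card_fixedPoints (α := W)
  set F := fixOn W (Subgroup.zpowers y) with hF
  have hfix : Nat.card (MulAction.fixedPoints ↥(Subgroup.zpowers y) W) = Nat.card F := by
    refine Nat.card_congr (Equiv.trans (Equiv.subtypeEquivRight fun w => ?_)
      (Subgroup.subgroupOfEquivOfLe (fixOn_le (V := W) (A := Subgroup.zpowers y))).toEquiv)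
    show w ∈ MulAction.fixedPoints ↥(Subgroup.zpowers y) W ↔ (w : G) ∈ F
    simp only [MulAction.mem_fixedPoints, hF, mem_fixOn, w.2, true_and, Subtype.forall]
    refine forall₂_congr fun a ha => ?_
    show φ ⟨a, ha⟩ w = w ↔ _
    rw [← Subtype.val_inj]
    show a * (w : G) * a⁻¹ = w ↔ _
    exact mul_inv_eq_iff_eq_mul
  rw [hfix, card_W O.setup hA] at hmod
  obtain ⟨i, hi, hi'⟩ := (Nat.dvd_prime_pow hp.out).mp
    (card_W O.setup hA ▸ Subgroup.card_dvd_of_le (fixOn_le (V := W) (A := Subgroup.zpowers y)))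
  change Nat.card F = p ^ i at hi'
  have hi2 : i = 2 := by
    by_contra hne
    have hle : Nat.card F ≤ p ^ 2 := hi' ▸ Nat.pow_le_pow_right hp.out.pos hi
    have hd : q ∣ p ^ 2 - Nat.card F := (Nat.modEq_iff_dvd' hle).mp hmod.symm
    rw [hi'] at hd
    interval_cases i
    · rcases p_eq_two_or_three O.setup hA with rfl | rfl
      · have := O.dvd_false hd (by norm_num)
        omega
      · have h2 : q ∣ 2 := hq.out.dvd_of_dvd_pow (show q ∣ 2 ^ 3 by simpa using hd)
        have := O.dvd_false h2 (by norm_num)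
        omega
    · rcases p_eq_two_or_three O.setup hA with rfl | rfl
      · have := O.dvd_false hd (by norm_num)
        omega
      · have h2 : q ∣ 2 * 3 := by simpa using hd
        rcases (Nat.Prime.dvd_mul hq.out).mp h2 with h | h <;>
          · have := O.dvd_false h (by norm_num)
            omega
    · exact hne rfl
  have hFW : F = W := Subgroup.eq_of_le_of_card_ge fixOn_le (by rw [hi', hi2, card_W O.setup hA])
  exact fixOn_eq_self_iff.mp hFW (Subgroup.mem_zpowers y)

/-- An element of `Y` normalising a component centralises it. -/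
theorem centralizes_E (O : OperatorSetup p q V H Q Y) (hA : IsTransv p V H A) {y : G} (hy : y ∈ Y)
    (hyE : y ∈ Subgroup.normalizer (offE Q A : Set G)) {e : G} (he : e ∈ offE Q A) :
    y * e * y⁻¹ = e := by
  set W : Subgroup G := ⁅V, offE Q A⁆ with hWdef
  have hyW := O.centralizes_W hA hy hyE
  have hmem : y * e * y⁻¹ * e⁻¹ ∈ offE Q A ⊓ Subgroup.centralizer (W : Set G) := by
    refine ⟨(offE Q A).mul_mem ((Subgroup.mem_normalizer_iff.mp hyE e).mp he)
      ((offE Q A).inv_mem he), Subgroup.mem_centralizer_iff.mpr fun w hw => ?_⟩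
    have hw1 : e⁻¹ * w * e ∈ W :=
      (Subgroup.mem_normalizer_iff''.mp (offE_normalizer_W O.setup hA he) w).mp hw
    have h1 : y⁻¹ * (e⁻¹ * w * e) * y = e⁻¹ * w * e := by
      rw [mul_assoc, Subgroup.mem_centralizer_iff.mp hyW _ hw1, inv_mul_cancel_left]
    have h2 : y * w * y⁻¹ = w := by
      rw [← Subgroup.mem_centralizer_iff.mp hyW w hw, mul_inv_cancel_right]
    calc w * (y * e * y⁻¹ * e⁻¹) = (y * w * y⁻¹) * (y * e * y⁻¹ * e⁻¹) := by rw [h2]
      _ = y * e * (e⁻¹ * w * e) * y⁻¹ * e⁻¹ := by group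
      _ = y * e * (y⁻¹ * (e⁻¹ * w * e) * y) * y⁻¹ * e⁻¹ := by rw [h1]
      _ = y * e * y⁻¹ * e⁻¹ * w := by group
  rw [offE_faithful O.setup hA, Subgroup.mem_bot] at hmem
  exact mul_inv_eq_one.mp hmem

/-- `C_H([V,E])`. -/
abbrev compl (V H Q A : Subgroup G) : Subgroup G :=
  H ⊓ Subgroup.centralizer ((⁅V, offE Q A⁆ : Subgroup G) : Set G)

theorem H_le_normalizer_W (O : OperatorSetup p q V H Q Y) (hA : IsTransv p V H A) :
    H ≤ Subgroup.normalizer ((⁅V, offE Q A⁆ : Subgroup G) : Set G) :=
  normalizer_W_of_normalizer O.setup.norm (complement O.setup O.gen hA).2.2.2.2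

/-- The elements of `Y` normalising a component. -/
abbrev stab (Y Q A : Subgroup G) : Subgroup G :=
  Y ⊓ Subgroup.normalizer (offE Q A : Set G)

/-- Distinct conjugates of a component: the other one's plane is fixed, and it lies in the
complement. -/
theorem conj_cases (O : OperatorSetup p q V H Q Y) (hA : IsTransv p V H A) {y : G} (hy : y ∈ Y) :
    IsTransv p V H (A.map (MulAut.conj y).toMonoidHom) ∧
    (y ∈ Subgroup.normalizer (offE Q A : Set G) ∨
      (⁅offE Q A, offE Q (A.map (MulAut.conj y).toMonoidHom)⁆ = ⊥ ∧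
        (∀ e ∈ offE Q A, y * e * y⁻¹ ∈ compl V H Q A) ∧
        (∀ w ∈ (⁅V, offE Q A⁆ : Subgroup G), y * w * y⁻¹ ∈ fixOn V (offE Q A)))) := by
  have hA' := isTransv_conj_of_normalizer hA (O.normV hy) (O.normH hy)
  refine ⟨hA', ?_⟩
  have hE := offE_conj (A := A) (O.normQ hy)
  rcases dichotomy O.setup hA hA' with h | ⟨hc, hW', hW⟩
  · left
    rw [Subgroup.mem_normalizer_iff_map_conj_eq]
    exact hE.trans h
  · right
    refine ⟨hc, fun e he => ⟨?_, ?_⟩, fun w hw => hW' ?_⟩
    · exact offE_le O.setup hA' (hE ▸ Subgroup.mem_map_of_mem _ he)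
    · exact Subgroup.le_centralizer_iff.mp (hW.trans inf_le_right)
        (hE ▸ Subgroup.mem_map_of_mem _ he)
    · have h1 := commutator_conj (V := V) (O.normV hy) (offE Q A)
      rw [hE] at h1
      rw [h1]
      exact Subgroup.mem_map_of_mem _ hw

/-- Elements of a component are induced on its plane by elements of `C_H(Y)`. -/
theorem exists_fixed (O : OperatorSetup p q V H Q Y) (hA : IsTransv p V H A) {e : G}
    (he : e ∈ offE Q A) :
    ∃ c ∈ H, c ∈ Subgroup.centralizer (Y : Set G) ∧ e⁻¹ * c ∈ compl V H Q A := by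
  classical
  haveI : Fintype Y := Fintype.ofFinite Y
  set E := offE Q A with hEdef
  have hEH : E ≤ H := offE_le O.setup hA
  have hmq : ∃ k, Nat.card (stab Y Q A) = q ^ k :=
    (O.qGroup.to_le inf_le_left).exists_card_eq
  obtain ⟨k, hk⟩ := hmq
  -- a root of `e`
  obtain ⟨j, hj⟩ := exists_pow_eq_self_of_coprime (x := e) (n := q ^ k)
    ((O.coprime_pow hA k).coprime_dvd_right (Subgroup.orderOf_dvd_natCard _ he))
  set e' := e ^ j with he'def
  have he' : e' ∈ E := E.pow_mem he j
  have hroot : e' ^ q ^ k = e := by rw [he'def, ← pow_mul, mul_comm, pow_mul]; exact hj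
  -- the commuting family of conjugates
  let f : Y → G := fun y => (y : G) * e' * (y : G)⁻¹
  have hcomm : ∀ y z : Y, Commute (f y) (f z) := by
    intro y z
    set u : G := (y : G)⁻¹ * z with hu
    have huY : u ∈ Y := Y.mul_mem (Y.inv_mem y.2) z.2
    have hz : f z = MulAut.conj (y : G) (u * e' * u⁻¹) := by
      simp [f, hu, mul_assoc]
    have hy' : f y = MulAut.conj (y : G) e' := rfl
    rw [hz, hy']
    refine Commute.map ?_ (MulAut.conj (y : G)).toMonoidHom
    rcases (O.conj_cases hA huY).2 with h | ⟨hc, -, -⟩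
    · rw [O.centralizes_E hA huY h he']
    · exact (Subgroup.mem_centralizer_iff.mp (Subgroup.commutator_eq_bot_iff_le_centralizer.mp hc
        he') _ (offE_conj (A := A) (O.normQ huY) ▸ Subgroup.mem_map_of_mem _ he')).symm
  set c := Finset.univ.noncommProd f (fun y _ z _ _ => hcomm y z) with hcdef
  have hfH : ∀ y : Y, f y ∈ H := fun y =>
    (Subgroup.mem_normalizer_iff.mp (O.normH y.2) e').mp (hEH he')
  have hcH : c ∈ H := Finset.noncommProd_induction _ _ _ (· ∈ H) (fun _ _ => H.mul_mem) H.one_mem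
    fun y _ => hfH y
  refine ⟨c, hcH, ?_, ?_⟩
  · refine Subgroup.mem_centralizer_iff.mpr fun z hz => ?_
    have h1 : (MulAut.conj z).toMonoidHom c = c := by
      let σ : Equiv.Perm Y := Equiv.mulLeft ⟨z, hz⟩
      have hfz : ∀ y : Y, (MulAut.conj z).toMonoidHom (f y) = f (σ y) := by
        intro y
        simp [f, σ, mul_assoc]
      rw [hcdef]
      refine (Finset.map_noncommProd _ _ _ _).trans ?_
      exact noncommProd_univ_equiv σ hfz _ _
    calc z * c = z * c * z⁻¹ * z := by group
      _ = c * z := by rw [show z * c * z⁻¹ = c from h1]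
  · let ψ : H →* MulAut ↥(⁅V, offE Q A⁆ : Subgroup G) :=
      (Subgroup.normalizerMonoidHom _).comp (Subgroup.inclusion (O.H_le_normalizer_W hA))
    have hker : ∀ h : H, ψ h = 1 ↔ (h : G) ∈ compl V H Q A := by
      intro h
      refine ⟨fun h' => ⟨h.2, Subgroup.mem_centralizer_iff.mpr fun w hw => ?_⟩, fun h' => ?_⟩
      · have h5 := DFunLike.congr_fun h' (⟨w, hw⟩ : ↥(⁅V, offE Q A⁆ : Subgroup G))
        have h4 : (h : G) * w * (h : G)⁻¹ = w := congrArg Subtype.val h5
        calc w * (h : G) = (h : G) * w * (h : G)⁻¹ * h := by rw [h4]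
          _ = _ := by group
      · refine MulEquiv.ext fun w => Subtype.ext ?_
        show (h : G) * (w : G) * (h : G)⁻¹ = w
        rw [← Subgroup.mem_centralizer_iff.mp h'.2 _ w.2, mul_inv_cancel_right]
    set P : Y → Prop := fun y => (y : G) ∈ Subgroup.normalizer (E : Set G) with hP
    have hval : ∀ y : Y, ψ ⟨f y, hfH y⟩ = if P y then ψ ⟨e', hEH he'⟩ else 1 := by
      intro y
      split_ifs with h
      · congr 1
        exact Subtype.ext (O.centralizes_E hA y.2 h he')
      · exact (hker _).mpr ((((O.conj_cases hA y.2).2).resolve_left h).2.1 e' he')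
    have key : ∀ (s : Finset Y) (hs : (s : Set Y).Pairwise (Function.onFun Commute f))
        (hsH : s.noncommProd f hs ∈ H),
        ψ ⟨s.noncommProd f hs, hsH⟩ = ψ ⟨e', hEH he'⟩ ^ (s.filter P).card := by
      intro s
      induction s using Finset.induction with
      | empty =>
        intro hs hsH
        simp only [Finset.noncommProd_empty, Finset.filter_empty, Finset.card_empty, pow_zero]
        exact map_one ψ
      | insert y s hys ih =>
        intro hs hsH
        have hmem : s.noncommProd f (hs.mono fun _ => Finset.mem_insert_of_mem) ∈ H :=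
          Finset.noncommProd_induction _ _ _ (· ∈ H) (fun _ _ => H.mul_mem) H.one_mem
            fun y _ => hfH y
        have h1 : (⟨(insert y s).noncommProd f hs, hsH⟩ : H) = ⟨f y, hfH y⟩ *
            ⟨s.noncommProd f (hs.mono fun _ => Finset.mem_insert_of_mem), hmem⟩ :=
          Subtype.ext (Finset.noncommProd_insert_of_notMem s y f hs hys)
        rw [h1, map_mul, ih _ hmem, hval y, Finset.filter_insert]
        split_ifs with h
        · rw [Finset.card_insert_of_notMem (fun h' => hys (Finset.mem_filter.mp h').1), pow_succ']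
        · rw [one_mul]
    have hcard : (Finset.univ.filter P).card = q ^ k := by
      rw [← hk, ← Fintype.card_subtype, ← Nat.card_eq_fintype_card]
      exact Nat.card_congr
        { toFun := fun y => ⟨(y.1 : G), y.1.2, y.2⟩
          invFun := fun g => ⟨⟨(g : G), g.2.1⟩, g.2.2⟩
          left_inv := fun _ => rfl
          right_inv := fun _ => rfl }
    have h2 : ψ ⟨c, hcH⟩ = ψ ⟨e, hEH he⟩ := by
      rw [key _ _ hcH, hcard, ← map_pow]
      congr 1
      exact Subtype.ext hroot
    have h3 : ψ (⟨e, hEH he⟩⁻¹ * ⟨c, hcH⟩) = 1 := by rw [map_mul, map_inv, h2, inv_mul_cancel]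
    exact (hker _).mp h3

/-- A subgroup containing some order-`p` subgroup of `E` and inducing every element of `E` on it
contains `E`. -/
theorem offE_le_of_lifts (O : OperatorSetup p q V H Q Y) (hA : IsTransv p V H A)
    {M P : Subgroup G} (hPE : P ≤ offE Q A) (hP : Nat.card P = p) (hPM : P ≤ M)
    (hlift : ∀ c ∈ H, c ∈ Subgroup.centralizer (Y : Set G) → c ∈ M) : offE Q A ≤ M := by
  set E := offE Q A with hEdef
  have hconj : ∀ e ∈ E, P.map (MulAut.conj e).toMonoidHom ≤ M := by
    rintro e he _ ⟨x, hx, rfl⟩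
    obtain ⟨c, hcH, hcY, hf⟩ := O.exists_fixed hA he
    have hcM := hlift c hcH hcY
    have hcomm : (e⁻¹ * c) * x = x * (e⁻¹ * c) :=
      (Subgroup.mem_centralizer_iff.mp
        (Subgroup.commutator_eq_bot_iff_le_centralizer.mp (complement O.setup O.gen hA).1 (hPE hx))
        _ hf)
    have : c * x * c⁻¹ = e * x * e⁻¹ := by
      calc c * x * c⁻¹ = e * ((e⁻¹ * c) * x) * c⁻¹ := by group
        _ = e * (x * (e⁻¹ * c)) * c⁻¹ := by rw [hcomm]
        _ = e * x * e⁻¹ := by group
    show e * x * e⁻¹ ∈ M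
    exact this ▸ M.mul_mem (M.mul_mem hcM (hPM hx)) (M.inv_mem hcM)
  obtain ⟨B, hPair, hEB, -⟩ := exists_pair O.setup hA
  have hfac : (Nat.card E).factorization p = 1 := by
    rw [card_offE O.setup hA]
    rcases card_R O.setup hA with ⟨rfl, h⟩ | ⟨rfl, h⟩ <;> rw [h]
    · rw [Nat.factorization_mul (by norm_num) (by norm_num), Finsupp.add_apply,
        Nat.prime_two.factorization_self, Nat.factorization_eq_zero_of_not_dvd (by norm_num)]
    · rw [Nat.factorization_mul (by norm_num) (by norm_num), Finsupp.add_apply,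
        Nat.prime_three.factorization_self, Nat.factorization_eq_zero_of_not_dvd (by norm_num)]
  have key : ∀ R : Subgroup G, R ≤ E → Nat.card R = p → R ≤ M := by
    intro R hRE hR
    have hcard : ∀ T : Subgroup G, T ≤ E → Nat.card T = p →
        Nat.card (T.subgroupOf E) = p ^ (Nat.card E).factorization p := fun T hT h => by
      rw [hfac, pow_one, Nat.card_congr (Subgroup.subgroupOfEquivOfLe hT).toEquiv, h]
    obtain ⟨g, hg⟩ := MulAction.exists_smul_eq E (Sylow.ofCard _ (hcard P hPE hP))
      (Sylow.ofCard _ (hcard R hRE hR))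
    intro r hr
    have hr' : (⟨r, hRE hr⟩ : E) ∈
        ((g • Sylow.ofCard _ (hcard P hPE hP) : Sylow p E) : Subgroup E) := by
      rw [hg]; exact hr
    rw [Sylow.coe_subgroup_smul] at hr'
    obtain ⟨x, hx, hxr⟩ := hr'
    have : (g : G) * (x : G) * (g : G)⁻¹ = r := congrArg Subtype.val hxr
    exact this ▸ hconj g g.2 ⟨(x : G), hx, rfl⟩
  exact hEB.le.trans (sup_le (key A (le_sup_left.trans hEB.ge) hA.2.1)
    (key B (le_sup_right.trans hEB.ge) hPair.right.2.1))

/-- The plane of a component has a `Y`-fixed copy on which `C_H(Y)` acts in the same way. -/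
theorem exists_fixed_plane (O : OperatorSetup p q V H Q Y) (hA : IsTransv p V H A) :
    ∃ W₀ : Subgroup G, W₀ ≤ V ∧ W₀ ≤ Subgroup.centralizer (Y : Set G) ∧ Nat.card W₀ = p ^ 2 ∧
      ∀ h ∈ H, h ∈ Subgroup.centralizer (Y : Set G) →
        h ∈ Subgroup.normalizer (W₀ : Set G) ∧
          (h ∈ Subgroup.centralizer (W₀ : Set G) ↔ h ∈ compl V H Q A) := by
  classical
  haveI : Fintype Y := Fintype.ofFinite Y
  haveI := O.setup.elab'.1
  letI : CommGroup V := open IsMulCommutative in inferInstance
  set E := offE Q A with hEdef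
  set W : Subgroup G := ⁅V, E⁆ with hWdef
  let σ : ↥(Subgroup.normalizer (V : Set G)) → (V →* V) :=
    fun n => (Subgroup.normalizerMonoidHom V n).toMonoidHom
  have hσ : ∀ n v, ((σ n v : V) : G) = (n : G) * v * (n : G)⁻¹ := fun _ _ => rfl
  let τ : V →* V := ∏ y : Y, σ ⟨y, O.normV y.2⟩
  have hτ : ∀ v, τ v = ∏ y : Y, σ ⟨y, O.normV y.2⟩ v := fun v => MonoidHom.finsetProd_apply ..
  have hinj : ∀ v : V, (v : G) ∈ W → τ v = 1 → v = 1 := by
    intro v hv h1
    set F := (fixOn V E).subgroupOf V with hF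
    let π := QuotientGroup.mk' F
    have hstep : ∀ y : Y, π (σ ⟨y, O.normV y.2⟩ v) =
        if (y : G) ∈ Subgroup.normalizer (E : Set G) then π v else 1 := by
      intro y
      split_ifs with h
      · congr 1
        refine Subtype.ext ?_
        rw [hσ]
        show (y : G) * v * (y : G)⁻¹ = v
        rw [← Subgroup.mem_centralizer_iff.mp (O.centralizes_W hA y.2 h) _ hv, mul_inv_cancel_right]
      · exact (QuotientGroup.eq_one_iff _).mpr (Subgroup.mem_subgroupOf.mpr
          ((((O.conj_cases hA y.2).2).resolve_left h).2.2 _ hv))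
    have h2 : π v ^ (Finset.univ.filter fun y : Y => (y : G) ∈ Subgroup.normalizer (E : Set G)).card
        = 1 := by
      rw [← map_one π, ← h1, hτ, map_prod, Finset.prod_congr rfl fun y _ => hstep y,
        Finset.prod_ite, Finset.prod_const, Finset.prod_const_one, mul_one]
    obtain ⟨k, hk⟩ := (O.qGroup.to_le (inf_le_left : stab Y Q A ≤ Y)).exists_card_eq
    have hcard : (Finset.univ.filter fun y : Y =>
        (y : G) ∈ Subgroup.normalizer (E : Set G)).card = q ^ k := by
      rw [← hk, ← Fintype.card_subtype, ← Nat.card_eq_fintype_card]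
      exact Nat.card_congr
        { toFun := fun y => ⟨(y.1 : G), y.1.2, y.2⟩
          invFun := fun g => ⟨⟨(g : G), g.2.1⟩, g.2.2⟩
          left_inv := fun _ => rfl
          right_inv := fun _ => rfl }
    rw [hcard] at h2
    have h3 : π v = 1 := by
      rw [← orderOf_eq_one_iff]
      refine Nat.eq_one_of_dvd_coprimes ?_ (orderOf_dvd_of_pow_eq_one h2)
        ((orderOf_map_dvd π v).trans (orderOf_dvd_of_pow_eq_one
          (Subtype.ext (O.setup.elab'.2 v v.2) : v ^ p = 1)))
      exact ((O.coprime_pow hA k).coprime_dvd_right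
        (card_offE O.setup hA ▸ dvd_mul_right _ _))
    have hvf : (v : G) ∈ W ⊓ fixOn V E := ⟨hv, (QuotientGroup.eq_one_iff v).mp h3⟩
    rw [W_inf_fix O.setup hA, Subgroup.mem_bot] at hvf
    exact Subtype.ext hvf
  -- equivariance
  have heq : ∀ (n : ↥(Subgroup.normalizer (V : Set G))),
      (n : G) ∈ Subgroup.centralizer (Y : Set G) → ∀ v, τ (σ n v) = σ n (τ v) := by
    intro n hn v
    rw [hτ, hτ, map_prod]
    refine Finset.prod_congr rfl fun y _ => Subtype.ext ?_
    simp only [hσ]
    have h1 : (y : G) * n = n * y := Subgroup.mem_centralizer_iff.mp hn _ y.2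
    calc (y : G) * (↑n * ↑v * (↑n)⁻¹) * (↑y)⁻¹ = (↑y * ↑n) * ↑v * (↑y * ↑n)⁻¹ := by group
      _ = ↑n * ↑y * ↑v * (↑n * ↑y)⁻¹ := by rw [h1]
      _ = _ := by group
  refine ⟨((W.subgroupOf V).map τ).map V.subtype, Subgroup.map_subtype_le _, ?_, ?_, ?_⟩
  · rintro _ ⟨_, ⟨v, hv, rfl⟩, rfl⟩
    refine Subgroup.mem_centralizer_iff.mpr fun z hz => ?_
    have h1 : σ ⟨z, O.normV hz⟩ (τ v) = τ v := by
      rw [hτ, map_prod]
      refine Fintype.prod_equiv (Equiv.mulLeft (⟨z, hz⟩ : Y)) _ _ fun y => Subtype.ext ?_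
      simp [hσ, mul_assoc]
    have h2 := congrArg Subtype.val h1
    rw [hσ] at h2
    change z * ((τ v : V) : G) * z⁻¹ = ((τ v : V) : G) at h2
    show z * ((τ v : V) : G) = ((τ v : V) : G) * z
    calc z * ((τ v : V) : G) = z * ((τ v : V) : G) * z⁻¹ * z := by group
      _ = _ := by rw [h2]
  · have hinj' : Function.Injective (τ.comp (W.subgroupOf V).subtype) := by
      refine (injective_iff_map_eq_one _).mpr fun v hv => Subtype.ext (hinj _ v.2 hv)
    rw [Subgroup.card_map_of_injective V.subtype_injective]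
    have hr : (W.subgroupOf V).map τ = (τ.comp (W.subgroupOf V).subtype).range := by
      rw [MonoidHom.range_comp, Subgroup.range_subtype]
    rw [hr, ← Nat.card_congr (MonoidHom.ofInjective hinj').toEquiv,
      Nat.card_congr (Subgroup.subgroupOfEquivOfLe (W_le O.setup hA)).toEquiv]
    exact card_W O.setup hA
  · intro h hh hY
    have hWn := O.H_le_normalizer_W hA hh
    have hhV := O.setup.norm hh
    constructor
    · refine Subgroup.mem_normalizer_fintype ?_
      rintro _ ⟨_, ⟨v, hv, rfl⟩, rfl⟩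
      refine ⟨τ (σ ⟨h, hhV⟩ v), ⟨σ ⟨h, hhV⟩ v, ?_, rfl⟩, ?_⟩
      · exact (Subgroup.mem_normalizer_iff.mp hWn _).mp hv
      · rw [heq ⟨h, hhV⟩ hY]
        rfl
    · constructor
      · intro hc
        refine ⟨hh, Subgroup.mem_centralizer_iff.mpr fun w hw => ?_⟩
        set v : V := ⟨w, W_le O.setup hA hw⟩
        have h1 : σ ⟨h, hhV⟩ (τ v) = τ v := by
          refine Subtype.ext ?_
          rw [hσ]
          have h6 : ((τ v : V) : G) * h = h * ((τ v : V) : G) :=
            Subgroup.mem_centralizer_iff.mp hc _ ⟨τ v, ⟨v, hw, rfl⟩, rfl⟩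
          show h * ((τ v : V) : G) * h⁻¹ = _
          rw [← h6, mul_inv_cancel_right]
        rw [← heq ⟨h, hhV⟩ hY] at h1
        have h2 : σ ⟨h, hhV⟩ v = v := by
          have h3 : (((σ ⟨h, hhV⟩ v / v : V)) : G) ∈ W := by
            rw [div_eq_mul_inv]
            exact W.mul_mem ((Subgroup.mem_normalizer_iff.mp hWn _).mp hw) (W.inv_mem hw)
          exact div_eq_one.mp (hinj _ h3 (by rw [map_div, h1, div_self']))
        have h4 := congrArg Subtype.val h2
        rw [hσ] at h4
        change h * w * h⁻¹ = w at h4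
        calc w * h = h * w * h⁻¹ * h := by rw [h4]
          _ = h * w := by group
      · rintro ⟨-, hc⟩
        refine Subgroup.mem_centralizer_iff.mpr ?_
        rintro _ ⟨_, ⟨v, hv, rfl⟩, rfl⟩
        have h1 : σ ⟨h, hhV⟩ v = v := by
          refine Subtype.ext ?_
          rw [hσ]
          have h6 : (v : G) * h = h * (v : G) := Subgroup.mem_centralizer_iff.mp hc _ hv
          show h * (v : G) * h⁻¹ = v
          rw [← h6, mul_inv_cancel_right]
        have h2 := congrArg Subtype.val (heq ⟨h, hhV⟩ hY v)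
        rw [h1, hσ] at h2
        change ((τ v : V) : G) = h * ((τ v : V) : G) * h⁻¹ at h2
        show ((τ v : V) : G) * h = h * ((τ v : V) : G)
        nth_rw 1 [h2]
        group

end OperatorSetup

end Cfsg.Agent.Lib.PLocal
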