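import Cfsg.Agent.Lib.PLocal.OffenderPair

/-!
# Groups generated by best offenders with `C_H(Q) ≤ Q`: products of copies of `SL(2,p)`, `p ≤ 3`

Owner: helper19. For a transvection group `A` we write `E = [Q,A]A`, `W = [V,E]`, `R = [Q,A]`.
-/

namespace Cfsg.Agent.Lib.PLocal

open Subgroup
open scoped commutatorElement

variable {G : Type*} [Group G] [Finite G] {p : ℕ} [hp : Fact p.Prime] {V H Q A A' B : Subgroup G}

/-- `[Q,A]A`. -/
abbrev offE (Q A : Subgroup G) : Subgroup G := ⁅Q, A⁆ ⊔ A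

theorem pGroup_eq_of_le_sup (S : OffenderSetup p V H Q) (hA : IsTransv p V H A) {P : Subgroup G}
    (hP : IsPGroup p P) (hAP : A ≤ P) (hle : P ≤ A ⊔ Q) : P = A := by
  refine (Subgroup.eq_of_le_of_card_ge hAP ?_).symm
  obtain ⟨n, hn⟩ := IsPGroup.iff_card.mp hP
  have hd : p ^ n ∣ Nat.card A * Nat.card Q := hn ▸ (Subgroup.card_dvd_of_le hle).trans
    (Dvd.intro _ (card_sup_mul_card_inf (hA.1.trans S.Q_norm)))
  have hd' : p ^ n ∣ Nat.card A := (S.coprime.symm.pow_left n).dvd_of_dvd_mul_right hd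
  rw [hn]
  exact Nat.le_of_dvd Nat.card_pos hd'

theorem conj_le_offE {x : G} (hx : x ∈ Q) :
    A.map (MulAut.conj x).toMonoidHom ≤ offE Q A := by
  rintro _ ⟨a, ha, rfl⟩
  have : (MulAut.conj x).toMonoidHom a = ⁅x, a⁆ * a := by
    show x * a * x⁻¹ = _
    rw [commutatorElement_def]; group
  rw [this]
  exact Subgroup.mul_mem_sup (Subgroup.commutator_mem_commutator hx ha) ha

theorem offE_le (S : OffenderSetup p V H Q) (hA : IsTransv p V H A) : offE Q A ≤ H :=
  sup_le ((Subgroup.commutator_mono S.Q_le hA.1).trans (Subgroup.commutator_le_self H)) hA.1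

theorem commutator_le_Q (S : OffenderSetup p V H Q) (hA : IsTransv p V H A) : ⁅Q, A⁆ ≤ Q :=
  commutator_le_self (hA.1.trans S.Q_norm)

theorem offE_le_sup (S : OffenderSetup p V H Q) (hA : IsTransv p V H A) : offE Q A ≤ A ⊔ Q :=
  sup_le ((commutator_le_Q S hA).trans le_sup_right) le_sup_left

theorem pair_of_not_centralized (S : OffenderSetup p V H Q) (hA : IsTransv p V H A) {x : G}
    (hx : x ∈ Q) (hxA : x ∉ Subgroup.centralizer (A : Set G)) :
    TransvPair p V H Q A (A.map (MulAut.conj x).toMonoidHom) := by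
  refine ⟨S, hA, isTransv_conj S hA (S.Q_le hx), fun hP => hxA ?_⟩
  have he : A ⊔ A.map (MulAut.conj x).toMonoidHom = A :=
    pGroup_eq_of_le_sup S hA hP le_sup_left
      (sup_le le_sup_left ((conj_le_offE hx).trans (offE_le_sup S hA)))
  refine Subgroup.mem_centralizer_iff.mpr fun a ha => ?_
  have h1 : x * a * x⁻¹ ∈ A := he.le (Subgroup.mem_sup_right ⟨a, ha, rfl⟩)
  have h2 : ⁅x, a⁆ ∈ A ⊓ Q :=
    ⟨A.mul_mem h1 (A.inv_mem ha),
      commutator_le_Q S hA (Subgroup.commutator_mem_commutator hx ha)⟩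
  rw [eq_bot_of_pGroup_le_Q S ((PGroups.elemAb_isPGroup
    (PGroups.elemAb_of_card_eq_prime hA.2.1)).to_le inf_le_left) inf_le_right,
    Subgroup.mem_bot] at h2
  exact (commutatorElement_eq_one_iff_mul_comm.mp h2).symm

/-- `[Q,A]A` is generated by `A` and any conjugate `A^x`, `x ∈ Q` not centralising `A`. -/
theorem offE_eq (S : OffenderSetup p V H Q) (hA : IsTransv p V H A) {x : G}
    (hx : x ∈ Q) (hxA : x ∉ Subgroup.centralizer (A : Set G)) :
    offE Q A = A ⊔ A.map (MulAut.conj x).toMonoidHom := by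
  have P := pair_of_not_centralized S hA hx hxA
  set B := A.map (MulAut.conj x).toMonoidHom
  refine le_antisymm (sup_le ?_ le_sup_left) (sup_le le_sup_right (conj_le_offE hx))
  suffices key : ∀ z ∈ Q, A.map (MulAut.conj z).toMonoidHom ≤ A ⊔ B by
    rw [Subgroup.commutator_le]
    intro z hz a ha
    rw [commutatorElement_def]
    exact (A ⊔ B).mul_mem (key z hz ⟨a, ha, rfl⟩) (Subgroup.inv_mem _ (Subgroup.mem_sup_left ha))
  intro z hz
  set C := A.map (MulAut.conj z).toMonoidHom with hC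
  have hCT : IsTransv p V H C := isTransv_conj S hA (S.Q_le hz)
  -- `W ∩ C_V(C) ≠ 1`
  have hn : ⁅V, A⁆ ⊔ ⁅V, B⁆ ≤ Subgroup.normalizer (fixOn V C : Set G) :=
    (P.W_le.trans ((Subgroup.le_centralizer_iff_isMulCommutative.mpr S.elab'.1).trans
      (Subgroup.centralizer_le fixOn_le))).trans (Subgroup.centralizer_le_normalizer _)
  have hne : (⁅V, A⁆ ⊔ ⁅V, B⁆) ⊓ fixOn V C ≠ ⊥ := by
    intro hb
    have h := card_sup_mul_card_inf hn
    rw [hb, Subgroup.card_bot, mul_one, P.card_W] at h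
    have h1 : Nat.card ↥((⁅V, A⁆ ⊔ ⁅V, B⁆) ⊔ fixOn V C) ≤ Nat.card V :=
      Subgroup.card_le_of_le (sup_le P.W_le fixOn_le)
    have h2 := hCT.2.2
    rw [meas, hCT.2.1] at h2
    have h3 : 0 < Nat.card (fixOn V C) := Nat.card_pos
    have h4 := hp.out.one_lt
    nlinarith
  obtain ⟨u, hu, hu1⟩ := (Subgroup.bot_or_exists_ne_one _).resolve_left hne
  obtain ⟨d, hd, hud⟩ := P.exists_conj_mem hu.1
  have hdH : d ∈ H := sup_le hA.1 (isTransv_conj S hA (S.Q_le hx)).1 hd
  rw [← commutator_conj (S.norm hdH)] at hud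
  set D := A.map (MulAut.conj d).toMonoidHom
  have hDT : IsTransv p V H D := isTransv_conj S hA hdH
  have hDC : ⁅V, D⁆ ≤ fixOn V C := by
    rcases mem_bot_or_eq_of_card_prime (isTransv_commutator S hDT).1 (fixOn V C) with h | h
    · have hub : u ∈ ⁅V, D⁆ ⊓ fixOn V C := ⟨hud, hu.2⟩
      rw [h, Subgroup.mem_bot] at hub
      exact absurd hub hu1
    · exact h
  have hPG := isPGroup_sup_of_range_le S hCT hDT hDC
  have hsub : ∀ g ∈ A ⊔ Q, A.map (MulAut.conj g).toMonoidHom ≤ A ⊔ Q := by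
    intro g hg
    rintro _ ⟨a, ha, rfl⟩
    exact (A ⊔ Q).mul_mem ((A ⊔ Q).mul_mem hg (Subgroup.mem_sup_left ha)) ((A ⊔ Q).inv_mem hg)
  have hBQ : A ⊔ B ≤ A ⊔ Q := sup_le le_sup_left (hsub x (Subgroup.mem_sup_right hx))
  -- both generate the same subgroup of order `p`
  have hle : C ⊔ D ≤ C ⊔ Q := by
    refine sup_le le_sup_left ((hsub d (hBQ hd)).trans (sup_le ?_ le_sup_right))
    intro a ha
    have h1 : a = z⁻¹ * (z * a * z⁻¹) * z := by group
    rw [h1]
    exact (C ⊔ Q).mul_mem ((C ⊔ Q).mul_mem (Subgroup.mem_sup_right (Q.inv_mem hz))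
      (Subgroup.mem_sup_left ⟨a, ha, rfl⟩)) (Subgroup.mem_sup_right hz)
  have heq := pGroup_eq_of_le_sup S hCT hPG le_sup_left hle
  have hDC' : D = C := Subgroup.eq_of_le_of_card_ge (le_sup_right.trans heq.le)
    (by rw [hCT.2.1, hDT.2.1])
  rw [← hDC']
  rintro _ ⟨a, ha, rfl⟩
  exact (A ⊔ B).mul_mem ((A ⊔ B).mul_mem hd (Subgroup.mem_sup_left ha)) ((A ⊔ B).inv_mem hd)

/-- The basic package: a partner of `A` generating `[Q,A]A` with it. -/
theorem exists_pair (S : OffenderSetup p V H Q) (hA : IsTransv p V H A) :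
    ∃ B, TransvPair p V H Q A B ∧ offE Q A = A ⊔ B ∧ ⁅V, offE Q A⁆ = ⁅V, A⁆ ⊔ ⁅V, B⁆ := by
  obtain ⟨x, hx, hxA⟩ : ∃ x ∈ Q, x ∉ Subgroup.centralizer (A : Set G) := by
    by_contra h
    push Not at h
    exact isTransv_ne_bot hA (eq_bot_of_centralizes_Q S
      (PGroups.elemAb_isPGroup (PGroups.elemAb_of_card_eq_prime hA.2.1)) hA.1 h)
  have P := pair_of_not_centralized S hA hx hxA
  have he := offE_eq S hA hx hxA
  exact ⟨_, P, he, by rw [he, P.commutator_eq]⟩

theorem offE_equiv_SL (S : OffenderSetup p V H Q) (hA : IsTransv p V H A) :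
    Nonempty (↥(offE Q A) ≃* Matrix.SpecialLinearGroup (Fin 2) (ZMod p)) := by
  obtain ⟨B, P, he, -⟩ := exists_pair S hA
  rw [he]
  exact P.equiv_SL

theorem card_W (S : OffenderSetup p V H Q) (hA : IsTransv p V H A) :
    Nat.card ↥(⁅V, offE Q A⁆) = p ^ 2 := by
  obtain ⟨B, P, -, hW⟩ := exists_pair S hA
  rw [hW]
  exact P.card_W

theorem W_le (S : OffenderSetup p V H Q) (hA : IsTransv p V H A) : ⁅V, offE Q A⁆ ≤ V :=
  commutator_le_self ((offE_le S hA).trans S.norm)

theorem W_inf_fix (S : OffenderSetup p V H Q) (hA : IsTransv p V H A) :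
    ⁅V, offE Q A⁆ ⊓ fixOn V (offE Q A) = ⊥ := by
  obtain ⟨B, P, he, hW⟩ := exists_pair S hA
  rw [hW, he]
  exact P.W_inf_fix

theorem W_sup_fix (S : OffenderSetup p V H Q) (hA : IsTransv p V H A) :
    ⁅V, offE Q A⁆ ⊔ fixOn V (offE Q A) = V := by
  obtain ⟨B, P, he, hW⟩ := exists_pair S hA
  rw [hW, he]
  exact P.sup_fix

theorem card_fix_offE (S : OffenderSetup p V H Q) (hA : IsTransv p V H A) :
    p ^ 2 * Nat.card (fixOn V (offE Q A)) = Nat.card V := by
  obtain ⟨B, P, he, -⟩ := exists_pair S hA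
  rw [he]
  exact P.card_fix_eq

theorem eq_bot_of_centralizes (S : OffenderSetup p V H Q) (hA : IsTransv p V H A) {K : Subgroup G}
    (hK : K ≤ H) (h1 : K ≤ Subgroup.centralizer ((⁅V, offE Q A⁆ : Subgroup G) : Set G))
    (h2 : K ≤ Subgroup.centralizer (fixOn V (offE Q A) : Set G)) : K = ⊥ := by
  obtain ⟨B, P, he, hW⟩ := exists_pair S hA
  rw [hW] at h1
  rw [he] at h2
  exact P.eq_bot_of_centralizes hK h1 h2

theorem offE_faithful (S : OffenderSetup p V H Q) (hA : IsTransv p V H A) :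
    offE Q A ⊓ Subgroup.centralizer ((⁅V, offE Q A⁆ : Subgroup G) : Set G) = ⊥ :=
  eq_bot_of_centralizes S hA (inf_le_left.trans (offE_le S hA)) inf_le_right
    (inf_le_left.trans (Subgroup.le_centralizer_iff.mp inf_le_right))

theorem eq_W_of_invariant (S : OffenderSetup p V H Q) (hA : IsTransv p V H A) {L : Subgroup G}
    (hL : L ≤ ⁅V, offE Q A⁆) (hne : L ≠ ⊥)
    (hinv : offE Q A ≤ Subgroup.normalizer (L : Set G)) : L = ⁅V, offE Q A⁆ := by
  obtain ⟨B, P, he, hW⟩ := exists_pair S hA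
  rw [hW] at hL ⊢
  exact P.eq_W_of_invariant hL hne (he ▸ hinv)

theorem inf_Q_eq (S : OffenderSetup p V H Q) (hA : IsTransv p V H A) :
    offE Q A ⊓ Q = ⁅Q, A⁆ := by
  refine le_antisymm (fun x hx => ?_) (le_inf le_sup_left (commutator_le_Q S hA))
  have hxm : x ∈ ((A ⊔ ⁅Q, A⁆ : Subgroup G) : Set G) := by rw [sup_comm]; exact hx.1
  rw [Subgroup.coe_mul_of_left_le_normalizer_right _ _
    (Subgroup.normalizer_commutator_ge_right Q A)] at hxm
  obtain ⟨a, ha, r, hr, rfl⟩ := hxm
  have h : a ∈ A ⊓ Q := ⟨ha, by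
    have := Q.mul_mem hx.2 (Q.inv_mem (commutator_le_Q S hA hr))
    simpa using this⟩
  rw [eq_bot_of_pGroup_le_Q S ((PGroups.elemAb_isPGroup
    (PGroups.elemAb_of_card_eq_prime hA.2.1)).to_le inf_le_left) inf_le_right, Subgroup.mem_bot] at h
  simpa [h] using hr

theorem card_offE (S : OffenderSetup p V H Q) (hA : IsTransv p V H A) :
    Nat.card ↥(offE Q A) = p * Nat.card ↥(⁅Q, A⁆) := by
  have h := card_sup_mul_card_inf (Subgroup.normalizer_commutator_ge_right Q A)
  rw [eq_bot_of_pGroup_le_Q S ((PGroups.elemAb_isPGroup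
    (PGroups.elemAb_of_card_eq_prime hA.2.1)).to_le inf_le_left)
    (inf_le_right.trans (commutator_le_Q S hA)), Subgroup.card_bot, mul_one, hA.2.1] at h
  rw [offE, sup_comm]
  exact h

theorem offE_le_normalizer_R (Q A : Subgroup G) :
    offE Q A ≤ Subgroup.normalizer ((⁅Q, A⁆ : Subgroup G) : Set G) :=
  sup_le Subgroup.le_normalizer (Subgroup.normalizer_commutator_ge_right Q A)

theorem commutator_offE_le (hAc : IsMulCommutative A) (Q : Subgroup G) :
    ⁅offE Q A, offE Q A⁆ ≤ ⁅Q, A⁆ := by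
  set E := offE Q A with hE
  set R : Subgroup G := ⁅Q, A⁆ with hR
  have hRn : (R.subgroupOf E).Normal :=
    Subgroup.normal_subgroupOf_of_le_normalizer (offE_le_normalizer_R Q A)
  have hA' : IsMulCommutative ↥(A.subgroupOf E) := Subgroup.le_centralizer_iff_isMulCommutative.mp
    fun x hx => Subgroup.mem_centralizer_iff.mpr fun y hy => Subtype.ext (by
      have h := congrArg Subtype.val (hAc.is_comm.comm ⟨(y : G), hy⟩ ⟨(x : G), hx⟩)
      exact h)
  have hsup : R.subgroupOf E ⊔ A.subgroupOf E = ⊤ := by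
    rw [← Subgroup.subgroupOf_sup (show R ≤ E from le_sup_left) (show A ≤ E from le_sup_right)]
    exact Subgroup.subgroupOf_self E
  have h := Subgroup.Normal.commutator_le_of_self_sup_commutative_eq_top hsup hA'
  rw [← Subgroup.map_subtype_commutator]
  exact (Subgroup.map_mono h).trans (Subgroup.map_subgroupOf_eq_of_le le_sup_left).le

theorem p_eq_two_or_three (S : OffenderSetup p V H Q) (hA : IsTransv p V H A) : p = 2 ∨ p = 3 := by
  by_contra hcon
  push Not at hcon
  have hp5 : 5 ≤ p := by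
    by_contra h
    have h2 := hp.out.two_le
    interval_cases p <;> simp_all +decide
  obtain ⟨e⟩ := offE_equiv_SL S hA
  obtain ⟨y, hy, hey⟩ : ∃ y ∈ _root_.commutator ↥(offE Q A), e y = SLTwo.up 1 := by
    have h := SLTwo.up_one_mem_commutator (p := p) hp5
    rw [_root_.commutator_def, ← Subgroup.map_top_of_surjective e.toMonoidHom e.surjective,
      ← Subgroup.map_commutator] at h
    obtain ⟨y, hy, hey⟩ := h
    exact ⟨y, hy, hey⟩
  have hyQ : (y : G) ∈ Q := by
    refine commutator_le_Q S hA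
      (commutator_offE_le (PGroups.elemAb_of_card_eq_prime hA.2.1).1 Q ?_)
    rw [← Subgroup.map_subtype_commutator]
    exact Subgroup.mem_map_of_mem _ hy
  have hy1 : y ^ p = 1 := e.injective (by rw [map_pow, hey, SLTwo.up_one_pow, map_one])
  have hord : orderOf (y : G) = 1 := Nat.eq_one_of_dvd_coprimes S.coprime
    (Subgroup.orderOf_dvd_natCard _ hyQ)
    (orderOf_dvd_of_pow_eq_one (by simpa using congrArg Subtype.val hy1))
  have hy0 : y = 1 := Subtype.ext (orderOf_eq_one_iff.mp hord)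
  rw [hy0, map_one] at hey
  exact SLTwo.up_one_ne_one hey.symm

theorem card_R (S : OffenderSetup p V H Q) (hA : IsTransv p V H A) :
    (p = 2 ∧ Nat.card ↥(⁅Q, A⁆) = 3) ∨ (p = 3 ∧ Nat.card ↥(⁅Q, A⁆) = 8) := by
  obtain ⟨e⟩ := offE_equiv_SL S hA
  have h := card_offE S hA
  rw [Nat.card_congr e.toEquiv] at h
  rcases p_eq_two_or_three S hA with rfl | rfl
  · rw [SLTwo.card_two] at h
    exact Or.inl ⟨rfl, by omega⟩
  · rw [SLTwo.card_three] at h
    exact Or.inr ⟨rfl, by omega⟩

theorem R_not_commutative (S : OffenderSetup p V H Q) (hA : IsTransv p V H A) (h3 : p = 3) :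
    ¬ IsMulCommutative ↥(⁅Q, A⁆) := by
  subst h3
  obtain ⟨e⟩ := offE_equiv_SL S hA
  obtain ⟨x, y, hx, hy, hxy⟩ := SLTwo.exists_noncomm_three
  have hmem : ∀ z : ↥(offE Q A), z ^ 4 = 1 → (z : G) ∈ (⁅Q, A⁆ : Subgroup G) := by
    intro z hz
    set R : Subgroup G := ⁅Q, A⁆
    have hRn : (R.subgroupOf (offE Q A)).Normal :=
      Subgroup.normal_subgroupOf_of_le_normalizer (offE_le_normalizer_R Q A)
    have h1 := card_offE S hA
    rcases card_R S hA with ⟨h, -⟩ | ⟨-, hR⟩
    · omega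
    have hidx : (R.subgroupOf (offE Q A)).index = 3 := by
      have h2 := Subgroup.card_mul_index (R.subgroupOf (offE Q A))
      rw [Nat.card_congr (Subgroup.subgroupOfEquivOfLe (show R ≤ offE Q A from le_sup_left)).toEquiv,
        h1, hR] at h2
      omega
    have h3 := Subgroup.pow_index_mem (R.subgroupOf (offE Q A)) z
    rw [hidx] at h3
    have h4 : z = z ^ 4 * (z ^ 3)⁻¹ := by group
    rw [hz, one_mul] at h4
    rw [h4]
    exact R.inv_mem h3
  intro hc
  refine hxy (e.symm.injective ?_)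
  rw [map_mul, map_mul]
  have h := hc.is_comm.comm
    (⟨_, hmem (e.symm x) (by rw [← map_pow, hx, map_one])⟩ : ↥(⁅Q, A⁆))
    ⟨_, hmem (e.symm y) (by rw [← map_pow, hy, map_one])⟩
  have h' := congrArg Subtype.val h
  exact Subtype.ext h'

theorem Q_le_normalizer_offE (S : OffenderSetup p V H Q) (hA : IsTransv p V H A) :
    Q ≤ Subgroup.normalizer (offE Q A : Set G) := by
  intro x hx
  rw [Subgroup.mem_normalizer_iff_map_conj_eq]
  refine Subgroup.eq_of_le_of_card_ge ?_
    (Subgroup.card_map_of_injective (MulAut.conj x).injective).ge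
  show (offE Q A).map (MulAut.conj x).toMonoidHom ≤ offE Q A
  rw [Subgroup.map_sup]
  refine sup_le ?_ (conj_le_offE hx)
  exact (map_conj_self (Subgroup.normalizer_commutator_ge_left Q A hx)).le.trans le_sup_left

theorem normalizer_W_of_normalizer {K : Subgroup G} (hK : K ≤ Subgroup.normalizer (V : Set G))
    {E : Subgroup G} (hE : K ≤ Subgroup.normalizer (E : Set G)) :
    K ≤ Subgroup.normalizer ((⁅V, E⁆ : Subgroup G) : Set G) := fun x hx => by
  rw [Subgroup.mem_normalizer_iff_map_conj_eq]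
  show (⁅V, E⁆ : Subgroup G).map (MulAut.conj x).toMonoidHom = ⁅V, E⁆
  rw [Subgroup.map_commutator, map_conj_self (hK hx), map_conj_self (hE hx)]

theorem offE_normalizer_W (S : OffenderSetup p V H Q) (hA : IsTransv p V H A) :
    offE Q A ≤ Subgroup.normalizer ((⁅V, offE Q A⁆ : Subgroup G) : Set G) :=
  normalizer_W_of_normalizer ((offE_le S hA).trans S.norm) Subgroup.le_normalizer

theorem Q_normalizer_W (S : OffenderSetup p V H Q) (hA : IsTransv p V H A) :
    Q ≤ Subgroup.normalizer ((⁅V, offE Q A⁆ : Subgroup G) : Set G) :=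
  normalizer_W_of_normalizer (S.Q_le.trans S.norm) (Q_le_normalizer_offE S hA)

theorem R_ne_bot (S : OffenderSetup p V H Q) (hA : IsTransv p V H A) :
    (⁅Q, A⁆ : Subgroup G) ≠ ⊥ := fun h => by
  rcases card_R S hA with ⟨-, h'⟩ | ⟨-, h'⟩ <;> rw [h, Subgroup.card_bot] at h' <;> omega

theorem irreducible (S : OffenderSetup p V H Q) (hA : IsTransv p V H A) {L : Subgroup G}
    (hL : L ≤ ⁅V, offE Q A⁆)
    (hinv : (⁅Q, A⁆ : Subgroup G) ≤ Subgroup.normalizer (L : Set G)) :
    L = ⊥ ∨ L = ⁅V, offE Q A⁆ := by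
  obtain ⟨B, P, he, hW⟩ := exists_pair S hA
  by_cases hne : L = ⊥
  · exact Or.inl hne
  right
  by_contra hLW
  obtain ⟨u, hu, hu1⟩ := (Subgroup.bot_or_exists_ne_one L).resolve_left hne
  obtain ⟨d, hd, hud⟩ := P.exists_conj_mem (hW ▸ hL hu)
  have hcard : Nat.card L = p := by
    obtain ⟨k, hk, hk'⟩ := (Nat.dvd_prime_pow hp.out).mp (card_W S hA ▸ Subgroup.card_dvd_of_le hL)
    rcases k with _ | _ | _ | k
    · exact absurd (Subgroup.card_eq_one.mp (by simpa using hk')) hne
    · simpa using hk'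
    · exact absurd (Subgroup.eq_of_le_of_card_ge hL (by rw [card_W S hA, hk'])) hLW
    · omega
  have hLeq : L = (⁅V, A⁆ : Subgroup G).map (MulAut.conj d).toMonoidHom := by
    rcases mem_bot_or_eq_of_card_prime hcard
      ((⁅V, A⁆ : Subgroup G).map (MulAut.conj d).toMonoidHom) with h | h
    · have hub : u ∈ L ⊓ (⁅V, A⁆ : Subgroup G).map (MulAut.conj d).toMonoidHom := ⟨hu, hud⟩
      rw [h, Subgroup.mem_bot] at hub
      exact absurd hub hu1
    · refine Subgroup.eq_of_le_of_card_ge h ?_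
      rw [Subgroup.card_map_of_injective (MulAut.conj d).injective,
        (isTransv_commutator S hA).1, hcard]
  -- `[Q,A]` normalises `[V,A]`
  have hdE : d ∈ offE Q A := he ▸ hd
  have hRA : (⁅Q, A⁆ : Subgroup G) ≤ Subgroup.normalizer ((⁅V, A⁆ : Subgroup G) : Set G) := by
    intro r hr
    refine Subgroup.mem_normalizer_iff.mpr fun y => ?_
    have hr' : d * r * d⁻¹ ∈ (⁅Q, A⁆ : Subgroup G) :=
      (Subgroup.mem_normalizer_iff.mp (offE_le_normalizer_R Q A hdE) r).mp hr
    have hiff : ∀ z, z ∈ (⁅V, A⁆ : Subgroup G) ↔ d * z * d⁻¹ ∈ L := fun z => by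
      rw [hLeq]
      refine ⟨fun h => ⟨z, h, rfl⟩, ?_⟩
      rintro ⟨z', hz', hzz⟩
      exact (MulAut.conj d).injective hzz ▸ hz'
    rw [hiff, hiff, Subgroup.mem_normalizer_iff.mp (hinv hr') (d * y * d⁻¹)]
    simp [mul_assoc]
  have hinvA : offE Q A ≤ Subgroup.normalizer ((⁅V, A⁆ : Subgroup G) : Set G) :=
    sup_le hRA (Subgroup.normalizer_commutator_ge_right V A)
  have hbad := eq_W_of_invariant S hA (Subgroup.commutator_mono le_rfl le_sup_right)
    (fun h => by
      have h1 := (isTransv_commutator S hA).1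
      rw [h, Subgroup.card_bot] at h1
      exact hp.out.one_lt.ne h1) hinvA
  have h1 := congrArg (fun K : Subgroup G => Nat.card K) hbad
  simp only [(isTransv_commutator S hA).1, card_W S hA] at h1
  have := hp.out.one_lt
  nlinarith

theorem fix_R_eq (S : OffenderSetup p V H Q) (hA : IsTransv p V H A) :
    fixOn V ⁅Q, A⁆ = fixOn V (offE Q A) := by
  refine le_antisymm ?_ (fixOn_anti le_sup_left)
  set W : Subgroup G := ⁅V, offE Q A⁆ with hWdef
  have hL : W ⊓ Subgroup.centralizer ((⁅Q, A⁆ : Subgroup G) : Set G) = ⊥ := by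
    refine (irreducible S hA inf_le_left ?_).resolve_right fun h => R_ne_bot S hA ?_
    · refine le_trans ?_ normalizer_inf_le_normalizer_fixOn
      exact le_inf (le_trans le_sup_left (offE_normalizer_W S hA)) Subgroup.le_normalizer
    · exact le_bot_iff.mp (offE_faithful S hA ▸
        le_inf le_sup_left (Subgroup.le_centralizer_iff.mp (inf_eq_left.mp h)))
  intro v hv
  have hn : W ≤ Subgroup.normalizer (fixOn V (offE Q A) : Set G) :=
    ((W_le S hA).trans ((Subgroup.le_centralizer_iff_isMulCommutative.mpr S.elab'.1).trans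
      (Subgroup.centralizer_le fixOn_le))).trans (Subgroup.centralizer_le_normalizer _)
  have hvm : v ∈ ((W ⊔ fixOn V (offE Q A) : Subgroup G) : Set G) := by
    rw [hWdef, W_sup_fix S hA]; exact hv.1
  rw [Subgroup.coe_mul_of_left_le_normalizer_right _ _ hn] at hvm
  obtain ⟨w, hw, c, hc, rfl⟩ := hvm
  have hwb : w ∈ W ⊓ Subgroup.centralizer ((⁅Q, A⁆ : Subgroup G) : Set G) := ⟨hw, by
    have h2 := Subgroup.mul_mem _ hv.2
      (Subgroup.inv_mem _ (fixOn_anti (le_sup_left : ⁅Q, A⁆ ≤ offE Q A) hc).2)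
    simpa using h2⟩
  rw [hL, Subgroup.mem_bot] at hwb
  subst hwb
  simpa using hc

/-- The dichotomy for two transvection groups. -/
theorem dichotomy (S : OffenderSetup p V H Q) (hA : IsTransv p V H A) (hA' : IsTransv p V H A') :
    offE Q A' = offE Q A ∨
      (⁅offE Q A, offE Q A'⁆ = ⊥ ∧ ⁅V, offE Q A'⁆ ≤ fixOn V (offE Q A) ∧
        ⁅V, offE Q A⁆ ≤ fixOn V (offE Q A')) := by
  have hinv : ∀ {A A' : Subgroup G}, IsTransv p V H A → IsTransv p V H A' →
      (⁅Q, A⁆ : Subgroup G) ≤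
        Subgroup.normalizer ((⁅V, offE Q A'⁆ : Subgroup G) : Set G) :=
    fun hA hA' => (commutator_le_Q S hA).trans (Q_normalizer_W S hA')
  have hinvI : ∀ {A A' : Subgroup G}, IsTransv p V H A → IsTransv p V H A' →
      ⁅V, offE Q A⁆ ⊓ ⁅V, offE Q A'⁆ = ⊥ →
      ⁅V, offE Q A'⁆ ≤ fixOn V (offE Q A) := by
    intro A A' hA hA' hb
    rw [← fix_R_eq S hA]
    refine le_inf (W_le S hA') (Subgroup.commutator_eq_bot_iff_le_centralizer.mp (le_bot_iff.mp ?_))
    rw [← hb]
    exact le_inf (Subgroup.commutator_mono (W_le S hA') le_sup_left)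
      (commutator_le_self (hinv hA hA'))
  have hinv2 : (⁅Q, A⁆ : Subgroup G) ≤
      Subgroup.normalizer ((⁅V, offE Q A⁆ ⊓ ⁅V, offE Q A'⁆ : Subgroup G) : Set G) := fun r hr => by
    rw [Subgroup.mem_normalizer_iff_map_conj_eq]
    show Subgroup.map (MulAut.conj r).toMonoidHom _ = _
    rw [Subgroup.map_inf _ _ _ (MulAut.conj r).injective, map_conj_self (hinv hA hA' hr),
      map_conj_self (hinv hA hA hr)]
  rcases irreducible S hA inf_le_left hinv2 with hb | he
  · right
    have h1 := hinvI hA hA' hb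
    have h2 := hinvI hA' hA (by rw [inf_comm]; exact hb)
    refine ⟨le_bot_iff.mp ?_, h1, h2⟩
    rw [← S.faithful]
    refine le_inf ((Subgroup.commutator_mono (offE_le S hA) (offE_le S hA')).trans
      (Subgroup.commutator_le_self H)) (Subgroup.commutator_eq_bot_iff_le_centralizer.mp ?_)
    refine Subgroup.commutator_commutator_eq_bot_of_rotate ?_ ?_
    · rw [Subgroup.commutator_comm (offE Q A') V, Subgroup.commutator_eq_bot_iff_le_centralizer]
      exact h1.trans inf_le_right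
    · rw [Subgroup.commutator_eq_bot_iff_le_centralizer]
      exact h2.trans inf_le_right
  · left
    set W : Subgroup G := ⁅V, offE Q A⁆ with hWdef
    have hWW : ⁅V, offE Q A'⁆ = W :=
      (Subgroup.eq_of_le_of_card_ge (inf_eq_left.mp he) (by rw [card_W S hA, card_W S hA'])).symm
    have hCC : fixOn V (offE Q A') = fixOn V (offE Q A) := by
      refine Subgroup.eq_of_le_of_card_ge ?_ ?_
      · rw [← fix_R_eq S hA]
        refine le_inf fixOn_le (Subgroup.commutator_eq_bot_iff_le_centralizer.mp (le_bot_iff.mp ?_))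
        rw [← W_inf_fix S hA', hWW]
        refine le_inf (Subgroup.commutator_mono fixOn_le le_sup_left) (commutator_le_self ?_)
        exact (le_inf ((commutator_le_Q S hA).trans (S.Q_le.trans S.norm))
          ((commutator_le_Q S hA).trans (Q_le_normalizer_offE S hA'))).trans
          normalizer_inf_le_normalizer_fixOn
      · have h1 := card_fix_offE S hA
        have h2 := card_fix_offE S hA'
        have h3 : 0 < p ^ 2 := pow_pos hp.out.pos 2
        nlinarith
    obtain ⟨B, P, hEB, hWB⟩ := exists_pair S hA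
    obtain ⟨B', P', hEB', -⟩ := exists_pair S hA'
    have hK : offE Q A ⊔ offE Q A' =
        Subgroup.closure (((A : Set G) ∪ B) ∪ ((A' : Set G) ∪ B')) := by
      rw [hEB, hEB', Subgroup.closure_union, ← TransvPair.closure_eq, ← TransvPair.closure_eq]
    have hf : (offE Q A ⊔ offE Q A') ⊓
        Subgroup.centralizer ((⁅V, A⁆ ⊔ ⁅V, B⁆ : Subgroup G) : Set G) = ⊥ := by
      refine P.eq_bot_of_centralizes (inf_le_left.trans (sup_le (offE_le S hA) (offE_le S hA')))
        inf_le_right (inf_le_left.trans (Subgroup.le_centralizer_iff.mpr ?_))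
      rw [← hEB]
      refine Subgroup.le_centralizer_iff.mp (sup_le (Subgroup.le_centralizer_iff.mp inf_le_right) ?_)
      rw [← hCC]
      exact Subgroup.le_centralizer_iff.mp inf_le_right
    have hn : offE Q A ⊔ offE Q A' ≤
        Subgroup.normalizer ((⁅V, A⁆ ⊔ ⁅V, B⁆ : Subgroup G) : Set G) := by
      rw [← hWB]
      refine sup_le (offE_normalizer_W S hA) ?_
      have h5 := offE_normalizer_W S hA'
      rwa [hWW] at h5
    have hc := P.card_le_of_faithful hn hK (by
      rintro x (h | h)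
      · exact P.gen_pow x h
      · exact P'.gen_pow x h) hf
    rw [← hEB] at hc
    have hE : offE Q A = offE Q A ⊔ offE Q A' := Subgroup.eq_of_le_of_card_ge le_sup_left hc
    obtain ⟨e⟩ := offE_equiv_SL S hA
    obtain ⟨e'⟩ := offE_equiv_SL S hA'
    exact Subgroup.eq_of_le_of_card_ge (le_sup_right.trans hE.ge)
      (by rw [Nat.card_congr e.toEquiv, Nat.card_congr e'.toEquiv])

/-- `H` is generated by transvection groups. -/
theorem le_iSup_transv (S : OffenderSetup p V H Q)
    (hgen : H = ⨆ A : {A : Subgroup G // A ≤ H ∧ Cfsg.IsBestOffenderOn p V A}, (A : Subgroup G)) :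
    H ≤ ⨆ B : {B : Subgroup G // IsTransv p V H B}, (B : Subgroup G) := by
  conv_lhs => rw [hgen]
  refine iSup_le fun A => ?_
  obtain ⟨k, B, hB, -, hsup⟩ := exists_decomposition S A.2.2 A.2.1
  rw [← hsup]
  exact iSup_le fun i => le_iSup_of_le (⟨B i, (hB i).2⟩ : {B : Subgroup G // IsTransv p V H B}) le_rfl

/-- `H = E × C_H([V,E])`. -/
theorem complement (S : OffenderSetup p V H Q)
    (hgen : H = ⨆ A : {A : Subgroup G // A ≤ H ∧ Cfsg.IsBestOffenderOn p V A}, (A : Subgroup G))
    (hA : IsTransv p V H A) :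
    let F := H ⊓ Subgroup.centralizer ((⁅V, offE Q A⁆ : Subgroup G) : Set G)
    ⁅offE Q A, F⁆ = ⊥ ∧ offE Q A ⊓ F = ⊥ ∧ offE Q A ⊔ F = H ∧ ⁅V, F⁆ ≤ fixOn V (offE Q A) ∧
      H ≤ Subgroup.normalizer (offE Q A : Set G) := by
  intro F
  set E := offE Q A with hEdef
  set W : Subgroup G := ⁅V, E⁆ with hWdef
  set K := F ⊓ Subgroup.centralizer (E : Set G) with hKdef
  have hKn : K ≤ Subgroup.normalizer (E : Set G) :=
    inf_le_right.trans (Subgroup.centralizer_le_normalizer _)
  have hEF : E ⊓ F = ⊥ :=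
    le_bot_iff.mp (offE_faithful S hA ▸ inf_le_inf_left _ inf_le_right)
  have hH : H ≤ K ⊔ E := by
    refine (le_iSup_transv S hgen).trans (iSup_le fun B => ?_)
    rcases dichotomy S hA B.2 with h | ⟨hc, hW', hW⟩
    · exact le_sup_of_le_right ((le_sup_right : (B : Subgroup G) ≤ offE Q (B : Subgroup G)).trans h.le)
    · have hBE : (B : Subgroup G) ≤ offE Q (B : Subgroup G) := le_sup_right
      refine le_sup_of_le_left (le_inf (le_inf B.2.1 ?_) ?_)
      · exact (Subgroup.le_centralizer_iff.mp (hW.trans inf_le_right)).trans' hBE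
      · rw [Subgroup.commutator_comm] at hc
        exact hBE.trans (Subgroup.commutator_eq_bot_iff_le_centralizer.mp hc)
  have hFK : F ≤ K := by
    intro x hx
    have hxm : x ∈ ((K ⊔ E : Subgroup G) : Set G) := hH hx.1
    rw [Subgroup.coe_mul_of_left_le_normalizer_right _ _ hKn] at hxm
    obtain ⟨k, hk, e, he, rfl⟩ := hxm
    have heF : e ∈ E ⊓ F := ⟨he, by
      have h3 := F.mul_mem (F.inv_mem hk.1) hx
      rwa [inv_mul_cancel_left] at h3⟩
    rw [hEF, Subgroup.mem_bot] at heF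
    simpa [heF] using hk
  have hc1 : ⁅E, F⁆ = ⊥ := Subgroup.commutator_eq_bot_iff_le_centralizer.mpr
    (Subgroup.le_centralizer_iff.mp (hFK.trans inf_le_right))
  have hsup : E ⊔ F = H :=
    le_antisymm (sup_le (offE_le S hA) inf_le_left) (hH.trans (sup_le (le_sup_of_le_right inf_le_left) le_sup_left))
  refine ⟨hc1, hEF, hsup, ?_, ?_⟩
  · have hFN : F ≤ Subgroup.normalizer (fixOn V E : Set G) :=
      (le_inf (inf_le_left.trans S.norm)
        ((hFK.trans inf_le_right).trans (Subgroup.centralizer_le_normalizer _))).trans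
        normalizer_inf_le_normalizer_fixOn
    rw [Subgroup.commutator_le]
    intro v hv f hf
    have hn : W ≤ Subgroup.normalizer (fixOn V E : Set G) :=
      ((W_le S hA).trans ((Subgroup.le_centralizer_iff_isMulCommutative.mpr S.elab'.1).trans
        (Subgroup.centralizer_le fixOn_le))).trans (Subgroup.centralizer_le_normalizer _)
    have hvm : v ∈ ((W ⊔ fixOn V E : Subgroup G) : Set G) := by
      rw [hWdef, hEdef, W_sup_fix S hA]; exact hv
    rw [Subgroup.coe_mul_of_left_le_normalizer_right _ _ hn] at hvm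
    obtain ⟨w, hw, c, hc, rfl⟩ := hvm
    have hfV := S.norm hf.1
    rw [commutatorElement_mul_of_comm S.elab'.1 hfV (W_le S hA hw) hc.1,
      commutatorElement_eq_one_iff_mul_comm.mpr (Subgroup.mem_centralizer_iff.mp hf.2 w hw), one_mul]
    exact Subgroup.commutator_mono le_rfl le_rfl |>.trans (commutator_le_self hFN)
      (Subgroup.commutator_mem_commutator hc hf)
  · rw [← hsup]
    exact sup_le Subgroup.le_normalizer
      ((hFK.trans inf_le_right).trans (Subgroup.centralizer_le_normalizer _))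

end Cfsg.Agent.Lib.PLocal
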