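import Cfsg.Agent.Lib.Linear.SL2
import Cfsg.Agent.Lib.PLocal.CoprimeGen
import Mathlib.Algebra.CharP.Lemmas
import Mathlib.GroupTheory.Nilpotent

/-!
# A unipotent element of `SL(2,K)` acting on a `p'`-subgroup

Owner: helper19. It centralises it unless `p = 3`.
-/

set_option autoImplicit false

namespace Cfsg.Agent.Lib.PLocal.SLTwoNormalised

open Matrix Cfsg.Agent.Lib.Linear

variable {K : Type*} [Field K] {p : ℕ} [hp : Fact p.Prime] [CharP K p]

local notation "SL2" => Matrix.SpecialLinearGroup (Fin 2) K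
local notation "M2" => Matrix (Fin 2) (Fin 2) K

omit hp [CharP K p]

theorem mul_comm_of_scalar {s : SL2} (hs : ¬ Linear.NonScalar s) (g : SL2) : s * g = g * s := by
  simp only [Linear.NonScalar, not_forall, not_not] at hs
  obtain ⟨c, hc⟩ := hs
  refine Subtype.ext ?_
  show (s : M2) * (g : M2) = (g : M2) * (s : M2)
  rw [hc, smul_one_mul, Algebra.mul_smul_comm, mul_one]

theorem commute_of_commute_nonScalar {x g h : SL2} (hx : Linear.NonScalar x) (hg : g * x = x * g)
    (hh : h * x = x * h) : g * h = h * g := by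
  obtain ⟨a, b, hab⟩ := exists_eq_add_smul_of_commute hx hg
  have hh' : (h : M2) * (x : M2) = (x : M2) * (h : M2) := congrArg (fun z : SL2 => (z : M2)) hh
  refine Subtype.ext ?_
  show (g : M2) * (h : M2) = (h : M2) * (g : M2)
  rw [hab, add_mul, mul_add, smul_one_mul, Algebra.mul_smul_comm, mul_one, smul_mul_assoc,
    Algebra.mul_smul_comm, hh']

theorem not_nonScalar_of_sq (h2 : (2 : K) ≠ 0) {r : SL2} (hr : r ^ 2 = 1) : ¬ Linear.NonScalar r := by
  intro hn
  have h := sl2_mul_self r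
  have hrr : (r : M2) * (r : M2) = 1 := by
    rw [pow_two] at hr
    exact congrArg (fun z : SL2 => (z : M2)) hr
  rw [hrr, eq_sub_iff_add_eq, one_add_one_eq_two] at h
  by_cases ht : Matrix.trace (r : M2) = 0
  · rw [ht, zero_smul] at h
    have := congrFun (congrFun h 0) 0
    simp at this
    exact h2 this
  · apply hn ((Matrix.trace (r : M2))⁻¹ * 2)
    calc (r : M2) = (Matrix.trace (r : M2))⁻¹ • (Matrix.trace (r : M2) • (r : M2)) :=
          (inv_smul_smul₀ ht _).symm
      _ = (Matrix.trace (r : M2))⁻¹ • (2 : M2) := by rw [← h]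
      _ = _ := by rw [← smul_smul, two_smul, one_add_one_eq_two]

theorem sq_eq_one_of_coprime {r : SL2} (hcop : (orderOf r).Coprime p) (h : r ^ (2 * p) = 1) :
    r ^ 2 = 1 := by
  rw [← orderOf_dvd_iff_pow_eq_one] at h ⊢
  exact hcop.dvd_of_dvd_mul_right h

include hp in
theorem commute_of_sq (hp2 : p ≠ 2) {α r : SL2} (hα : α ^ p = 1)
    (h : (α * α) * r = r * (α * α)) : α * r = r * α := by
  obtain ⟨k, hk⟩ := hp.out.odd_of_ne_two hp2
  have he : α = (α * α) ^ (k + 1) := by
    rw [← pow_two, ← pow_mul, show 2 * (k + 1) = p + 1 by omega, pow_succ, hα, one_mul]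
  rw [he]
  exact (show Commute (α * α) r from h).pow_left (k + 1)

variable [CharP K p]

include hp

theorem two_ne_zero' (hp2 : p ≠ 2) : (2 : K) ≠ 0 := by
  intro h0
  have h1 : ((2 : ℕ) : K) = 0 := by exact_mod_cast h0
  rw [CharP.cast_eq_zero_iff K p] at h1
  exact hp2 ((Nat.prime_dvd_prime_iff_eq hp.out Nat.prime_two).mp h1)

/-- A non-scalar element of order prime to `p` is not fixed by a non-trivial unipotent. -/
theorem not_commute {α r : SL2} (hp2 : p ≠ 2) (hαn : Linear.NonScalar α) (hα : α ^ p = 1)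
    (hr : Linear.NonScalar r) (hcop : (orderOf r).Coprime p) : α * r ≠ r * α := by
  intro h
  obtain ⟨a, b, hab⟩ := exists_eq_add_smul_of_commute hαn h.symm
  have hαp : (α : M2) ^ p = 1 := by
    rw [← Matrix.SpecialLinearGroup.coe_pow, hα]; rfl
  have hrp : (r : M2) ^ p = (a ^ p + b ^ p) • (1 : M2) := by
    rw [hab, add_pow_char_of_commute p ((Commute.one_left (b • (α : M2))).smul_left a), smul_pow,
      smul_pow, one_pow, hαp, add_smul]
  have hsc : ¬ Linear.NonScalar (r ^ p) := fun hn => hn _ (by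
    rw [Matrix.SpecialLinearGroup.coe_pow]; exact hrp)
  have h2 : (r ^ p) ^ 2 = 1 := by
    simp only [Linear.NonScalar, not_forall, not_not] at hsc
    obtain ⟨c, hc⟩ := hsc
    have hdet := sl2_det (r ^ p)
    rw [hc] at hdet
    simp at hdet
    refine Subtype.ext ?_
    show ((r ^ p) ^ 2).1 = _
    rw [pow_two]
    show ((r ^ p : SL2) : M2) * ((r ^ p : SL2) : M2) = 1
    rw [hc, smul_one_mul, smul_smul, hdet, one_smul]
  refine not_nonScalar_of_sq (two_ne_zero' (p := p) hp2) (sq_eq_one_of_coprime (p := p) hcop ?_) hr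
  rw [mul_comm, pow_mul]
  exact h2

/-- An abelian invariant piece is centralised. -/
theorem commute_of_commute_conj {α r : SL2} (hp2 : p ≠ 2) (hα : α ^ p = 1) (hr : Linear.NonScalar r)
    (hcop : (orderOf r).Coprime p) (h : (α * r * α⁻¹) * r = r * (α * r * α⁻¹)) :
    α * r = r * α := by
  obtain ⟨a, b, hab⟩ := exists_eq_add_smul_of_commute hr h
  set t := Matrix.trace (r : M2) with ht
  have hαα : (α : M2) * ((α⁻¹ : SL2) : M2) = 1 := by
    rw [← Matrix.SpecialLinearGroup.coe_mul, mul_inv_cancel]; rfl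
  have hαα' : ((α⁻¹ : SL2) : M2) * (α : M2) = 1 := by
    rw [← Matrix.SpecialLinearGroup.coe_mul, inv_mul_cancel]; rfl
  have htr : Matrix.trace ((α * r * α⁻¹ : SL2) : M2) = t := by
    rw [Matrix.SpecialLinearGroup.coe_mul, Matrix.SpecialLinearGroup.coe_mul, Matrix.trace_mul_comm,
      ← Matrix.mul_assoc, hαα', Matrix.one_mul]
  have e1 : 2 * a + b * t = t := by
    rw [hab] at htr
    simpa [Matrix.trace_add, Matrix.trace_smul, ← ht, mul_comm] using htr
  have e2 : a ^ 2 + a * b * t + b ^ 2 = 1 := by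
    rw [ht, ← det_add_smul, ← hab]
    exact (α * r * α⁻¹).2
  have h2 := two_ne_zero' (K := K) (p := p) hp2
  have ht4 : t ^ 2 ≠ 4 := by
    intro h4
    refine not_nonScalar_of_sq h2 (sq_eq_one_of_coprime (p := p) hcop ?_) hr
    have hsq : ((r : M2) - (t / 2) • 1) * ((r : M2) - (t / 2) • 1) = 0 := by
      rw [sub_mul, mul_sub, mul_sub, sl2_mul_self, ← ht]
      simp only [smul_one_mul, Algebra.mul_smul_comm, mul_one, smul_smul]
      have e3 : t / 2 * (t / 2) = 1 := by
        field_simp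
        linear_combination h4
      have e4 : t = t / 2 + t / 2 := by
        field_simp
        ring
      rw [e3, one_smul]
      nth_rewrite 1 [e4]
      rw [add_smul]
      abel
    have hz : ((r : M2) - (t / 2) • 1) ^ p = 0 :=
      pow_eq_zero_of_le hp.out.two_le ((sq _).trans hsq)
    rw [sub_pow_char_of_commute p ((Commute.one_right (r : M2)).smul_right (t / 2)), smul_pow,
      one_pow, sub_eq_zero] at hz
    refine Subtype.ext ?_
    show ((r ^ (2 * p) : SL2) : M2) = 1
    rw [Matrix.SpecialLinearGroup.coe_pow, mul_comm, pow_mul, hz, smul_pow, one_pow, ← pow_mul,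
      mul_comm, pow_mul, show (t / 2) ^ 2 = 1 by field_simp; linear_combination h4, one_pow,
      one_smul]
  have e3 : (t ^ 2 - 4) * (1 - b ^ 2) = 0 := by
    linear_combination (4 : K) * e2 - (2 * a + b * t + t) * e1
  have hb : (b - 1) * (b + 1) = 0 := by
    linear_combination -((mul_eq_zero.mp e3).resolve_left (sub_ne_zero.mpr ht4))
  rcases mul_eq_zero.mp hb with hb | hb
  · have hb1 := sub_eq_zero.mp hb
    subst hb1
    have ha : a = 0 := by
      refine (mul_eq_zero.mp (show (2 : K) * a = 0 by linear_combination e1)).resolve_left h2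
    rw [ha, zero_smul, zero_add, one_smul] at hab
    exact mul_inv_eq_iff_eq_mul.mp (Subtype.ext hab : α * r * α⁻¹ = r)
  · have hb1 : b = -1 := eq_neg_of_add_eq_zero_left hb
    have ha : a = t := by
      have h' : (2 : K) * (a - t) = 0 := by rw [hb1] at e1; linear_combination e1
      exact sub_eq_zero.mp ((mul_eq_zero.mp h').resolve_left h2)
    have hinv : α * r * α⁻¹ = r⁻¹ := by
      refine eq_inv_of_mul_eq_one_left (Subtype.ext ?_)
      show ((α * r * α⁻¹ : SL2) : M2) * (r : M2) = 1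
      rw [hab, ha, hb1, add_mul, smul_one_mul, smul_mul_assoc, sl2_mul_self, ← ht, neg_smul,
        one_smul]
      abel
    refine commute_of_sq hp2 hα ?_
    calc α * α * r = α * (α * r * α⁻¹) * α := by group
      _ = α * r⁻¹ * α := by rw [hinv]
      _ = (α * r * α⁻¹)⁻¹ * (α * α) := by group
      _ = r * (α * α) := by rw [hinv, inv_inv]

/-- The main lemma. -/
theorem p_eq_three [Finite K] (hp2 : p ≠ 2) {α : SL2} (hα : α ^ p = 1) (Q : Subgroup SL2)
    (hQ : (Nat.card Q).Coprime p) (hαQ : α ∈ Subgroup.normalizer (Q : Set SL2))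
    (hne : ∃ x ∈ Q, α * x ≠ x * α) : p = 3 := by
  obtain ⟨x, hxQ, hx⟩ := hne
  have hαn : Linear.NonScalar α := by
    by_contra h
    exact hx (mul_comm_of_scalar h x)
  have hcopQ : ∀ r ∈ Q, (orderOf r).Coprime p := fun r hr =>
    hQ.coprime_dvd_left (Subgroup.orderOf_dvd_natCard _ hr)
  have hA : IsPGroup p (Subgroup.zpowers α) := by
    refine IsPGroup.of_card_dvd_pow (n := 1) ?_
    rw [Nat.card_zpowers, pow_one]
    exact orderOf_dvd_of_pow_eq_one hα
  set A := Subgroup.zpowers α with hAdef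
  have hAQ : A ≤ Subgroup.normalizer (Q : Set SL2) := Subgroup.zpowers_le.mpr hαQ
  -- an invariant Sylow subgroup of `Q` which is not centralised
  obtain ⟨R, hRQ, hRn, q, hq, hRq, r, hrR, hr⟩ : ∃ R : Subgroup SL2, R ≤ Q ∧
      A ≤ Subgroup.normalizer (R : Set SL2) ∧ ∃ q : ℕ, q.Prime ∧ IsPGroup q R ∧
      ∃ r ∈ R, α * r ≠ r * α := by
    by_contra hcon
    push Not at hcon
    set C := Q ⊓ Subgroup.centralizer (A : Set SL2) with hC
    have hdvd : Nat.card Q ∣ Nat.card C := by
      rw [← Nat.factorization_le_iff_dvd Nat.card_pos.ne' Nat.card_pos.ne']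
      intro q
      by_cases hq : q.Prime
      · haveI : Fact q.Prime := ⟨hq⟩
        obtain ⟨P, hP⟩ := exists_invariant_sylow hA hAQ hQ q
        have hPC : (P : Subgroup Q).map Q.subtype ≤ C := by
          refine le_inf (Subgroup.map_subtype_le _) fun y hy => ?_
          have hay := hcon _ (Subgroup.map_subtype_le _) hP q hq (P.isPGroup'.map _) y hy
          rw [Subgroup.mem_centralizer_iff]
          rintro _ ⟨k, rfl⟩
          exact ((show Commute α y from hay).zpow_left k).eq
        have h := Subgroup.card_dvd_of_le hPC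
        rw [Subgroup.card_map_of_injective Q.subtype_injective, Sylow.card_eq_multiplicity] at h
        exact (hq.pow_dvd_iff_le_factorization Nat.card_pos.ne').1 h
      · simp [Nat.factorization_eq_zero_of_not_prime _ hq]
    have heq : C = Q := Subgroup.eq_of_le_of_card_ge inf_le_left (Nat.le_of_dvd Nat.card_pos hdvd)
    exact hx (Subgroup.mem_centralizer_iff.mp (heq.ge hxQ).2 α (Subgroup.mem_zpowers α))
  haveI : Fact q.Prime := ⟨hq⟩
  have hconj : ∀ y ∈ R, α * y * α⁻¹ ∈ R := fun y hy =>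
    (Subgroup.mem_normalizer_iff.mp (hRn (Subgroup.mem_zpowers α)) y).mp hy
  have hnc : ∀ y ∈ R, Linear.NonScalar y → (α * y * α⁻¹) * y ≠ y * (α * y * α⁻¹) := fun y hy hyn h =>
    not_commute hp2 hαn hα hyn (hcopQ y (hRQ hy))
      (commute_of_commute_conj hp2 hα hyn (hcopQ y (hRQ hy)) h)
  have hrn : Linear.NonScalar r := by
    by_contra h
    exact hr (mul_comm_of_scalar h α).symm
  -- central elements of `R` are scalar
  have hcen : ∀ z ∈ R, (∀ y ∈ R, z * y = y * z) → ¬ Linear.NonScalar z := fun z _ hzc hzn =>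
    hnc r hrR hrn (commute_of_commute_nonScalar hzn (hzc _ (hconj r hrR)).symm (hzc r hrR).symm)
  -- the second centre
  obtain ⟨y, hyR, hyn, hy⟩ : ∃ y ∈ R, Linear.NonScalar y ∧
      ∀ s ∈ R, ¬ Linear.NonScalar (y * s * y⁻¹ * s⁻¹) := by
    haveI : Group.IsNilpotent R := hRq.isNilpotent
    haveI : Nontrivial (R ⧸ Subgroup.center R) := by
      refine QuotientGroup.nontrivial_iff.mpr fun h => ?_
      have : (⟨r, hrR⟩ : R) ∈ Subgroup.center R := h ▸ Subgroup.mem_top _
      exact hcen r hrR (fun y hy => (congrArg Subtype.val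
        (Subgroup.mem_center_iff.mp this ⟨y, hy⟩)).symm) hrn
    haveI : Group.IsNilpotent (R ⧸ Subgroup.center R) := inferInstance
    haveI := (hRq.to_quotient (Subgroup.center R)).center_nontrivial
    obtain ⟨⟨z, hz⟩, hz1⟩ := exists_ne (1 : Subgroup.center (R ⧸ Subgroup.center R))
    obtain ⟨y, rfl⟩ := QuotientGroup.mk_surjective z
    refine ⟨y, y.2, ?_, fun s hs => ?_⟩
    · by_contra hsc
      apply hz1
      refine Subtype.ext ((QuotientGroup.eq_one_iff y).mpr (Subgroup.mem_center_iff.mpr fun u =>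
        Subtype.ext (mul_comm_of_scalar hsc u).symm))
    · have h := Subgroup.mem_center_iff.mp hz (QuotientGroup.mk ⟨s, hs⟩)
      have hmem : y * ⟨s, hs⟩ * y⁻¹ * (⟨s, hs⟩ : R)⁻¹ ∈ Subgroup.center R := by
        rw [← QuotientGroup.eq_one_iff]
        simp only [QuotientGroup.mk_mul, QuotientGroup.mk_inv]
        rw [← h]; group
      exact hcen _ (R.mul_mem (R.mul_mem (R.mul_mem y.2 hs) (R.inv_mem y.2)) (R.inv_mem hs))
        fun u hu => (congrArg Subtype.val (Subgroup.mem_center_iff.mp hmem ⟨u, hu⟩)).symm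
  -- conjugates of `y` stay in the second centre
  let good : SL2 → Prop := fun z => z ∈ R ∧ Linear.NonScalar z ∧
    ∀ s ∈ R, ¬ Linear.NonScalar (z * s * z⁻¹ * s⁻¹)
  have hgood : ∀ z, good z → good (α * z * α⁻¹) := by
    rintro z ⟨hz, hzn, hzc⟩
    refine ⟨hconj z hz, ?_, fun s hs => ?_⟩
    · by_contra hsc
      have hz' : z = α * z * α⁻¹ := by
        have h := mul_comm_of_scalar hsc α
        calc z = α⁻¹ * ((α * z * α⁻¹) * α) := by group
          _ = α⁻¹ * (α * (α * z * α⁻¹)) := by rw [h]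
          _ = _ := by group
      exact hsc (hz' ▸ hzn)
    · have hs' : α⁻¹ * s * α ∈ R :=
        (Subgroup.mem_normalizer_iff''.mp (hRn (Subgroup.mem_zpowers α)) s).mp hs
      have hc := hzc _ hs'
      have he : (α * z * α⁻¹) * s * (α * z * α⁻¹)⁻¹ * s⁻¹ =
          α * (z * (α⁻¹ * s * α) * z⁻¹ * (α⁻¹ * s * α)⁻¹) * α⁻¹ := by group
      rw [he, ← mul_comm_of_scalar hc α, mul_inv_cancel_right]
      exact hc
  have hanti : ∀ z w, good z → good w → z * w ≠ w * z →
      (z : M2) * (w : M2) = -((w : M2) * (z : M2)) := by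
    intro z w hz hw hzw
    have hc := hz.2.2 w hw.1
    have hzw' : z * w = (z * w * z⁻¹ * w⁻¹) * (w * z) := by group
    generalize hcdef : z * w * z⁻¹ * w⁻¹ = c at hc hzw'
    simp only [Linear.NonScalar, not_forall, not_not] at hc
    obtain ⟨k, hk⟩ := hc
    have hdet := sl2_det c
    rw [hk] at hdet
    simp at hdet
    rcases mul_self_eq_one_iff.mp hdet with h1 | h1
    · exfalso; apply hzw
      rw [hzw', show c = 1 from Subtype.ext (hk.trans (by rw [h1, one_smul]; rfl)), one_mul]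
    · have := congrArg (fun g : SL2 => (g : M2)) hzw'
      simp only [Matrix.SpecialLinearGroup.coe_mul] at this
      rw [this, hk, h1, smul_one_mul, neg_smul, one_smul]
  set y₂ := α * y * α⁻¹ with hy₂
  set y₃ := α * y₂ * α⁻¹ with hy₃
  have g1 : good y := ⟨hyR, hyn, hy⟩
  have g2 : good y₂ := hgood _ g1
  have g3 : good y₃ := hgood _ g2
  have h21 : y * y₂ ≠ y₂ * y := fun h => hnc y hyR hyn h.symm
  have h32 : y₂ * y₃ ≠ y₃ * y₂ := fun h => hnc y₂ g2.1 g2.2.1 h.symm
  have a12 := hanti y y₂ g1 g2 h21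
  have a23 := hanti y₂ y₃ g2 g3 h32
  have hfix4 : ∀ z, good z → (α * α) * z * (α * α)⁻¹ ≠ z := by
    intro z hz h
    exact not_commute hp2 hαn hα hz.2.1 (hcopQ z (hRQ hz.1))
      (commute_of_sq hp2 hα (mul_inv_eq_iff_eq_mul.mp h))
  have htr : ∀ z w, good z → good w → z * w ≠ w * z → Matrix.trace (z : M2) = 0 := by
    intro z w hz hw hzw
    have h := hanti z w hz hw hzw
    have h' : Matrix.trace ((w⁻¹ * (z * w) : SL2) : M2) = Matrix.trace (z : M2) := by
      rw [Matrix.SpecialLinearGroup.coe_mul, Matrix.trace_mul_comm,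
        ← Matrix.SpecialLinearGroup.coe_mul, mul_inv_cancel_right]
    have hww : ((w⁻¹ : SL2) : M2) * (w : M2) = 1 := by
      rw [← Matrix.SpecialLinearGroup.coe_mul, inv_mul_cancel]; rfl
    rw [Matrix.SpecialLinearGroup.coe_mul, Matrix.SpecialLinearGroup.coe_mul, h, mul_neg,
      ← Matrix.mul_assoc, hww, Matrix.one_mul, Matrix.trace_neg] at h'
    have h'' : (2 : K) * Matrix.trace (z : M2) = 0 := by linear_combination -h'
    exact (mul_eq_zero.mp h'').resolve_left (two_ne_zero' (p := p) hp2)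
  have h13 : y * y₃ ≠ y₃ * y := by
    intro h
    have h4eq : (α * α) * y * (α * α)⁻¹ = y₃ := by rw [hy₃, hy₂]; group
    obtain ⟨a, b, hab⟩ := exists_eq_add_smul_of_commute hyn h.symm
    have t1 := htr y y₂ g1 g2 h21
    have t3 := htr y₃ y₂ g3 g2 (Ne.symm h32)
    rw [hab, Matrix.trace_add, Matrix.trace_smul, Matrix.trace_smul, t1, smul_zero, add_zero,
      Matrix.trace_one, Fintype.card_fin] at t3
    have ha : a = 0 := by
      simp at t3
      exact t3.resolve_right (two_ne_zero' (p := p) hp2)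
    have hdet := det_add_smul y a b
    rw [← hab, t1, ha] at hdet
    have hb2 : b * b = 1 := by
      rw [show (y₃ : M2).det = 1 from y₃.2] at hdet
      linear_combination -hdet
    rw [ha, zero_smul, zero_add] at hab
    rcases mul_self_eq_one_iff.mp hb2 with hb | hb
    · rw [hb, one_smul] at hab
      exact hfix4 y g1 (h4eq.trans (Subtype.ext hab))
    · rw [hb, neg_smul, one_smul] at hab
      -- then `α²` negates `y`
      have hcom : (α * α) * (α * α) * y = y * ((α * α) * (α * α)) := by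
        refine Subtype.ext ?_
        have e1 : ((α * α : SL2) : M2) * (y : M2) = -((y : M2) * ((α * α : SL2) : M2)) := by
          rw [← Matrix.SpecialLinearGroup.coe_mul, ← neg_mul, ← hab,
            ← Matrix.SpecialLinearGroup.coe_mul, ← h4eq, inv_mul_cancel_right]
        show ((α * α : SL2) : M2) * ((α * α : SL2) : M2) * (y : M2) =
          (y : M2) * (((α * α : SL2) : M2) * ((α * α : SL2) : M2))
        rw [Matrix.mul_assoc, e1, mul_neg, ← Matrix.mul_assoc, e1, neg_mul, neg_neg,
          Matrix.mul_assoc]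
      exact not_commute hp2 hαn hα hyn (hcopQ y (hRQ hyR)) (commute_of_sq hp2 hα
        (commute_of_sq hp2 (by rw [← pow_two, ← pow_mul, mul_comm, pow_mul, hα, one_pow]) hcom))
  have a13 := hanti y y₃ g1 g3 h13
  -- `y₃` is `± y y₂`
  set c := y₃ * (y * y₂) with hc
  have hc1 : c * y = y * c := by
    refine Subtype.ext ?_
    show (y₃ : M2) * ((y : M2) * (y₂ : M2)) * (y : M2) = (y : M2) * ((y₃ : M2) * ((y : M2) * (y₂ : M2)))
    have e : (y₂ : M2) * (y : M2) = -((y : M2) * (y₂ : M2)) := by rw [a12, neg_neg]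
    calc (y₃ : M2) * ((y : M2) * (y₂ : M2)) * (y : M2)
        = (y₃ : M2) * ((y : M2) * ((y₂ : M2) * (y : M2))) := by simp only [Matrix.mul_assoc]
      _ = -((y₃ : M2) * (y : M2)) * ((y : M2) * (y₂ : M2)) := by
        rw [e]; simp only [mul_neg, neg_mul, Matrix.mul_assoc]
      _ = ((y : M2) * (y₃ : M2)) * ((y : M2) * (y₂ : M2)) := by rw [a13]
      _ = _ := by simp only [Matrix.mul_assoc]
  have hc2 : c * y₂ = y₂ * c := by
    refine Subtype.ext ?_
    show (y₃ : M2) * ((y : M2) * (y₂ : M2)) * (y₂ : M2) = (y₂ : M2) * ((y₃ : M2) * ((y : M2) * (y₂ : M2)))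
    calc (y₃ : M2) * ((y : M2) * (y₂ : M2)) * (y₂ : M2)
        = (y₃ : M2) * (((y : M2) * (y₂ : M2)) * (y₂ : M2)) := by simp only [Matrix.mul_assoc]
      _ = -((y₃ : M2) * (y₂ : M2)) * ((y : M2) * (y₂ : M2)) := by
        conv_lhs => rw [a12]
        simp only [mul_neg, neg_mul, Matrix.mul_assoc]
      _ = ((y₂ : M2) * (y₃ : M2)) * ((y : M2) * (y₂ : M2)) := by rw [a23]
      _ = _ := by simp only [Matrix.mul_assoc]
  have hcs : ¬ Linear.NonScalar c := fun hcn => h21
    (commute_of_commute_nonScalar hcn hc1.symm hc2.symm)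
  -- hence the fourth conjugate is `y`
  have h4 : α * y₃ * α⁻¹ = y := by
    have hc' : α * c * α⁻¹ = c := by
      rw [← mul_comm_of_scalar hcs α, mul_inv_cancel_right]
    have h1 : (α * y₃ * α⁻¹) * (y₂ * y₃) = y₃ * (y * y₂) := by
      calc (α * y₃ * α⁻¹) * (y₂ * y₃) = α * (y₃ * (y * y₂)) * α⁻¹ := by
            rw [hy₃, hy₂]; group
        _ = _ := hc'
    have h2 : y₃ * (y * y₂) = y * (y₂ * y₃) := by
      refine Subtype.ext ?_
      show (y₃ : M2) * ((y : M2) * (y₂ : M2)) = (y : M2) * ((y₂ : M2) * (y₃ : M2))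
      rw [a23, mul_neg, ← Matrix.mul_assoc, ← Matrix.mul_assoc, a13, neg_mul, neg_neg]
    exact mul_right_cancel (h1.trans h2)
  by_contra hp3
  have hcomm3 : Commute (α ^ 3) y := by
    have h : α ^ 3 * y * (α ^ 3)⁻¹ = y := by
      conv_rhs => rw [← h4, hy₃, hy₂]
      rw [show α ^ 3 = α * α * α by rw [pow_succ, pow_two]]
      group
    exact mul_inv_eq_iff_eq_mul.mp h
  have hcop3 : Nat.Coprime 3 (orderOf α) := by
    refine Nat.Coprime.coprime_dvd_right (orderOf_dvd_of_pow_eq_one hα) ?_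
    exact (Nat.coprime_primes Nat.prime_three hp.out).mpr (Ne.symm hp3)
  obtain ⟨m, hm⟩ := exists_pow_eq_self_of_coprime hcop3
  exact not_commute hp2 hαn hα hyn (hcopQ y (hRQ hyR)) (hm ▸ (hcomm3.pow_left m).eq)

end Cfsg.Agent.Lib.PLocal.SLTwoNormalised
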