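import Cfsg.Prelude.Def_PLocal
import Cfsg.Agent.Lib.PGroups.ElemAb
import Mathlib.GroupTheory.PGroup
import Mathlib.GroupTheory.GroupAction.ConjAct

/-!
# Subgroups acting on an abelian subgroup

Owner: helper19. Setting: `V A : Subgroup G` with `V` abelian and `A ≤ N_G(V)`.
* `fixOn V A = C_V(A)` (reducible, so it is `V ⊓ centralizer A` syntactically after unfolding);
* quadratic action; `p`-actions; the intersection lemma for best offenders and Timmesfeld's
  replacement theorem.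
-/

namespace Cfsg.Agent.Lib.PLocal

open Subgroup
open scoped commutatorElement

variable {G : Type*} [Group G] {p : ℕ} {V A B : Subgroup G}

/-- `C_V(A)`. -/
abbrev fixOn (V A : Subgroup G) : Subgroup G := V ⊓ Subgroup.centralizer (A : Set G)

theorem mem_fixOn {v : G} : v ∈ fixOn V A ↔ v ∈ V ∧ ∀ a ∈ A, a * v = v * a := by
  simp [fixOn, Subgroup.mem_centralizer_iff]

theorem fixOn_le : fixOn V A ≤ V := inf_le_left

theorem fixOn_anti (h : B ≤ A) : fixOn V A ≤ fixOn V B :=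
  inf_le_inf_left _ (Subgroup.centralizer_le h)

theorem fixOn_eq_self_iff : fixOn V A = V ↔ A ≤ Subgroup.centralizer (V : Set G) := by
  rw [fixOn, inf_eq_left, Subgroup.le_centralizer_iff]

theorem fixOn_eq_self_iff_commutator : fixOn V A = V ↔ ⁅V, A⁆ = ⊥ := by
  rw [fixOn, inf_eq_left, Subgroup.commutator_eq_bot_iff_le_centralizer]

theorem fixOn_bot : fixOn V (⊥ : Subgroup G) = V := by
  rw [fixOn_eq_self_iff]; exact bot_le

theorem fixOn_sup (V A B : Subgroup G) : fixOn V (A ⊔ B) = fixOn V A ⊓ fixOn V B := by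
  refine le_antisymm (le_inf (fixOn_anti le_sup_left) (fixOn_anti le_sup_right)) ?_
  intro v hv
  refine ⟨hv.1.1, ?_⟩
  have h : A ⊔ B ≤ Subgroup.centralizer {v} := by
    refine sup_le (fun a ha => ?_) fun b hb => ?_
    · rw [Subgroup.mem_centralizer_iff]
      rintro _ rfl
      exact (Subgroup.mem_centralizer_iff.mp hv.1.2 a ha).symm
    · rw [Subgroup.mem_centralizer_iff]
      rintro _ rfl
      exact (Subgroup.mem_centralizer_iff.mp hv.2.2 b hb).symm
  exact Subgroup.mem_centralizer_iff.mpr fun x hx =>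
    (Subgroup.mem_centralizer_iff.mp (h hx) v rfl).symm

/-- Conjugation by something normalising `V` and `A` preserves `C_V(A)`. -/
theorem normalizer_inf_le_normalizer_fixOn :
    Subgroup.normalizer (V : Set G) ⊓ Subgroup.normalizer (A : Set G) ≤
      Subgroup.normalizer (fixOn V A : Set G) := by
  intro g hg
  refine Subgroup.mem_normalizer_iff.mpr fun v => ?_
  have hV : v ∈ V ↔ g * v * g⁻¹ ∈ V := Subgroup.mem_normalizer_iff.mp hg.1 v
  simp only [mem_fixOn]
  refine and_congr hV ⟨fun h a ha => ?_, fun h a ha => ?_⟩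
  · have h2 := h (g⁻¹ * a * g) ((Subgroup.mem_normalizer_iff''.mp hg.2 a).mp ha)
    calc a * (g * v * g⁻¹) = g * ((g⁻¹ * a * g) * v) * g⁻¹ := by group
      _ = g * (v * (g⁻¹ * a * g)) * g⁻¹ := by rw [h2]
      _ = g * v * g⁻¹ * a := by group
  · have h2 := h (g * a * g⁻¹) ((Subgroup.mem_normalizer_iff.mp hg.2 a).mp ha)
    calc a * v = g⁻¹ * ((g * a * g⁻¹) * (g * v * g⁻¹)) * g := by group
      _ = g⁻¹ * ((g * v * g⁻¹) * (g * a * g⁻¹)) * g := by rw [h2]
      _ = v * a := by group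

section Commutator

theorem commutatorElement_mem {v a : G} (ha : a ∈ Subgroup.normalizer (V : Set G)) (hv : v ∈ V) :
    ⁅v, a⁆ ∈ V := by
  rw [commutatorElement_def, mul_assoc v a v⁻¹, mul_assoc v (a * v⁻¹) a⁻¹]
  exact V.mul_mem hv ((Subgroup.mem_normalizer_iff.mp ha v⁻¹).mp (V.inv_mem hv))

theorem commutator_le_self (hA : A ≤ Subgroup.normalizer (V : Set G)) : ⁅V, A⁆ ≤ V :=
  Subgroup.le_normalizer_iff_commutator_le_left.mp hA

theorem conj_eq_commutator_inv_mul (v a : G) : a * v * a⁻¹ = ⁅v, a⁆⁻¹ * v := by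
  rw [commutatorElement_def]; group

theorem commutatorElement_mul_of_comm (hV : IsMulCommutative V) {a x y : G}
    (ha : a ∈ Subgroup.normalizer (V : Set G)) (hx : x ∈ V) (hy : y ∈ V) :
    ⁅x * y, a⁆ = ⁅x, a⁆ * ⁅y, a⁆ := by
  have h1 : ⁅y, a⁆ * x = x * ⁅y, a⁆ :=
    congrArg Subtype.val (hV.is_comm.comm ⟨⁅y, a⁆, commutatorElement_mem ha hy⟩ ⟨x, hx⟩)
  have h2 : ⁅x, a⁆ * ⁅y, a⁆ = ⁅y, a⁆ * ⁅x, a⁆ :=
    congrArg Subtype.val (hV.is_comm.comm ⟨⁅x, a⁆, commutatorElement_mem ha hx⟩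
      ⟨⁅y, a⁆, commutatorElement_mem ha hy⟩)
  calc ⁅x * y, a⁆ = x * ⁅y, a⁆ * x⁻¹ * ⁅x, a⁆ := by simp only [commutatorElement_def]; group
    _ = ⁅y, a⁆ * ⁅x, a⁆ := by rw [← h1]; group
    _ = ⁅x, a⁆ * ⁅y, a⁆ := h2.symm

/-- `v ↦ [v,a]`. -/
def commHom (hV : IsMulCommutative V) (a : G) (ha : a ∈ Subgroup.normalizer (V : Set G)) :
    V →* V where
  toFun v := ⟨⁅(v : G), a⁆, commutatorElement_mem ha v.2⟩
  map_one' := Subtype.ext (commutatorElement_one_left a)
  map_mul' x y := Subtype.ext (commutatorElement_mul_of_comm hV ha x.2 y.2)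

theorem commHom_ker (hV : IsMulCommutative V) {a : G} (ha : a ∈ Subgroup.normalizer (V : Set G)) :
    (commHom hV a ha).ker = (fixOn V (Subgroup.zpowers a)).subgroupOf V := by
  ext v
  simp only [MonoidHom.mem_ker, Subgroup.mem_subgroupOf, mem_fixOn, commHom, MonoidHom.coe_mk,
    OneHom.coe_mk, Subtype.ext_iff, OneMemClass.coe_one, v.2, true_and]
  rw [commutatorElement_eq_one_iff_commute]
  constructor
  · rintro h b ⟨k, rfl⟩
    exact ((show Commute (v : G) a from h).zpow_right k).symm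
  · intro h
    exact (h a (Subgroup.mem_zpowers a)).symm

/-- The range of `v ↦ [v,a]`, as a subgroup of `G`. -/
def commRange (hV : IsMulCommutative V) (a : G) (ha : a ∈ Subgroup.normalizer (V : Set G)) :
    Subgroup G :=
  (commHom hV a ha).range.map V.subtype

theorem mem_commRange (hV : IsMulCommutative V) {a x : G}
    (ha : a ∈ Subgroup.normalizer (V : Set G)) :
    x ∈ commRange hV a ha ↔ ∃ v ∈ V, ⁅v, a⁆ = x := by
  constructor
  · rintro ⟨_, ⟨v, rfl⟩, rfl⟩
    exact ⟨v, v.2, rfl⟩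
  · rintro ⟨v, hv, rfl⟩
    exact ⟨_, ⟨⟨v, hv⟩, rfl⟩, rfl⟩

/-- `|V| = |C_V(a)| |[V,a]|`. -/
theorem card_eq_fix_mul_range (hV : IsMulCommutative V) {a : G}
    (ha : a ∈ Subgroup.normalizer (V : Set G)) :
    Nat.card V = Nat.card (fixOn V (Subgroup.zpowers a)) * Nat.card (commRange hV a ha) := by
  rw [commRange, Subgroup.card_map_of_injective V.subtype_injective,
    Subgroup.card_eq_card_quotient_mul_card_subgroup (commHom hV a ha).ker, mul_comm,
    Nat.card_congr (QuotientGroup.quotientKerEquivRange (commHom hV a ha)).toEquiv, commHom_ker,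
    Nat.card_congr (Subgroup.subgroupOfEquivOfLe (fixOn_le (V := V)
      (A := Subgroup.zpowers a))).toEquiv]

/-- If `[v,a]` is fixed by `a`, then `aⁿ v a⁻ⁿ = [v,a]⁻ⁿ v`. -/
theorem pow_conj_eq {v a : G} (h : a * ⁅v, a⁆ = ⁅v, a⁆ * a) :
    ∀ n : ℕ, a ^ n * v * (a ^ n)⁻¹ = (⁅v, a⁆⁻¹) ^ n * v
  | 0 => by simp
  | n + 1 => by
    have hc : Commute a ((⁅v, a⁆⁻¹) ^ n) := ((show Commute a ⁅v, a⁆ from h).inv_right).pow_right n
    calc a ^ (n + 1) * v * (a ^ (n + 1))⁻¹ = a * (a ^ n * v * (a ^ n)⁻¹) * a⁻¹ := by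
          rw [pow_succ']; group
      _ = (a * (⁅v, a⁆⁻¹) ^ n) * v * a⁻¹ := by rw [pow_conj_eq h n]; group
      _ = (⁅v, a⁆⁻¹) ^ n * (a * v * a⁻¹) := by rw [hc.eq]; group
      _ = _ := by rw [conj_eq_commutator_inv_mul, pow_succ]; group

/-- A stabiliser of a series `V ≥ W ≥ 1` has `p`-th power centralising `V`. -/
theorem pow_mem_centralizer_of_two_step {a : G} {W : Subgroup G}
    (hW : ∀ w ∈ W, w ^ p = 1) (hVW : ∀ v ∈ V, ⁅v, a⁆ ∈ W) (haW : ∀ w ∈ W, a * w = w * a) :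
    a ^ p ∈ Subgroup.centralizer (V : Set G) := by
  refine Subgroup.mem_centralizer_iff.mpr fun v hv => ?_
  have h := pow_conj_eq (haW _ (hVW v hv)) p
  rw [inv_pow, hW _ (hVW v hv), inv_one, one_mul] at h
  calc v * a ^ p = a ^ p * v * (a ^ p)⁻¹ * a ^ p := by rw [h]
    _ = a ^ p * v := by group

/-- The fixed points of `a` meet `[V,a]` in everything for a quadratic element. -/
theorem commRange_le_fix (hV : IsMulCommutative V) {a : G}
    (ha : a ∈ Subgroup.normalizer (V : Set G))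
    (hq : ⁅⁅V, Subgroup.zpowers a⁆, Subgroup.zpowers a⁆ = ⊥) :
    commRange hV a ha ≤ fixOn V (Subgroup.zpowers a) := by
  intro x hx
  obtain ⟨v, hv, rfl⟩ := (mem_commRange hV ha).mp hx
  refine ⟨commutatorElement_mem ha hv, ?_⟩
  exact Subgroup.commutator_eq_bot_iff_le_centralizer.mp hq
    (Subgroup.commutator_mem_commutator hv (Subgroup.mem_zpowers a))

end Commutator

section PAction

/-- The conjugation image of `A` in `Aut V` is a `p`-group. -/
def PActsOn (p : ℕ) (V A : Subgroup G) : Prop :=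
  ∀ a ∈ A, ∃ k : ℕ, a ^ p ^ k ∈ Subgroup.centralizer (V : Set G)

theorem pActsOn_mono {W : Subgroup G} (h : PActsOn p V A) (hBA : B ≤ A) (hW : W ≤ V) :
    PActsOn p W B := fun b hb =>
  (h b (hBA hb)).imp fun _ hk => Subgroup.centralizer_le hW hk

theorem pActsOn_of_isPGroup (hA : IsPGroup p A) : PActsOn p V A := fun a ha => by
  obtain ⟨k, hk⟩ := hA ⟨a, ha⟩
  exact ⟨k, (show a ^ p ^ k = 1 from congrArg Subtype.val hk) ▸ Subgroup.one_mem _⟩

theorem pActsOn_of_bestOffender (h : Cfsg.IsBestOffenderOn p V A) : PActsOn p V A := fun a ha =>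
  ⟨1, by rw [pow_one]; exact h.2.2 a ha⟩

/-- A group acting as a `p`-group on a nontrivial `p`-group fixes a nontrivial element. -/
theorem fixOn_ne_bot [Finite G] [hp : Fact p.Prime] (hA : A ≤ Subgroup.normalizer (V : Set G))
    (h : PActsOn p V A) (hV : IsPGroup p V) (hne : V ≠ ⊥) : fixOn V A ≠ ⊥ := by
  let φ : A →* MulAut V := (Subgroup.normalizerMonoidHom V).comp (Subgroup.inclusion hA)
  have hP : IsPGroup p φ.range := by
    rintro ⟨_, ⟨a, ha⟩, rfl⟩
    obtain ⟨k, hk⟩ := h a ha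
    refine ⟨k, ?_⟩
    apply Subtype.ext
    rw [Subgroup.coe_pow, ← map_pow, Subgroup.coe_one]
    refine MulEquiv.ext fun v => Subtype.ext ?_
    show a ^ p ^ k * (v : G) * (a ^ p ^ k)⁻¹ = v
    rw [← Subgroup.mem_centralizer_iff.mp hk v v.2]
    group
  have : Nontrivial V := (Subgroup.nontrivial_iff_ne_bot V).mpr hne
  obtain ⟨n, hn0, hn⟩ := hV.nontrivial_iff_card.mp this
  have hdvd : p ∣ Nat.card V := hn ▸ dvd_pow_self p (Nat.pos_iff_ne_zero.mp hn0)
  obtain ⟨v, hv, hv1⟩ := hP.exists_fixed_point_of_prime_dvd_card_of_fixed_point V hdvd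
    (a := 1) (fun f => map_one (f : MulAut V))
  intro hbot
  have hmem : (v : G) ∈ fixOn V A := by
    refine mem_fixOn.mpr ⟨v.2, fun a ha => ?_⟩
    have := congrArg Subtype.val (hv ⟨φ ⟨a, ha⟩, ⟨a, ha⟩, rfl⟩)
    change a * (v : G) * a⁻¹ = v at this
    calc a * (v : G) = a * (v : G) * a⁻¹ * a := by group
      _ = (v : G) * a := by rw [this]
  rw [hbot, Subgroup.mem_bot] at hmem
  exact hv1 (Subtype.ext hmem.symm)

theorem fixOn_zpowers_eq_self_of_forall (h : ∀ a ∈ A, fixOn V (Subgroup.zpowers a) = V) :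
    fixOn V A = V := by
  refine le_antisymm fixOn_le fun v hv => mem_fixOn.mpr ⟨hv, fun a ha => ?_⟩
  have := (h a ha).symm ▸ hv
  exact (mem_fixOn.mp this).2 a (Subgroup.mem_zpowers a)

/-- Abelian action: `[[w,b],a] = [[w,a],b]` when `[a,b]` centralises `V`. -/
theorem commutatorElement_swap (hV : IsMulCommutative V) {a b w : G}
    (ha : a ∈ Subgroup.normalizer (V : Set G)) (hb : b ∈ Subgroup.normalizer (V : Set G))
    (hab : ⁅a, b⁆ ∈ Subgroup.centralizer (V : Set G)) (hw : w ∈ V) :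
    ⁅⁅w, b⁆, a⁆ = ⁅⁅w, a⁆, b⁆ := by
  have hconj : a * (b * w * b⁻¹) * a⁻¹ = b * (a * w * a⁻¹) * b⁻¹ := by
    have hba : b * (a * w * a⁻¹) * b⁻¹ ∈ V :=
      (Subgroup.mem_normalizer_iff.mp hb _).mp ((Subgroup.mem_normalizer_iff.mp ha _).mp hw)
    have h1 := Subgroup.mem_centralizer_iff.mp hab _ hba
    calc a * (b * w * b⁻¹) * a⁻¹
        = ⁅a, b⁆ * (b * (a * w * a⁻¹) * b⁻¹) * ⁅a, b⁆⁻¹ := by
          simp only [commutatorElement_def]; group
      _ = (b * (a * w * a⁻¹) * b⁻¹) * ⁅a, b⁆ * ⁅a, b⁆⁻¹ := by rw [h1]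
      _ = _ := by group
  have m1 : a * w * a⁻¹ ∈ V := (Subgroup.mem_normalizer_iff.mp ha w).mp hw
  have m2 : b * w * b⁻¹ ∈ V := (Subgroup.mem_normalizer_iff.mp hb w).mp hw
  have m3 : a * (b * w * b⁻¹) * a⁻¹ ∈ V := (Subgroup.mem_normalizer_iff.mp ha _).mp m2
  -- both sides equal `w (w^b)⁻¹ (w^a)⁻¹ w^(ab)` in the abelian group `V`
  have e1 : ⁅⁅w, b⁆, a⁆ =
      (w * (b * w * b⁻¹)⁻¹) * ((a * w * a⁻¹) * (a * (b * w * b⁻¹) * a⁻¹)⁻¹)⁻¹ := by
    simp only [commutatorElement_def]; group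
  have e2 : ⁅⁅w, a⁆, b⁆ =
      (w * (a * w * a⁻¹)⁻¹) * ((b * w * b⁻¹) * (b * (a * w * a⁻¹) * b⁻¹)⁻¹)⁻¹ := by
    simp only [commutatorElement_def]; group
  rw [e1, e2, ← hconj]
  have key : ∀ x y z u : V, (x * y⁻¹) * (z * u⁻¹)⁻¹ = (x * z⁻¹) * (y * u⁻¹)⁻¹ := by
    intro x y z u
    have c := hV.is_comm.comm
    simp only [mul_inv_rev, inv_inv]
    rw [mul_assoc x, mul_assoc x, c y⁻¹ (u * z⁻¹), c z⁻¹ (u * y⁻¹), mul_assoc u, mul_assoc u,
      c z⁻¹ y⁻¹]
  exact congrArg Subtype.val (key ⟨w, hw⟩ ⟨_, m2⟩ ⟨_, m1⟩ ⟨_, m3⟩)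

theorem eq_bot_of_commutator_eq_self_aux [Finite G] [Fact p.Prime]
    (hVc : IsMulCommutative V) (hVp : IsPGroup p V)
    (hA : A ≤ Subgroup.normalizer (V : Set G)) (h : PActsOn p V A)
    (hab : ⁅A, A⁆ ≤ Subgroup.centralizer (V : Set G)) :
    ∀ (n : ℕ) (W : Subgroup G), W ≤ V → Nat.card W ≤ n → A ≤ Subgroup.normalizer (W : Set G) →
      ⁅W, A⁆ = W → W = ⊥ := by
  intro n
  induction n with
  | zero =>
    intro W _ hn _ _
    exact absurd hn (by have := Nat.card_pos (α := W); omega)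
  | succ n ih =>
    intro W hWV hn hAW hWA
    by_contra hne
    have hWc : IsMulCommutative W :=
      Subgroup.le_centralizer_iff_isMulCommutative.mp ((hWV.trans (Subgroup.le_centralizer_iff_isMulCommutative.mpr hVc)).trans
        (Subgroup.centralizer_le hWV))
    have hWp : IsPGroup p W := hVp.to_le hWV
    -- every element of `A` centralises `W`
    have key : ∀ a ∈ A, fixOn W (Subgroup.zpowers a) = W := by
      intro a ha
      set W' := commRange hWc a (hAW ha) with hW'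
      have hW'le : W' ≤ W := Subgroup.map_subtype_le _
      have hza : Subgroup.zpowers a ≤ A := Subgroup.zpowers_le.mpr ha
      have hfix : fixOn W (Subgroup.zpowers a) ≠ ⊥ :=
        fixOn_ne_bot (hza.trans hAW) (pActsOn_mono h hza hWV) hWp hne
      have hlt : Nat.card W' ≤ n := by
        have h1 := card_eq_fix_mul_range hWc (hAW ha)
        have h2 : 2 ≤ Nat.card (fixOn W (Subgroup.zpowers a)) :=
          (Subgroup.one_lt_card_iff_ne_bot _).mpr hfix
        have h3 : 0 < Nat.card W' := Nat.card_pos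
        rw [← hW'] at h1
        nlinarith
      have hmem : ∀ {x : G}, x ∈ W' ↔ ∃ w ∈ W, ⁅w, a⁆ = x := mem_commRange hWc (hAW ha)
      have hswap : ∀ {b w : G}, b ∈ A → w ∈ W → ⁅⁅w, b⁆, a⁆ = ⁅⁅w, a⁆, b⁆ := fun hb hw =>
        commutatorElement_swap hVc (hA ha) (hA hb)
          (hab (Subgroup.commutator_mem_commutator ha hb)) (hWV hw)
      have hAW' : A ≤ Subgroup.normalizer (W' : Set G) := by
        rw [Subgroup.le_normalizer_iff_commutator_le_left, Subgroup.commutator_le]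
        intro x hx b hb
        obtain ⟨w, hw, rfl⟩ := hmem.mp hx
        exact hmem.mpr ⟨⁅w, b⁆, commutatorElement_mem (hAW hb) hw, hswap hb hw⟩
      have hsub : W' ≤ ⁅W', A⁆ := by
        have hW0 : W ≤ Subgroup.map W.subtype
            (Subgroup.comap (commHom hWc a (hAW ha)) (Subgroup.subgroupOf ⁅W', A⁆ W)) := by
          conv_lhs => rw [← hWA]
          rw [Subgroup.commutator_le]
          intro w hw b hb
          refine ⟨⟨⁅w, b⁆, commutatorElement_mem (hAW hb) hw⟩, ?_, rfl⟩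
          show ⁅⁅w, b⁆, a⁆ ∈ ⁅W', A⁆
          rw [hswap hb hw]
          exact Subgroup.commutator_mem_commutator (hmem.mpr ⟨w, hw, rfl⟩) hb
        intro x hx
        obtain ⟨w, hw, rfl⟩ := hmem.mp hx
        obtain ⟨w', hw', rfl⟩ := hW0 hw
        exact hw'
      have hbot := ih W' (hW'le.trans hWV) hlt hAW'
        (le_antisymm (commutator_le_self hAW') hsub)
      refine Subgroup.eq_of_le_of_card_ge fixOn_le ?_
      have h1 := card_eq_fix_mul_range hWc (hAW ha)
      rw [← hW', hbot, Subgroup.card_bot, mul_one] at h1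
      exact h1.le
    have h2 := fixOn_eq_self_iff_commutator.mp (fixOn_zpowers_eq_self_of_forall key)
    exact hne (hWA ▸ h2)

/-- For an abelian `p`-action, `V = [V,A] C_V(A)` forces `[V,A] = 1`. -/
theorem commutator_eq_bot_of_sup_eq [Finite G] [Fact p.Prime]
    (hVc : IsMulCommutative V) (hVp : IsPGroup p V)
    (hA : A ≤ Subgroup.normalizer (V : Set G)) (h : PActsOn p V A)
    (hab : ⁅A, A⁆ ≤ Subgroup.centralizer (V : Set G)) (hle : V ≤ ⁅V, A⁆ ⊔ fixOn V A) :
    ⁅V, A⁆ = ⊥ := by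
  refine eq_bot_of_commutator_eq_self_aux hVc hVp hA h hab _ ⁅V, A⁆ (commutator_le_self hA) le_rfl
    (Subgroup.normalizer_commutator_ge_right _ _) ?_
  refine le_antisymm (Subgroup.commutator_mono (commutator_le_self hA) le_rfl) ?_
  rw [Subgroup.commutator_le]
  intro v hv b hb
  have hfn : fixOn V A ≤ Subgroup.normalizer ((⁅V, A⁆ : Subgroup G) : Set G) :=
    fixOn_le.trans (Subgroup.normalizer_commutator_ge_left _ _)
  have hv2 : v ∈ ((fixOn V A ⊔ ⁅V, A⁆ : Subgroup G) : Set G) := by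
    rw [sup_comm]; exact hle hv
  rw [Subgroup.coe_mul_of_left_le_normalizer_right _ _ hfn] at hv2
  obtain ⟨y, hy, x, hx, rfl⟩ := hv2
  have hb' := hA hb
  have hy1 : ⁅y, b⁆ = 1 :=
    commutatorElement_eq_one_iff_mul_comm.mpr ((mem_fixOn.mp hy).2 b hb).symm
  rw [commutatorElement_mul_of_comm hVc hb' (fixOn_le hy) (commutator_le_self hA hx), hy1, one_mul]
  exact Subgroup.commutator_mem_commutator hx hb

end PAction

end Cfsg.Agent.Lib.PLocal
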