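import Cfsg.Agent.Lib.PLocal.OffenderBasic
import Cfsg.Agent.Lib.Cores.Subnormal
import Cfsg.Agent.Lib.Cores.Basic
import Cfsg.Agent.S0597

/-!
# Two subnormal subgroups with irreducible commutators

Owner: helper19. If `E = E₁ E₂` is faithful on `V` with trivial `O_p`, the `Eᵢ` are subnormal of
order bigger than two and the `[V, Eᵢ]` are irreducible and incomparable, then `E` decomposes.
-/

set_option autoImplicit false

namespace Cfsg.Agent.Lib.PLocal.SubnormalPair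

open Subgroup
open scoped commutatorElement

variable {G : Type*} [Group G] {p : ℕ}

/-- `E₁` acts irreducibly on `[V, E₁]`. -/
def Irred (V X : Subgroup G) : Prop :=
  ∀ U : Subgroup G, U ≤ ⁅V, X⁆ → X ≤ Subgroup.normalizer (U : Set G) → U = ⊥ ∨ U = ⁅V, X⁆

/-- The hypotheses on the pair. -/
structure Pair (p : ℕ) (V E E₁ E₂ : Subgroup G) : Prop where
  norm : E ≤ Subgroup.normalizer (V : Set G)
  faithful : E ⊓ Subgroup.centralizer (V : Set G) = ⊥
  gen : E = E₁ ⊔ E₂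
  sub₁ : (E₁.subgroupOf E).IsSubnormal
  sub₂ : (E₂.subgroupOf E).IsSubnormal
  core : Cfsg.pCore p ↥E = ⊥
  irr₁ : Irred V E₁
  irr₂ : Irred V E₂
  inc₁₂ : ¬ ⁅V, E₁⁆ ≤ ⁅V, E₂⁆
  inc₂₁ : ¬ ⁅V, E₂⁆ ≤ ⁅V, E₁⁆
  card₁ : 2 < Nat.card E₁
  card₂ : 2 < Nat.card E₂

/-- The conclusion. -/
def Split (V E₁ E₂ : Subgroup G) : Prop :=
  ⁅E₁, E₂⁆ = ⊥ ∧ E₁ ⊓ E₂ = ⊥ ∧ ⁅V, E₁⁆ ⊓ ⁅V, E₂⁆ = ⊥ ∧ ⁅V, E₁ ⊔ E₂⁆ = ⁅V, E₁⁆ ⊔ ⁅V, E₂⁆

variable {V E E₁ E₂ : Subgroup G}

theorem Pair.le₁ (h : Pair p V E E₁ E₂) : E₁ ≤ E := h.gen ▸ le_sup_left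

theorem Pair.le₂ (h : Pair p V E E₁ E₂) : E₂ ≤ E := h.gen ▸ le_sup_right

theorem Pair.symm (h : Pair p V E E₁ E₂) : Pair p V E E₂ E₁ :=
  ⟨h.norm, h.faithful, h.gen.trans (sup_comm _ _), h.sub₂, h.sub₁, h.core, h.irr₂, h.irr₁,
    h.inc₂₁, h.inc₁₂, h.card₂, h.card₁⟩

theorem pCore_eq_bot_of_subnormal [Finite G] (hE : Cfsg.pCore p ↥E = ⊥) {K : Subgroup G}
    (hKE : K ≤ E) (hK : (K.subgroupOf E).IsSubnormal) : Cfsg.pCore p ↥K = ⊥ := by
  have h1 : (Cfsg.pCore p ↥(K.subgroupOf E)).map (K.subgroupOf E).subtype ≤ Cfsg.pCore p ↥E :=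
    Cores.IsSubnormal.le_pCore
      ((inferInstance : (Cfsg.pCore p ↥(K.subgroupOf E)).Normal).isSubnormal.trans' hK)
      ((Cores.pCore_isPGroup p).map _)
  rw [hE, le_bot_iff, Subgroup.map_eq_bot_iff_of_injective _ (Subgroup.subtype_injective _)] at h1
  rw [← Cores.map_pCore_equiv (Subgroup.subgroupOfEquivOfLe hKE), h1, Subgroup.map_bot]

theorem subnormal_conj {X : Subgroup G} (hXE : X ≤ E) (hX : (X.subgroupOf E).IsSubnormal) {g : G}
    (hg : g ∈ E) : ((X.map (MulAut.conj g).toMonoidHom).subgroupOf E).IsSubnormal := by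
  have h := hX.map (f := (MulAut.conj (⟨g, hg⟩ : E)).toMonoidHom)
    (MulEquiv.surjective (MulAut.conj (⟨g, hg⟩ : E)))
  convert h using 1
  refine Subgroup.map_injective E.subtype_injective ?_
  have hle : X.map (MulAut.conj g).toMonoidHom ≤ E := by
    rintro _ ⟨x, hx, rfl⟩
    exact E.mul_mem (E.mul_mem hg (hXE hx)) (E.inv_mem hg)
  rw [Subgroup.map_subgroupOf_eq_of_le hle, Subgroup.map_map,
    show E.subtype.comp (MulAut.conj (⟨g, hg⟩ : E)).toMonoidHom =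
      (MulAut.conj g).toMonoidHom.comp E.subtype from rfl,
    ← Subgroup.map_map, Subgroup.map_subgroupOf_eq_of_le hXE]

theorem irred_conj [Finite G] {X : Subgroup G} (h : Irred V X) {g : G}
    (hg : g ∈ Subgroup.normalizer (V : Set G)) :
    Irred V (X.map (MulAut.conj g).toMonoidHom) := by
  intro U hU hN
  rw [commutator_conj hg] at hU ⊢
  have hU' : U.map (MulAut.conj g⁻¹).toMonoidHom ≤ ⁅V, X⁆ := by
    rintro _ ⟨u, hu, rfl⟩
    obtain ⟨w, hw, rfl⟩ := hU hu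
    simpa [mul_assoc] using hw
  have hN' : X ≤ Subgroup.normalizer ((U.map (MulAut.conj g⁻¹).toMonoidHom : Subgroup G) : Set G) := by
    intro x hx
    refine Subgroup.le_normalizer_map _ ⟨g * x * g⁻¹, hN ⟨x, hx, rfl⟩, ?_⟩
    simp [mul_assoc]
  have hback : (U.map (MulAut.conj g⁻¹).toMonoidHom).map (MulAut.conj g).toMonoidHom = U := by
    rw [Subgroup.map_map]
    convert Subgroup.map_id U using 2
    ext y
    simp [mul_assoc]
  rcases h _ hU' hN' with h1 | h1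
  · left; rw [← hback, h1, Subgroup.map_bot]
  · right; rw [← hback, h1]

/-- `E₂` is contained in a proper normal subgroup together with its conjugates. -/
theorem card_sup_conj_lt [Finite G] (h : Pair p V E E₁ E₂) {g : G} (hg : g ∈ E) :
    Nat.card (E₂ ⊔ E₂.map (MulAut.conj g).toMonoidHom : Subgroup G) < Nat.card E := by
  have hne : E₂.subgroupOf E ≠ ⊤ := fun htop => h.inc₁₂ (Subgroup.commutator_mono le_rfl
    (h.le₁.trans (Subgroup.subgroupOf_eq_top.mp htop)))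
  obtain ⟨M, hM, hEM, hMt⟩ := (h.sub₂.lt_normal).resolve_left hne
  set E' := E₂ ⊔ E₂.map (MulAut.conj g).toMonoidHom with hE'
  have hle : E' ≤ M.map E.subtype := by
    refine sup_le (fun x hx => ⟨⟨x, h.le₂ hx⟩, hEM hx, rfl⟩) ?_
    rintro _ ⟨x, hx, rfl⟩
    exact ⟨⟨g, hg⟩ * ⟨x, h.le₂ hx⟩ * ⟨g, hg⟩⁻¹, hM.conj_mem _ (hEM hx) _, rfl⟩
  refine lt_of_le_of_lt (Subgroup.card_le_of_le hle) ?_
  rw [Subgroup.card_map_of_injective E.subtype_injective]
  exact lt_of_lt_of_le (Cores.Subnormal.card_lt_of_ne_top hMt.ne) le_rfl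

theorem pair_conj [Finite G] (h : Pair p V E E₁ E₂) {g : G} (hg : g ∈ E)
    (hne : (⁅V, E₂⁆ : Subgroup G).map (MulAut.conj g).toMonoidHom ≠ ⁅V, E₂⁆) :
    Pair p V (E₂ ⊔ E₂.map (MulAut.conj g).toMonoidHom) E₂ (E₂.map (MulAut.conj g).toMonoidHom) := by
  set E₃ := E₂.map (MulAut.conj g).toMonoidHom with hE₃
  have h3E : E₃ ≤ E := by
    rintro _ ⟨x, hx, rfl⟩
    exact E.mul_mem (E.mul_mem hg (h.le₂ hx)) (E.inv_mem hg)
  have hle : E₂ ⊔ E₃ ≤ E := sup_le h.le₂ h3E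
  have hsn : ((E₂ ⊔ E₃).subgroupOf E).IsSubnormal := by
    rw [Subgroup.subgroupOf_sup h.le₂ h3E]
    exact Cores.Subnormal.sup h.sub₂ (subnormal_conj h.le₂ h.sub₂ hg)
  have hgV := h.norm hg
  have hcard : Nat.card (⁅V, E₃⁆ : Subgroup G) = Nat.card (⁅V, E₂⁆ : Subgroup G) := by
    rw [hE₃, commutator_conj hgV, Subgroup.card_map_of_injective (MulAut.conj g).injective]
  refine ⟨hle.trans h.norm, le_bot_iff.mp ((inf_le_inf_right _ hle).trans h.faithful.le), rfl,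
    h.sub₂.comap (Subgroup.inclusion hle), (subnormal_conj h.le₂ h.sub₂ hg).comap
    (Subgroup.inclusion hle), pCore_eq_bot_of_subnormal h.core hle hsn, h.irr₂,
    irred_conj h.irr₂ hgV, fun h1 => hne ?_, fun h1 => hne ?_, h.card₂, ?_⟩
  · rw [← commutator_conj hgV]
    exact (Subgroup.eq_of_le_of_card_ge h1 hcard.le).symm
  · rw [← commutator_conj hgV]
    exact Subgroup.eq_of_le_of_card_ge h1 hcard.ge
  · rw [hE₃, Subgroup.card_map_of_injective (MulAut.conj g).injective]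
    exact h.card₂

/-- From the inductive hypothesis: a moved `[V,E₂]` is centralised by `E₂` and meets it trivially. -/
theorem moved [Finite G] (h : Pair p V E E₁ E₂) {g : G} (hg : g ∈ E)
    (hne : (⁅V, E₂⁆ : Subgroup G).map (MulAut.conj g).toMonoidHom ≠ ⁅V, E₂⁆)
    (ih : ∀ E' F₁ F₂ : Subgroup G, Nat.card E' < Nat.card E → Pair p V E' F₁ F₂ → Split V F₁ F₂) :
    E₂ ≤ Subgroup.centralizer
        (((⁅V, E₂⁆ : Subgroup G).map (MulAut.conj g).toMonoidHom : Subgroup G) : Set G) ∧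
      ⁅V, E₂⁆ ⊓ (⁅V, E₂⁆ : Subgroup G).map (MulAut.conj g).toMonoidHom = ⊥ := by
  obtain ⟨hc, -, hi, -⟩ := ih _ _ _ (card_sup_conj_lt h hg) (pair_conj h hg hne)
  have hgV := h.norm hg
  rw [commutator_conj hgV] at hi
  refine ⟨fun f hf => ?_, hi⟩
  rw [Subgroup.mem_centralizer_iff]
  rw [← commutator_conj hgV]
  intro w hw
  have h2V := h.le₂.trans h.norm
  have hfV := h2V hf
  have hf3 : f ∈ Subgroup.normalizer ((E₂.map (MulAut.conj g).toMonoidHom : Subgroup G) : Set G) :=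
    Subgroup.centralizer_le_normalizer _
      (Subgroup.commutator_eq_bot_iff_le_centralizer.mp hc hf)
  have hfW : f ∈ Subgroup.normalizer
      ((⁅V, E₂.map (MulAut.conj g).toMonoidHom⁆ : Subgroup G) : Set G) :=
    Subgroup.mem_normalizer_iff_map_conj_eq.mpr (by
      show (⁅V, E₂.map (MulAut.conj g).toMonoidHom⁆ : Subgroup G).map
        (MulAut.conj f).toMonoidHom = _
      rw [Subgroup.map_commutator, map_conj_self hfV, map_conj_self hf3])
  have hgE₃ : E₂.map (MulAut.conj g).toMonoidHom ≤ E := by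
    rintro _ ⟨x, hx, rfl⟩
    exact E.mul_mem (E.mul_mem hg (h.le₂ hx)) (E.inv_mem hg)
  have hwV : w ∈ V := commutator_le_self (hgE₃.trans h.norm) hw
  have h1 : ⁅w, f⁆ ∈ ⁅V, E₂⁆ := Subgroup.commutator_mem_commutator hwV hf
  have h2 : ⁅w, f⁆ ∈ ⁅V, E₂.map (MulAut.conj g).toMonoidHom⁆ := by
    rw [commutatorElement_def, mul_assoc w f w⁻¹, mul_assoc w (f * w⁻¹) f⁻¹]
    exact Subgroup.mul_mem _ hw
      ((Subgroup.mem_normalizer_iff.mp hfW _).mp (Subgroup.inv_mem _ hw))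
  rw [commutator_conj hgV] at h2
  have h3 : ⁅w, f⁆ ∈ (⊥ : Subgroup G) := hi.le ⟨h1, h2⟩
  exact commutatorElement_eq_one_iff_mul_comm.mp (Subgroup.mem_bot.mp h3)

theorem centralizer_inf_eq_bot [Finite G] [Fact p.Prime] (hV : Cfsg.IsElementaryAbelian p V)
    (h : Pair p V E E₁ E₂) : E₂ ⊓ Subgroup.centralizer ((⁅V, E₂⁆ : Subgroup G) : Set G) = ⊥ := by
  set P := E₂ ⊓ Subgroup.centralizer ((⁅V, E₂⁆ : Subgroup G) : Set G) with hP
  have hPp : IsPGroup p P := by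
    intro a
    refine ⟨1, Subtype.ext ?_⟩
    have h1 := pow_mem_centralizer_of_two_step (V := V) (W := ⁅V, E₂⁆) (a := (a : G))
      (fun w hw => hV.2 w (commutator_le_self (h.le₂.trans h.norm) hw))
      (fun v hv => Subgroup.commutator_mem_commutator hv a.2.1)
      (fun w hw => (Subgroup.mem_centralizer_iff.mp a.2.2 w hw).symm)
    have h2 : (a : G) ^ p ∈ E ⊓ Subgroup.centralizer (V : Set G) :=
      ⟨E.pow_mem (h.le₂ a.2.1) p, h1⟩
    rw [h.faithful, Subgroup.mem_bot] at h2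
    simpa using h2
  have hn : E₂ ≤ Subgroup.normalizer (P : Set G) := by
    intro g hg
    refine Subgroup.mem_normalizer_fintype (S := (P : Set G)) fun x hx => ?_
    refine ⟨E₂.mul_mem (E₂.mul_mem hg hx.1) (E₂.inv_mem hg), Subgroup.mem_centralizer_iff.mpr ?_⟩
    intro w hw
    have hw' := (Subgroup.mem_normalizer_iff''.mp
      (Subgroup.normalizer_commutator_ge_right V E₂ hg) w).mp hw
    have h3 := Subgroup.mem_centralizer_iff.mp hx.2 _ hw'
    calc w * (g * x * g⁻¹) = g * ((g⁻¹ * w * g) * x) * g⁻¹ := by group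
      _ = g * (x * (g⁻¹ * w * g)) * g⁻¹ := by rw [h3]
      _ = g * x * g⁻¹ * w := by group
  have hPn : (P.subgroupOf E).IsSubnormal := by
    have hle : P.subgroupOf E ≤ E₂.subgroupOf E := fun x hx => hx.1
    refine Subgroup.IsSubnormal.step _ _ hle h.sub₂ ?_
    refine (Subgroup.normal_subgroupOf_iff_le_normalizer hle).mpr fun x hx => ?_
    rw [Subgroup.mem_normalizer_iff]
    exact fun y => Subgroup.mem_normalizer_iff.mp (hn hx) y
  have h4 := Cores.IsSubnormal.le_pCore hPn hPp.comap_subtype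
  rw [h.core] at h4
  rw [eq_bot_iff]
  intro x hx
  exact Subgroup.mem_bot.mpr (congrArg Subtype.val
    (Subgroup.mem_bot.mp (h4 (show (⟨x, h.le₂ hx.1⟩ : E) ∈ P.subgroupOf E from hx))))

/-- `E₁` normalises `[V, E₂]`. -/
theorem le_normalizer [Finite G] [Fact p.Prime] (hV : Cfsg.IsElementaryAbelian p V)
    (h : Pair p V E E₁ E₂)
    (ih : ∀ E' F₁ F₂ : Subgroup G, Nat.card E' < Nat.card E → Pair p V E' F₁ F₂ → Split V F₁ F₂) :
    E₁ ≤ Subgroup.normalizer ((⁅V, E₂⁆ : Subgroup G) : Set G) := by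
  intro e he
  by_contra hne
  set W₁ := ⁅V, E₁⁆ with hW₁
  set W₂ := ⁅V, E₂⁆ with hW₂
  have hne' : W₂.map (MulAut.conj e).toMonoidHom ≠ W₂ := fun h' =>
    hne (Subgroup.mem_normalizer_iff_map_conj_eq.mpr h')
  obtain ⟨hfix, hinf⟩ := moved h (h.le₁ he) hne' ih
  have hW₂V : W₂ ≤ V := commutator_le_self (h.le₂.trans h.norm)
  have hN2 : E₂ ≤ Subgroup.normalizer (W₂ : Set G) := Subgroup.normalizer_commutator_ge_right V E₂
  have heq : ∀ {w : G}, w ∈ W₂ → e * w * e⁻¹ = w → w = 1 := by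
    intro w hw he'
    have : w ∈ W₂ ⊓ W₂.map (MulAut.conj e).toMonoidHom := ⟨hw, w, hw, he'⟩
    rwa [hinf, Subgroup.mem_bot] at this
  -- a moved `[V,E₁]` is centralised by `e`
  have hout : ∀ f ∈ E₂, f ∉ Subgroup.normalizer (W₁ : Set G) → ∀ u ∈ W₁,
      e * (f * u * f⁻¹) * e⁻¹ = f * u * f⁻¹ := by
    intro f hf hfn u hu
    have h1 := (moved h.symm (h.le₂ hf) (fun h' =>
      hfn (Subgroup.mem_normalizer_iff_map_conj_eq.mpr h')) ih).1 he
    have h2 : f * u * f⁻¹ * e = e * (f * u * f⁻¹) :=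
      Subgroup.mem_centralizer_iff.mp h1 _ ⟨u, hu, rfl⟩
    rw [← h2, mul_inv_cancel_right]
  have hX : W₁ ⊓ W₂ = ⊥ := by
    by_cases hall : E₂ ≤ Subgroup.normalizer (W₁ : Set G)
    · rcases h.irr₂ (W₁ ⊓ W₂) inf_le_right
        ((le_inf hall hN2).trans (fun x hx => Subgroup.mem_normalizer_iff.mpr fun y => and_congr
          (Subgroup.mem_normalizer_iff.mp hx.1 y) (Subgroup.mem_normalizer_iff.mp hx.2 y))) with h1 | h1
      · exact h1
      · exact absurd (h1.ge.trans inf_le_left) h.inc₂₁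
    · obtain ⟨f, hf, hfn⟩ := SetLike.not_le_iff_exists.mp hall
      rw [eq_bot_iff]
      intro x hx
      have hmem : f * x * f⁻¹ ∈ W₂ := (Subgroup.mem_normalizer_iff.mp (hN2 hf) x).mp hx.2
      have h1 := heq hmem (hout f hf hfn x hx.1)
      rw [Subgroup.mem_bot]
      calc x = f⁻¹ * (f * x * f⁻¹) * f := by group
        _ = 1 := by rw [h1]; group
  have hu : ∀ w ∈ W₂, e * w * e⁻¹ * w⁻¹ ∈ W₁ := fun w hw => by
    rw [hW₁, Subgroup.commutator_comm, ← commutatorElement_def]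
    exact Subgroup.commutator_mem_commutator he (hW₂V hw)
  have hfu : ∀ f ∈ E₂, ∀ w ∈ W₂,
      f * (e * w * e⁻¹ * w⁻¹) * f⁻¹ = e * w * e⁻¹ * (f * w * f⁻¹)⁻¹ := by
    intro f hf w hw
    have h1 := Subgroup.mem_centralizer_iff.mp (hfix hf) _ ⟨w, hw, rfl⟩
    calc f * (e * w * e⁻¹ * w⁻¹) * f⁻¹ = (f * (MulAut.conj e).toMonoidHom w) * (w⁻¹ * f⁻¹) := by
          simp [mul_assoc]
      _ = ((MulAut.conj e).toMonoidHom w * f) * (w⁻¹ * f⁻¹) := by rw [h1]
      _ = e * w * e⁻¹ * (f * w * f⁻¹)⁻¹ := by simp [mul_assoc]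
  have hcomm : ∀ x ∈ V, ∀ y ∈ V, x * y = y * x := fun x hx y hy =>
    congrArg Subtype.val (hV.1.is_comm.comm ⟨x, hx⟩ ⟨y, hy⟩)
  have hone : ∀ f ∈ E₂, (∀ w ∈ W₂, f * w * f⁻¹ = w) → f = 1 := by
    intro f hf hfw
    have h1 : f ∈ E₂ ⊓ Subgroup.centralizer (W₂ : Set G) :=
      ⟨hf, Subgroup.mem_centralizer_iff.mpr fun w hw => by
        conv_lhs => rw [← hfw w hw]
        group⟩
    rwa [centralizer_inf_eq_bot hV h, Subgroup.mem_bot] at h1
  -- elements of `E₂` normalising `W₁` are trivial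
  have hin : ∀ f ∈ E₂, f ∈ Subgroup.normalizer (W₁ : Set G) → f = 1 := by
    intro f hf hfn
    refine hone f hf fun w hw => ?_
    have hfw : f * w * f⁻¹ ∈ W₂ := (Subgroup.mem_normalizer_iff.mp (hN2 hf) w).mp hw
    have h1 : w * (f * w * f⁻¹)⁻¹ ∈ W₁ := by
      have h2 := W₁.mul_mem (W₁.inv_mem (hu w hw))
        ((Subgroup.mem_normalizer_iff.mp hfn _).mp (hu w hw))
      rw [hfu f hf w hw] at h2
      convert h2 using 1
      group
    have h3 : w * (f * w * f⁻¹)⁻¹ ∈ W₁ ⊓ W₂ := ⟨h1, W₂.mul_mem hw (W₂.inv_mem hfw)⟩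
    rw [hX, Subgroup.mem_bot, mul_inv_eq_one] at h3
    exact h3.symm
  have huniq : ∀ f ∈ E₂, ∀ f' ∈ E₂, f ≠ 1 → f' ≠ 1 → f = f' := by
    intro f hf f' hf' h1 h1'
    suffices f⁻¹ * f' = 1 from inv_mul_eq_one.mp this
    refine hone _ (E₂.mul_mem (E₂.inv_mem hf) hf') fun w hw => ?_
    have hA : e * w * e⁻¹ ∈ V :=
      (Subgroup.mem_normalizer_iff.mp (h.norm (h.le₁ he)) w).mp (hW₂V hw)
    have hB : f * w * f⁻¹ ∈ W₂ := (Subgroup.mem_normalizer_iff.mp (hN2 hf) w).mp hw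
    have hB' : f' * w * f'⁻¹ ∈ W₂ := (Subgroup.mem_normalizer_iff.mp (hN2 hf') w).mp hw
    have e1 := hout f hf (fun hn => h1 (hin f hf hn)) _ (hu w hw)
    have e2 := hout f' hf' (fun hn => h1' (hin f' hf' hn)) _ (hu w hw)
    rw [hfu f hf w hw] at e1
    rw [hfu f' hf' w hw] at e2
    generalize hAdef : e * w * e⁻¹ = A at e1 e2 hA
    generalize hBdef : f * w * f⁻¹ = B at e1 hB
    generalize hB'def : f' * w * f'⁻¹ = B' at e2 hB'
    have hd : e * (B * B'⁻¹) * e⁻¹ = B * B'⁻¹ := by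
      calc e * (B * B'⁻¹) * e⁻¹ = (e * (A * B⁻¹) * e⁻¹)⁻¹ * (e * (A * B'⁻¹) * e⁻¹) := by group
        _ = B * B'⁻¹ := by rw [e1, e2]; group
    have hBB := mul_inv_eq_one.mp (heq (W₂.mul_mem hB (W₂.inv_mem hB')) hd)
    calc f⁻¹ * f' * w * (f⁻¹ * f')⁻¹ = f⁻¹ * (f' * w * f'⁻¹) * f := by group
      _ = w := by rw [hB'def, ← hBB, ← hBdef]; group
  have hsmall : Nat.card E₂ ≤ 2 := by
    classical
    haveI := Fintype.ofFinite E₂
    rw [Nat.card_eq_fintype_card]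
    by_contra hlt
    obtain ⟨a, b, c, hab, hac, hbc⟩ := Fintype.two_lt_card_iff.mp (not_le.mp hlt)
    have key : ∀ x y : E₂, x ≠ 1 → y ≠ 1 → x = y := fun x y hx hy =>
      Subtype.ext (huniq x x.2 y y.2 (fun h' => hx (Subtype.ext h')) (fun h' => hy (Subtype.ext h')))
    by_cases ha : a = 1
    · exact hbc (key b c (fun h' => hab (ha.trans h'.symm)) (fun h' => hac (ha.trans h'.symm)))
    · by_cases hb : b = 1
      · exact hac (key a c ha (fun h' => hbc (hb.trans h'.symm)))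
      · exact hab (key a b ha hb)
  exact absurd h.card₂ (not_lt.mpr hsmall)

/-- The splitting theorem. -/
theorem split [Finite G] [Fact p.Prime] (hV : Cfsg.IsElementaryAbelian p V) :
    ∀ (E E₁ E₂ : Subgroup G), Pair p V E E₁ E₂ → Split V E₁ E₂ := by
  suffices ∀ (n : ℕ) (E E₁ E₂ : Subgroup G), Nat.card E = n → Pair p V E E₁ E₂ → Split V E₁ E₂ from
    fun E E₁ E₂ h => this _ E E₁ E₂ rfl h
  intro n
  induction n using Nat.strong_induction_on with
  | _ n ih =>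
  intro E E₁ E₂ hn h
  have ih' : ∀ E' F₁ F₂ : Subgroup G, Nat.card E' < Nat.card E → Pair p V E' F₁ F₂ → Split V F₁ F₂ :=
    fun E' F₁ F₂ hlt hP => ih _ (hn ▸ hlt) E' F₁ F₂ rfl hP
  have h12 := le_normalizer hV h ih'
  have h21 := le_normalizer hV h.symm ih'
  set W₁ := ⁅V, E₁⁆ with hW₁
  set W₂ := ⁅V, E₂⁆ with hW₂
  have h1V := h.le₁.trans h.norm
  have h2V := h.le₂.trans h.norm
  have hn1 : E₁ ≤ Subgroup.normalizer (W₁ : Set G) := Subgroup.normalizer_commutator_ge_right V E₁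
  have hn2 : E₂ ≤ Subgroup.normalizer (W₂ : Set G) := Subgroup.normalizer_commutator_ge_right V E₂
  have hX : W₁ ⊓ W₂ = ⊥ := by
    rcases h.irr₁ (W₁ ⊓ W₂) inf_le_left
      ((le_inf hn1 h12).trans (fun x hx => Subgroup.mem_normalizer_iff.mpr fun y => and_congr
        (Subgroup.mem_normalizer_iff.mp hx.1 y) (Subgroup.mem_normalizer_iff.mp hx.2 y))) with h1 | h1
    · exact h1
    · exact absurd (h1.ge.trans inf_le_right) h.inc₁₂
  have hc1 : ⁅W₁, E₂⁆ = ⊥ := le_bot_iff.mp (hX ▸ le_inf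
    (Subgroup.le_normalizer_iff_commutator_le_left.mp h21)
    (Subgroup.commutator_mono (commutator_le_self h1V) le_rfl))
  have hc2 : ⁅W₂, E₁⁆ = ⊥ := le_bot_iff.mp (hX ▸ le_inf
    (Subgroup.commutator_mono (commutator_le_self h2V) le_rfl)
    (Subgroup.le_normalizer_iff_commutator_le_left.mp h12))
  have hE12 : ⁅E₁, E₂⁆ = ⊥ := by
    have := Cfsg.Agent.S0597.result V E hV h.norm h.faithful E₁ E₂ h.le₁ h.le₂ h.sub₁ h.sub₂ hc1
    rwa [h.core, Subgroup.map_bot, le_bot_iff] at this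
  refine ⟨hE12, ?_, hX, ?_⟩
  · rw [eq_bot_iff]
    intro x hx
    have hx' : x ∈ E ⊓ Subgroup.centralizer (V : Set G) := by
      refine ⟨h.le₁ hx.1, Subgroup.mem_centralizer_iff.mpr fun v hv => ?_⟩
      have h3 : ⁅v, x⁆ ∈ (⊥ : Subgroup G) := hX.le
        ⟨Subgroup.commutator_mem_commutator hv hx.1, Subgroup.commutator_mem_commutator hv hx.2⟩
      exact commutatorElement_eq_one_iff_mul_comm.mp (Subgroup.mem_bot.mp h3)
    rwa [h.faithful] at hx'
  · refine le_antisymm ?_ (sup_le (Subgroup.commutator_mono le_rfl le_sup_left)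
      (Subgroup.commutator_mono le_rfl le_sup_right))
    rw [Subgroup.commutator_le]
    intro v hv g hg
    have hg' : g ∈ ((E₁ ⊔ E₂ : Subgroup G) : Set G) := hg
    rw [Subgroup.coe_mul_of_left_le_normalizer_right _ _
      ((Subgroup.commutator_eq_bot_iff_le_centralizer.mp hE12).trans
        (Subgroup.centralizer_le_normalizer _))] at hg'
    obtain ⟨a, ha, b, hb, rfl⟩ := hg'
    have e1 := Subgroup.mem_centralizer_iff.mp
      (Subgroup.commutator_eq_bot_iff_le_centralizer.mp hc2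
        (Subgroup.commutator_mem_commutator hv hb)) a ha
    have e : ⁅v, a * b⁆ = ⁅v, a⁆ * ⁅v, b⁆ := by
      calc ⁅v, a * b⁆ = ⁅v, a⁆ * ((a * ⁅v, b⁆) * a⁻¹) := by
            simp only [commutatorElement_def]; group
        _ = ⁅v, a⁆ * ⁅v, b⁆ := by rw [e1]; group
    show ⁅v, a * b⁆ ∈ _
    rw [e]
    exact Subgroup.mul_mem_sup (Subgroup.commutator_mem_commutator hv ha)
      (Subgroup.commutator_mem_commutator hv hb)

end Cfsg.Agent.Lib.PLocal.SubnormalPair
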