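import Cfsg.Agent.Lib.PLocal.CoprimeOperator
import Cfsg.Agent.Lib.PLocal.ActionQuotient
import Cfsg.Agent.Lib.PLocal.SubnormalPair
import Cfsg.Agent.Lib.Coprime.Glauberman

/-!
# Coprime operators on a group in which the Thompson factorization fails

Owner: helper19. `X` normalises `K`; everything is pushed into `V ⋊ (N/C_N(V))` for `N = N(K)` and
`V` generated by the `Ω₁(Z(S))` of `K`.
-/

set_option autoImplicit false

namespace Cfsg.Agent.Lib.PLocal

open Subgroup

variable {G : Type*} [Group G] [Finite G] {p q : ℕ} [hp : Fact p.Prime] [hq : Fact q.Prime]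
  {K X : Subgroup G}

/-- A characteristic subgroup of `K` is normal in `N(K)`. -/
theorem map_inclusion_normalizer_normal (A : Subgroup K) [hA : A.Characteristic] :
    (A.map (Subgroup.inclusion (Subgroup.le_normalizer : K ≤ Subgroup.normalizer (K : Set G)))).Normal := by
  refine ⟨?_⟩
  rintro _ ⟨a, ha, rfl⟩ n
  exact ⟨Subgroup.normalizerMonoidHom K n a,
    (Subgroup.characteristic_iff_map_le.mp hA _) ⟨a, ha, rfl⟩, Subtype.ext rfl⟩

omit hp in
/-- Whatever normalises `H` normalises its characteristic subgroups. -/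
theorem normalizer_le_normalizer_map_char {H : Subgroup G} (A : Subgroup H) [hA : A.Characteristic] :
    Subgroup.normalizer (H : Set G) ≤ Subgroup.normalizer ((A.map H.subtype : Subgroup G) : Set G) := by
  intro g hg
  refine Subgroup.mem_normalizer_fintype ?_
  rintro _ ⟨a, ha, rfl⟩
  exact ⟨Subgroup.normalizerMonoidHom H ⟨g, hg⟩ a,
    (Subgroup.characteristic_iff_map_le.mp hA _) ⟨a, ha, rfl⟩, rfl⟩

variable (p K)

/-- `V`, inside `N(K)`. -/
def opV : Subgroup ↥(Subgroup.normalizer (K : Set G)) :=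
  (omegaCenterSup p ↥K).map (Subgroup.inclusion Subgroup.le_normalizer)

instance opV_normal : (opV p K).Normal :=
  have := omegaCenterSup_characteristic (p := p) (G := ↥K)
  map_inclusion_normalizer_normal (omegaCenterSup p ↥K)

/-- `K` acting on `V`. -/
def opHom : ↥K →* actGroup (opV p K) :=
  (actHom (opV p K)).comp (Subgroup.inclusion Subgroup.le_normalizer)

/-- The image of `J(K)`. -/
def opH : Subgroup (actGroup (opV p K)) := (Cfsg.thompsonSubgroup p ↥K).map (opHom p K)

/-- The `p'`-core of the image of `J(K)`. -/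
def opQ : Subgroup (actGroup (opV p K)) :=
  (Cfsg.pPrimeCore p ↥(opH p K)).map (opH p K).subtype

/-- The image of the operator group. -/
def opY (X : Subgroup G) : Subgroup (actGroup (opV p K)) :=
  (X.subgroupOf (Subgroup.normalizer (K : Set G))).map (actHom (opV p K))

variable {p K}

theorem opHom_eq_one_iff {k : ↥K} :
    opHom p K k = 1 ↔ k ∈ Subgroup.centralizer ((omegaCenterSup p ↥K : Subgroup ↥K) : Set ↥K) := by
  rw [opHom, MonoidHom.comp_apply, actHom_eq_one_iff, Subgroup.mem_centralizer_iff,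
    Subgroup.mem_centralizer_iff]
  constructor
  · intro h v hv
    refine Subgroup.inclusion_injective (Subgroup.le_normalizer (H := K)) ?_
    rw [map_mul, map_mul]
    exact h _ ⟨v, hv, rfl⟩
  · rintro h _ ⟨v, hv, rfl⟩
    rw [← map_mul, ← map_mul, h v hv]

theorem opHom_ker :
    (opHom p K).ker = Subgroup.centralizer ((omegaCenterSup p ↥K : Subgroup ↥K) : Set ↥K) := by
  ext k
  exact opHom_eq_one_iff

/-- Conjugation by `N(K)` commutes with the map to the action group. -/
theorem opHom_conj {n : G} (hn : n ∈ Subgroup.normalizer (K : Set G)) (k : ↥K) :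
    opHom p K (Subgroup.normalizerMonoidHom K ⟨n, hn⟩ k) =
      actHom (opV p K) ⟨n, hn⟩ * opHom p K k * (actHom (opV p K) ⟨n, hn⟩)⁻¹ := by
  rw [← map_inv, opHom, MonoidHom.comp_apply, MonoidHom.comp_apply, ← map_mul, ← map_mul]
  rfl

theorem opH_le_actH : opH p K ≤ actH (opV p K) := by
  rintro _ ⟨k, -, rfl⟩
  exact (actHom_range (opV p K)).le ⟨_, rfl⟩

theorem opY_le_normalizer_opH (hXK : X ≤ Subgroup.normalizer (K : Set G)) :
    opY p K X ≤ Subgroup.normalizer (opH p K : Set (actGroup (opV p K))) := by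
  rintro _ ⟨n, -, rfl⟩
  refine Subgroup.mem_normalizer_fintype ?_
  rintro _ ⟨k, hk, rfl⟩
  refine ⟨Subgroup.normalizerMonoidHom K n k, ?_, opHom_conj n.2 k⟩
  have := PGroups.thompsonSubgroup_characteristic (p := p) (G := ↥K)
  exact Subgroup.characteristic_iff_map_le.mp this _ ⟨k, hk, rfl⟩

/-- The operator setup attached to a failure of factorization. -/
theorem operatorSetup (hXK : X ≤ Subgroup.normalizer (K : Set G))
    (hX : Cfsg.IsElementaryAbelian q X) (hqK : ¬ q ∣ Nat.card K) (hsep : Cfsg.IsPSolvable p ↥K)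
    (hO : Cfsg.pPrimeCore p ↥K = ⊥) (hnf : ¬ Cfsg.IsThompsonFactorizable p ↥K) :
    (p = 2 ∨ p = 3) ∧ OperatorSetup p q (actV (opV p K)) (opH p K) (opQ p K) (opY p K X) ∧
      ∃ A, IsTransv p (actV (opV p K)) (opH p K) A := by
  set V₀ := omegaCenterSup p ↥K with hV₀
  set C := Subgroup.centralizer (V₀ : Set ↥K) with hCdef
  haveI hCn : C.Normal := Subgroup.normal_centralizer
  set J := Cfsg.thompsonSubgroup p ↥K with hJdef
  haveI hJn : J.Normal := by
    haveI := PGroups.thompsonSubgroup_characteristic (p := p) (G := ↥K)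
    exact inferInstance
  have hc := PSolvable.centralizer_pCore_le hsep hO
  have hV₀e : Cfsg.IsElementaryAbelian p V₀ := omegaCenterSup_elemAb hc
  have hVe : Cfsg.IsElementaryAbelian p (opV p K) := PGroups.elemAb_map _ hV₀e
  have hJC : ¬ J ≤ C := fun h => hnf (factorizable_of_le h)
  have hOp : Cfsg.pCore p (↥K ⧸ C) = ⊥ := by
    obtain ⟨k, hk⟩ := (Cores.pCore_isPGroup (G := ↥K ⧸ C) p).exists_card_eq
    set D := (Cfsg.pCore p (↥K ⧸ C)).comap (QuotientGroup.mk' C) with hD
    have hmap : D.map (QuotientGroup.mk' C) = Cfsg.pCore p (↥K ⧸ C) :=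
      Subgroup.map_comap_eq_self_of_surjective (QuotientGroup.mk'_surjective C) _
    have hrel : C.relIndex D = p ^ k := by
      have h := Subgroup.relIndex_ker (K := D) (QuotientGroup.mk' C)
      rw [QuotientGroup.ker_mk', hmap, hk] at h
      exact h
    have hDC := eq_centralizer_of_generated (omegaCenterSup_generated (p := p) (G := ↥K)) D
      (QuotientGroup.le_comap_mk' C _) hrel
    rw [← hmap, hDC, QuotientGroup.map_mk'_self]
  set V := actV (opV p K)
  set H := opH p K with hHdef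
  let eR : (↥K ⧸ C) ≃* ↥(opHom p K).range :=
    (QuotientGroup.quotientMulEquivOfEq (opHom_ker (p := p) (K := K)).symm).trans
      (QuotientGroup.quotientKerEquivRange (opHom p K))
  have hR : Cfsg.pCore p ↥(opHom p K).range = ⊥ := by
    rw [← Cores.map_pCore_equiv eR, hOp, Subgroup.map_bot]
  have hHR : H ≤ (opHom p K).range := Subgroup.map_le_range _ _
  have hHn : (H.subgroupOf (opHom p K).range).Normal := by
    refine Subgroup.normal_subgroupOf_of_le_normalizer ?_
    rw [MonoidHom.range_eq_map, ← Subgroup.normalizer_eq_top (H := J)]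
    exact Subgroup.le_normalizer_map _
  have hpc : Cfsg.pCore p ↥H = ⊥ :=
    SubnormalPair.pCore_eq_bot_of_subnormal hR hHR hHn.isSubnormal
  have hsepH : Cfsg.IsPSolvable p ↥H := PSolvable.isPSolvable_map _ (PSolvable.isPSolvable_subgroup hsep J)
  have S : OffenderSetup p V H (opQ p K) :=
    offenderSetup_of_pPrimeCore (actV_elemAb _ hVe) (opH_le_actH.trans (actH_le_normalizer _))
      (le_bot_iff.mp ((inf_le_inf_right _ opH_le_actH).trans (actH_faithful _).le))
      (centralizer_pPrimeCore_le hsepH hpc)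
  have hgen : H = ⨆ A : {A : Subgroup (actGroup (opV p K)) //
      A ≤ H ∧ Cfsg.IsBestOffenderOn p V A}, (A : Subgroup (actGroup (opV p K))) := by
    refine le_antisymm ?_ (iSup_le fun A => A.2.1)
    rw [hHdef, opH, Cfsg.thompsonSubgroup, Subgroup.map_le_iff_le_comap]
    refine sSup_le fun A hA => Subgroup.map_le_iff_le_comap.mp ?_
    have hAJ : A.map (opHom p K) ≤ H := Subgroup.map_mono (le_sSup hA)
    refine le_iSup_of_le ⟨A.map (opHom p K), hAJ, ?_⟩ le_rfl
    rw [opHom, ← Subgroup.map_map]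
    exact bestOffender_act _ (bestOffender_map _ (Subgroup.inclusion_injective _)
      (bestOffender_of_maxElemAb hA hV₀e))
  have hH1 : H ≠ ⊥ := fun h => hJC fun x hx => opHom_eq_one_iff.mp
    (Subgroup.mem_bot.mp (h ▸ Subgroup.mem_map_of_mem (opHom p K) hx))
  obtain ⟨A, hA⟩ : ∃ A, IsTransv p V H A := by
    by_contra hno
    push Not at hno
    exact hH1 (le_bot_iff.mp ((le_iSup_transv S hgen).trans
      (iSup_le fun B => absurd B.2 (hno B))))
  have hdvd : Nat.card ↥(offE (opQ p K) A) ∣ Nat.card K :=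
    (Subgroup.card_dvd_of_le (offE_le S hA)).trans
      ((Subgroup.card_dvd_of_le hHR).trans (Subgroup.card_range_dvd _))
  rw [card_offE S hA] at hdvd
  have hp23 := p_eq_two_or_three S hA
  have h23 : 2 ∣ Nat.card K ∧ 3 ∣ Nat.card K := by
    rcases card_R S hA with ⟨hp', h⟩ | ⟨hp', h⟩ <;> rw [h, hp'] at hdvd
    · exact ⟨(dvd_mul_right 2 3).trans hdvd, (dvd_mul_left 3 2).trans hdvd⟩
    · exact ⟨(Dvd.intro_left (3 * 4) rfl).trans hdvd, (dvd_mul_right 3 8).trans hdvd⟩
  refine ⟨hp23, ⟨S, hgen, ?_, ?_, fun h => hqK (h ▸ h23.1), fun h => hqK (h ▸ h23.2), ?_,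
    opY_le_normalizer_opH hXK, ?_⟩, A, hA⟩
  · refine (Subgroup.le_centralizer_iff_isMulCommutative).mp ?_
    rintro _ ⟨a, ha, rfl⟩
    refine Subgroup.mem_centralizer_iff.mpr ?_
    rintro _ ⟨b, hb, rfl⟩
    rw [← map_mul, ← map_mul]
    congr 1
    exact Subtype.ext (PGroups.elemAb_comm hX hb ha)
  · refine IsPGroup.map ?_ _
    exact (PGroups.elemAb_isPGroup hX).comap_subtype
  · intro y hy
    obtain ⟨n, -, rfl⟩ := hy
    exact actH_le_normalizer _ ((actHom_range _).le ⟨n, rfl⟩)
  · exact (opY_le_normalizer_opH hXK).trans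
      (normalizer_le_normalizer_map_char (Cfsg.pPrimeCore p ↥(opH p K)))

/-- Fixed points of `Y` in `H` lift to fixed points of `X` in `J(K)C`. -/
theorem exists_lift (hXK : X ≤ Subgroup.normalizer (K : Set G))
    (hX : Cfsg.IsElementaryAbelian q X) (hqK : ¬ q ∣ Nat.card K)
    {c : actGroup (opV p K)} (hc : c ∈ opH p K)
    (hcY : c ∈ Subgroup.centralizer (opY p K X : Set (actGroup (opV p K)))) :
    ∃ d : ↥K, (d : G) ∈ Subgroup.centralizer (X : Set G) ∧
      d ∈ Cfsg.thompsonSubgroup p ↥K ⊔ (opHom p K).ker ∧ opHom p K d = c := by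
  obtain ⟨d₀, hd₀, rfl⟩ := hc
  set C' := (opHom p K).ker.map K.subtype with hC'
  have hfix : ∀ x, (hx : x ∈ X) → ∀ k : ↥K, opHom p K k = opHom p K d₀ →
      opHom p K (Subgroup.normalizerMonoidHom K ⟨x, hXK hx⟩ k) = opHom p K d₀ := by
    intro x hx k hk
    rw [opHom_conj, hk, mul_inv_eq_iff_eq_mul]
    exact Subgroup.mem_centralizer_iff.mp hcY _ ⟨⟨x, hXK hx⟩, hx, rfl⟩
  have hXC : X ≤ Subgroup.normalizer (C' : Set G) := by
    intro x hx
    refine Subgroup.mem_normalizer_fintype ?_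
    rintro _ ⟨k, hk, rfl⟩
    refine ⟨Subgroup.normalizerMonoidHom K ⟨x, hXK hx⟩ k, ?_, rfl⟩
    rw [SetLike.mem_coe, MonoidHom.mem_ker, opHom_conj, (show opHom p K k = 1 from hk), mul_one,
      mul_inv_cancel]
  have hcop : (Nat.card X).Coprime (Nat.card C') := by
    obtain ⟨m, hm⟩ := (PGroups.elemAb_isPGroup hX).exists_card_eq
    rw [hm]
    exact Nat.Coprime.pow_left _ (((Nat.Prime.coprime_iff_not_dvd hq.out).mpr hqK).coprime_dvd_right
      (Subgroup.card_dvd_of_le (Subgroup.map_subtype_le _)))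
  obtain ⟨_, ⟨n, hn, rfl⟩, hnd⟩ := Coprime.exists_fixed_mul hXC hcop
    (Or.inl (Coprime.isSolvable_of_isPGroup (PGroups.elemAb_isPGroup hX))) (k := (d₀ : G))
    fun x hx => ⟨Subgroup.normalizerMonoidHom K ⟨x, hXK hx⟩ d₀ * d₀⁻¹, by
      rw [SetLike.mem_coe, MonoidHom.mem_ker, map_mul, hfix x hx d₀ rfl, map_inv, mul_inv_cancel],
      rfl⟩
  refine ⟨n * d₀, hnd, mul_mem (Subgroup.mem_sup_right hn) (Subgroup.mem_sup_left hd₀), ?_⟩
  rw [map_mul, (show opHom p K n = 1 from hn), one_mul]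

/-- A component meets the image of any Sylow subgroup of `K` in a transvection group. -/
theorem exists_conj_le_sylow (S : Sylow p ↥K) {A : Subgroup (actGroup (opV p K))}
    (hA : IsTransv p (actV (opV p K)) (opH p K) A) :
    ∃ h ∈ opH p K, A.map (MulAut.conj h).toMonoidHom ≤ (S : Subgroup ↥K).map (opHom p K) := by
  set J := Cfsg.thompsonSubgroup p ↥K with hJdef
  haveI hJn : J.Normal := by
    haveI := PGroups.thompsonSubgroup_characteristic (p := p) (G := ↥K)
    exact inferInstance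
  obtain ⟨P, hP⟩ := exists_sylow_inf S J
  let f : J →* ↥(opH p K) := (opHom p K).subgroupMap J
  have hf : Function.Surjective f := MonoidHom.subgroupMap_surjective _ _
  have hpA : IsPGroup p (A.subgroupOf (opH p K)) :=
    (PGroups.elemAb_isPGroup (PGroups.elemAb_of_card_eq_prime hA.2.1)).comap_subtype
  obtain ⟨T, hT⟩ := hpA.exists_le_sylow
  obtain ⟨h, hh⟩ := MulAction.exists_smul_eq ↥(opH p K) T (P.mapSurjective hf)
  refine ⟨h, h.2, ?_⟩
  rintro _ ⟨a, ha, rfl⟩
  have h1 : h * ⟨a, hA.1 ha⟩ * h⁻¹ ∈ ((h • T : Sylow p ↥(opH p K)) : Subgroup ↥(opH p K)) := by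
    rw [Sylow.coe_subgroup_smul]
    exact Subgroup.smul_mem_pointwise_smul _ (MulAut.conj h) _ (hT (show a ∈ A from ha))
  rw [hh, Sylow.coe_mapSurjective] at h1
  obtain ⟨k, hk, hkh⟩ := h1
  refine ⟨k, (hP.le ⟨k, hk, rfl⟩).1, ?_⟩
  exact congrArg Subtype.val hkh

end Cfsg.Agent.Lib.PLocal
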