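import Cfsg.Agent.Lib.PLocal.Action
import Cfsg.Agent.Lib.PLocal.SLTwo
import Mathlib.LinearAlgebra.Matrix.ToLin
import Mathlib.Algebra.Module.ZMod
import Mathlib.FieldTheory.Finite.Basic

/-!
# Conjugation on an elementary abelian group of order `p²` as `2 × 2` matrices

Owner: helper19.
-/

namespace Cfsg.Agent.Lib.PLocal

open Subgroup

variable {G : Type*} [Group G] {p : ℕ} [hp : Fact p.Prime] {W K : Subgroup G} {w₁ w₂ : G}

/-- `w₁, w₂` is a basis of the elementary abelian group `W` of order `p²`. -/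
structure Frame (p : ℕ) (W : Subgroup G) (w₁ w₂ : G) : Prop where
  elab' : Cfsg.IsElementaryAbelian p W
  card' : Nat.card W = p ^ 2
  mem₁ : w₁ ∈ W
  mem₂ : w₂ ∈ W
  ne₁ : w₁ ≠ 1
  not_mem : w₂ ∉ Subgroup.zpowers w₁

/-- `(i, j) ↦ w₁ ^ i * w₂ ^ j`. -/
def frameCoord (F : Frame p W w₁ w₂) (v : Fin 2 → ZMod p) : W :=
  ⟨w₁ ^ (v 0).val * w₂ ^ (v 1).val, W.mul_mem (W.pow_mem F.mem₁ _) (W.pow_mem F.mem₂ _)⟩

theorem pow_zmod_val_add {w : G} (hw : w ^ p = 1) (a b : ZMod p) :
    w ^ (a + b).val = w ^ a.val * w ^ b.val := by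
  rw [ZMod.val_add, ← pow_eq_pow_mod _ hw, pow_add]

theorem frameCoord_add (F : Frame p W w₁ w₂) (u v : Fin 2 → ZMod p) :
    frameCoord F (u + v) = frameCoord F u * frameCoord F v := by
  apply Subtype.ext
  show w₁ ^ (u 0 + v 0).val * w₂ ^ (u 1 + v 1).val =
    (w₁ ^ (u 0).val * w₂ ^ (u 1).val) * (w₁ ^ (v 0).val * w₂ ^ (v 1).val)
  rw [pow_zmod_val_add (F.elab'.2 _ F.mem₁), pow_zmod_val_add (F.elab'.2 _ F.mem₂)]
  have hc : Commute (w₁ ^ (v 0).val) (w₂ ^ (u 1).val) :=
    (show Commute w₁ w₂ from PGroups.elemAb_comm F.elab' F.mem₁ F.mem₂).pow_pow _ _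
  rw [mul_assoc, ← mul_assoc (w₁ ^ (v 0).val), hc.eq]
  simp [mul_assoc]

theorem frameCoord_injective (F : Frame p W w₁ w₂) : Function.Injective (frameCoord F) := by
  have hzero : ∀ v, frameCoord F v = 1 → v = 0 := by
    intro v hv
    have hv' : w₁ ^ (v 0).val * w₂ ^ (v 1).val = 1 := congrArg Subtype.val hv
    have h1 : (v 1).val = 0 := by
      by_contra h
      apply F.not_mem
      have hcop : Nat.Coprime (v 1).val p :=
        (hp.out.coprime_iff_not_dvd.mpr fun hd =>
          h (Nat.eq_zero_of_dvd_of_lt hd (ZMod.val_lt _))).symm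
      have hmem : w₂ ^ (v 1).val ∈ Subgroup.zpowers w₁ := by
        rw [eq_inv_of_mul_eq_one_right hv']
        exact Subgroup.inv_mem _ (Subgroup.pow_mem _ (Subgroup.mem_zpowers _) _)
      obtain ⟨m, hm⟩ := Nat.exists_mul_mod_eq_one_of_coprime hcop hp.out.one_lt |>.imp fun m h => h.2
      have h2 := Subgroup.pow_mem _ hmem m
      rwa [← pow_mul, pow_eq_pow_mod _ (F.elab'.2 _ F.mem₂), hm, pow_one] at h2
    have h0 : (v 0).val = 0 := by
      rw [h1, pow_zero, mul_one] at hv'
      have := orderOf_dvd_of_pow_eq_one hv'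
      rw [PGroups.elemAb_orderOf F.elab' F.mem₁ F.ne₁] at this
      exact Nat.eq_zero_of_dvd_of_lt this (ZMod.val_lt _)
    funext i
    fin_cases i
    · exact (ZMod.val_eq_zero _).mp h0
    · exact (ZMod.val_eq_zero _).mp h1
  intro u v h
  have h2 := frameCoord_add F (u - v) v
  rw [sub_add_cancel] at h2
  rw [← sub_eq_zero]
  refine hzero _ ?_
  rw [h] at h2
  exact mul_eq_right.mp h2.symm

theorem frameCoord_bijective [Finite G] (F : Frame p W w₁ w₂) :
    Function.Bijective (frameCoord F) := by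
  refine (Nat.bijective_iff_injective_and_card _).mpr ⟨frameCoord_injective F, ?_⟩
  rw [F.card', Nat.card_fun, Nat.card_zmod, Nat.card_fin]

variable [Finite G]

/-- The coordinate bijection. -/
noncomputable def frameEquiv (F : Frame p W w₁ w₂) : (Fin 2 → ZMod p) ≃ W :=
  Equiv.ofBijective _ (frameCoord_bijective F)

theorem frameEquiv_symm_mul (F : Frame p W w₁ w₂) (x y : W) :
    (frameEquiv F).symm (x * y) = (frameEquiv F).symm x + (frameEquiv F).symm y := by
  apply (frameEquiv F).injective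
  rw [Equiv.apply_symm_apply]
  show x * y = frameCoord F _
  rw [frameCoord_add]
  congr 1
  · exact ((frameEquiv F).apply_symm_apply x).symm
  · exact ((frameEquiv F).apply_symm_apply y).symm

/-- Conjugation by an element of `N(W)` in coordinates. -/
noncomputable def frameLin (F : Frame p W w₁ w₂) (k : G) (hk : k ∈ Subgroup.normalizer (W : Set G)) :
    (Fin 2 → ZMod p) →ₗ[ZMod p] (Fin 2 → ZMod p) :=
  AddMonoidHom.toZModLinearMap p
    (AddMonoidHom.mk' (fun v => (frameEquiv F).symm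
        ⟨k * (frameEquiv F v : G) * k⁻¹,
          (Subgroup.mem_normalizer_iff.mp hk _).mp (frameEquiv F v).2⟩)
      fun u v => by
        rw [← frameEquiv_symm_mul]
        congr 1
        apply Subtype.ext
        show k * (frameCoord F (u + v) : G) * k⁻¹ =
          k * (frameCoord F u : G) * k⁻¹ * (k * (frameCoord F v : G) * k⁻¹)
        rw [frameCoord_add, Subgroup.coe_mul]
        group)

theorem frameLin_spec (F : Frame p W w₁ w₂) (k : G) (hk : k ∈ Subgroup.normalizer (W : Set G))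
    (v : Fin 2 → ZMod p) :
    ((frameEquiv F (frameLin F k hk v) : W) : G) = k * (frameEquiv F v : G) * k⁻¹ := by
  simp [frameLin]

/-- Conjugation on `W` as matrices. -/
noncomputable def frameMatrix (F : Frame p W w₁ w₂) (hK : K ≤ Subgroup.normalizer (W : Set G)) :
    K →* Matrix (Fin 2) (Fin 2) (ZMod p) where
  toFun k := LinearMap.toMatrix' (frameLin F k (hK k.2))
  map_one' := by
    rw [← LinearMap.toMatrix'_id]
    congr 1
    refine LinearMap.ext fun v => (frameEquiv F).injective (Subtype.ext ?_)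
    rw [frameLin_spec]
    simp
  map_mul' k l := by
    rw [← LinearMap.toMatrix'_comp]
    congr 1
    refine LinearMap.ext fun v => (frameEquiv F).injective (Subtype.ext ?_)
    rw [LinearMap.comp_apply, frameLin_spec, frameLin_spec, frameLin_spec, Subgroup.coe_mul]
    group

theorem frameMatrix_injective (F : Frame p W w₁ w₂) (hK : K ≤ Subgroup.normalizer (W : Set G))
    (hfaith : K ⊓ Subgroup.centralizer (W : Set G) = ⊥) : Function.Injective (frameMatrix F hK) := by
  intro k l h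
  have h' : frameLin F k (hK k.2) = frameLin F l (hK l.2) := LinearMap.toMatrix'.injective h
  have hmem : ((l⁻¹ * k : K) : G) ∈ K ⊓ Subgroup.centralizer (W : Set G) := by
    refine ⟨(l⁻¹ * k).2, Subgroup.mem_centralizer_iff.mpr fun w hw => ?_⟩
    have h2 := congrArg (fun T => ((frameEquiv F (T ((frameEquiv F).symm ⟨w, hw⟩)) : W) : G)) h'
    simp only [frameLin_spec, Equiv.apply_symm_apply] at h2
    rw [Subgroup.coe_mul, InvMemClass.coe_inv]
    calc w * ((l : G)⁻¹ * k) = (l : G)⁻¹ * (l * w * (l : G)⁻¹) * k := by group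
      _ = (l : G)⁻¹ * (k * w * (k : G)⁻¹) * k := by rw [h2]
      _ = (l : G)⁻¹ * k * w := by group
  rw [hfaith, Subgroup.mem_bot] at hmem
  exact (inv_mul_eq_one.mp (Subtype.ext hmem : l⁻¹ * k = 1)).symm

/-- Elements of order dividing `p` act with determinant one. -/
theorem frameMatrix_det_eq_one (F : Frame p W w₁ w₂) (hK : K ≤ Subgroup.normalizer (W : Set G))
    {s : Set G} (hgen : K = Subgroup.closure s) (hs : ∀ x ∈ s, x ^ p = 1) (k : K) :
    (frameMatrix F hK k).det = 1 := by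
  have key : ∀ x (hx : x ∈ Subgroup.closure s),
      (frameMatrix F hK ⟨x, hgen.symm ▸ hx⟩).det = 1 := by
    intro x hx
    induction hx using Subgroup.closure_induction with
    | mem x hx =>
      have h1 : (⟨x, hgen.symm ▸ Subgroup.subset_closure hx⟩ : K) ^ p = 1 :=
        Subtype.ext (by simpa using hs x hx)
      have h2 := congrArg (fun y => (frameMatrix F hK y).det) h1
      simp only [map_pow, map_one, Matrix.det_pow, Matrix.det_one] at h2
      rwa [ZMod.pow_card] at h2
    | one =>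
      have : (⟨1, hgen.symm ▸ Subgroup.one_mem _⟩ : K) = 1 := rfl
      rw [this, map_one, Matrix.det_one]
    | mul x y hx hy ihx ihy =>
      have : (⟨x * y, hgen.symm ▸ Subgroup.mul_mem _ hx hy⟩ : K) =
          ⟨x, hgen.symm ▸ hx⟩ * ⟨y, hgen.symm ▸ hy⟩ := rfl
      rw [this, map_mul, Matrix.det_mul, ihx, ihy, one_mul]
    | inv x hx ih =>
      have h1 := congrArg Matrix.det
        ((map_mul (frameMatrix F hK) (⟨x, hgen.symm ▸ hx⟩ : K) (⟨x, hgen.symm ▸ hx⟩ : K)⁻¹).symm)
      rw [mul_inv_cancel, map_one, Matrix.det_one, Matrix.det_mul, ih, one_mul] at h1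
      exact h1
  exact key k (hgen.le k.2)

/-- Conjugation on `W` as a homomorphism into `SL(2,p)`. -/
noncomputable def frameSL (F : Frame p W w₁ w₂) (hK : K ≤ Subgroup.normalizer (W : Set G))
    {s : Set G} (hgen : K = Subgroup.closure s) (hs : ∀ x ∈ s, x ^ p = 1) :
    K →* Matrix.SpecialLinearGroup (Fin 2) (ZMod p) where
  toFun k := ⟨frameMatrix F hK k, frameMatrix_det_eq_one F hK hgen hs k⟩
  map_one' := Subtype.ext (map_one (frameMatrix F hK))
  map_mul' k l := Subtype.ext (map_mul (frameMatrix F hK) k l)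

theorem frameSL_injective (F : Frame p W w₁ w₂) (hK : K ≤ Subgroup.normalizer (W : Set G))
    {s : Set G} (hgen : K = Subgroup.closure s) (hs : ∀ x ∈ s, x ^ p = 1)
    (hfaith : K ⊓ Subgroup.centralizer (W : Set G) = ⊥) :
    Function.Injective (frameSL F hK hgen hs) := fun _ _ h =>
  frameMatrix_injective F hK hfaith (congrArg Subtype.val h)

theorem frameEquiv_single₀ (F : Frame p W w₁ w₂) :
    ((frameEquiv F ![1, 0] : W) : G) = w₁ := by
  show w₁ ^ (1 : ZMod p).val * w₂ ^ (0 : ZMod p).val = w₁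
  simp [ZMod.val_one]

theorem frameEquiv_single₁ (F : Frame p W w₁ w₂) :
    ((frameEquiv F ![0, 1] : W) : G) = w₂ := by
  show w₁ ^ (0 : ZMod p).val * w₂ ^ (1 : ZMod p).val = w₂
  simp [ZMod.val_one]

theorem frameEquiv_sum (F : Frame p W w₁ w₂) :
    ((frameEquiv F ![1, 1] : W) : G) = w₁ * w₂ := by
  show w₁ ^ (1 : ZMod p).val * w₂ ^ (1 : ZMod p).val = w₁ * w₂
  simp [ZMod.val_one]

/-- An element fixing `w₁` and moving `w₂` to `w₁ w₂` is `[[1,1],[0,1]]`. -/
theorem frameSL_eq_up (F : Frame p W w₁ w₂) (hK : K ≤ Subgroup.normalizer (W : Set G))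
    {s : Set G} (hgen : K = Subgroup.closure s) (hs : ∀ x ∈ s, x ^ p = 1) (k : K)
    (h₁ : (k : G) * w₁ * (k : G)⁻¹ = w₁) (h₂ : (k : G) * w₂ * (k : G)⁻¹ = w₁ * w₂) :
    frameSL F hK hgen hs k = SLTwo.up 1 := by
  have e₁ : frameLin F k (hK k.2) ![1, 0] = ![1, 0] := (frameEquiv F).injective
    (Subtype.ext (by rw [frameLin_spec, frameEquiv_single₀, h₁]))
  have e₂ : frameLin F k (hK k.2) ![0, 1] = ![1, 1] := (frameEquiv F).injective
    (Subtype.ext (by rw [frameLin_spec, frameEquiv_single₁, frameEquiv_sum, h₂]))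
  apply Subtype.ext
  show LinearMap.toMatrix' _ = !![1, 1; 0, 1]
  have hs0 : Pi.single (0 : Fin 2) (1 : ZMod p) = ![1, 0] := by funext j; fin_cases j <;> rfl
  have hs1 : Pi.single (1 : Fin 2) (1 : ZMod p) = ![0, 1] := by funext j; fin_cases j <;> rfl
  ext i j
  fin_cases i <;> fin_cases j <;> simp [LinearMap.toMatrix'_apply, hs0, hs1, e₁, e₂]

/-- An element fixing `w₂` and moving `w₁` to `w₁ w₂` is `[[1,0],[1,1]]`. -/
theorem frameSL_eq_lo (F : Frame p W w₁ w₂) (hK : K ≤ Subgroup.normalizer (W : Set G))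
    {s : Set G} (hgen : K = Subgroup.closure s) (hs : ∀ x ∈ s, x ^ p = 1) (k : K)
    (h₁ : (k : G) * w₁ * (k : G)⁻¹ = w₁ * w₂) (h₂ : (k : G) * w₂ * (k : G)⁻¹ = w₂) :
    frameSL F hK hgen hs k = SLTwo.lo 1 := by
  have e₁ : frameLin F k (hK k.2) ![1, 0] = ![1, 1] := (frameEquiv F).injective
    (Subtype.ext (by rw [frameLin_spec, frameEquiv_single₀, frameEquiv_sum, h₁]))
  have e₂ : frameLin F k (hK k.2) ![0, 1] = ![0, 1] := (frameEquiv F).injective
    (Subtype.ext (by rw [frameLin_spec, frameEquiv_single₁, h₂]))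
  apply Subtype.ext
  show LinearMap.toMatrix' _ = !![1, 0; 1, 1]
  have hs0 : Pi.single (0 : Fin 2) (1 : ZMod p) = ![1, 0] := by funext j; fin_cases j <;> rfl
  have hs1 : Pi.single (1 : Fin 2) (1 : ZMod p) = ![0, 1] := by funext j; fin_cases j <;> rfl
  ext i j
  fin_cases i <;> fin_cases j <;> simp [LinearMap.toMatrix'_apply, hs0, hs1, e₁, e₂]

end Cfsg.Agent.Lib.PLocal
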