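import Cfsg.Agent.Lib.PLocal.CoprimeGen
import Cfsg.Agent.Lib.Classif.PTimesQ
import Cfsg.Agent.Lib.Cores.Basic

/-!
# Best offenders of a group with `C_H(Q) ≤ Q` for a normal `p'`-subgroup `Q`

Owner: helper19.
-/

namespace Cfsg.Agent.Lib.PLocal

open Subgroup
open scoped commutatorElement

variable {G : Type*} [Group G] {p : ℕ} {V H Q A B : Subgroup G}

/-- `H` acts faithfully on the elementary abelian `V`; `Q` is a self-centralising normal `p'`-subgroup. -/
structure OffenderSetup (p : ℕ) (V H Q : Subgroup G) : Prop where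
  elab' : Cfsg.IsElementaryAbelian p V
  norm : H ≤ Subgroup.normalizer (V : Set G)
  faithful : H ⊓ Subgroup.centralizer (V : Set G) = ⊥
  Q_le : Q ≤ H
  Q_norm : H ≤ Subgroup.normalizer (Q : Set G)
  coprime : (Nat.card Q).Coprime p
  selfCent : H ⊓ Subgroup.centralizer (Q : Set G) ≤ Q

theorem offenderSetup_of_pPrimeCore [Finite G] (hV : Cfsg.IsElementaryAbelian p V)
    (hHV : H ≤ Subgroup.normalizer (V : Set G))
    (hf : H ⊓ Subgroup.centralizer (V : Set G) = ⊥)
    (hS1 : Subgroup.centralizer (Cfsg.pPrimeCore p ↥H : Set ↥H) ≤ Cfsg.pPrimeCore p ↥H) :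
    OffenderSetup p V H ((Cfsg.pPrimeCore p ↥H).map H.subtype) := by
  refine ⟨hV, hHV, hf, Subgroup.map_subtype_le _, ?_, ?_, ?_⟩
  · refine le_trans ?_ (Subgroup.le_normalizer_map H.subtype)
    rw [Subgroup.normalizer_eq_top, ← MonoidHom.range_eq_map, Subgroup.range_subtype]
  · rw [Subgroup.card_map_of_injective H.subtype_injective]
    exact Cores.pPrimeCore_coprime p
  · rintro x ⟨hxH, hx⟩
    refine ⟨⟨x, hxH⟩, hS1 (Subgroup.mem_centralizer_iff.mpr fun y hy => Subtype.ext ?_), rfl⟩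
    exact Subgroup.mem_centralizer_iff.mp hx y (Subgroup.mem_map_of_mem _ hy)

/-- A subgroup of order `p` acting on `V` as a transvection group. -/
def IsTransv (p : ℕ) (V H B : Subgroup G) : Prop :=
  B ≤ H ∧ Nat.card B = p ∧ meas V B = Nat.card V

variable [Finite G] [hp : Fact p.Prime]

theorem bestOffender_elemAb (S : OffenderSetup p V H Q) (hA : Cfsg.IsBestOffenderOn p V A)
    (hAH : A ≤ H) : Cfsg.IsElementaryAbelian p A := by
  refine ⟨Subgroup.commutator_self_eq_bot_iff.mp (le_bot_iff.mp ?_), fun a ha => ?_⟩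
  · rw [← S.faithful]
    exact le_inf ((Subgroup.commutator_le_self A).trans hAH) hA.2.1
  · have h : a ^ p ∈ H ⊓ Subgroup.centralizer (V : Set G) := ⟨H.pow_mem (hAH ha) p, hA.2.2 a ha⟩
    rwa [S.faithful, Subgroup.mem_bot] at h

theorem eq_bot_of_pGroup_le_Q (S : OffenderSetup p V H Q) (hA : IsPGroup p A) (hle : A ≤ Q) :
    A = ⊥ := by
  obtain ⟨n, hn⟩ := IsPGroup.iff_card.mp hA
  refine Subgroup.eq_bot_of_card_eq _ ?_
  exact Nat.eq_one_of_dvd_coprimes (S.coprime.pow_right n) (Subgroup.card_dvd_of_le hle) (hn ▸ dvd_rfl)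

theorem eq_bot_of_centralizes_Q (S : OffenderSetup p V H Q) (hA : IsPGroup p A) (hAH : A ≤ H)
    (hc : Q ≤ Subgroup.centralizer (A : Set G)) : A = ⊥ :=
  eq_bot_of_pGroup_le_Q S hA ((le_inf hAH (Subgroup.le_centralizer_iff.mp hc)).trans S.selfCent)

theorem isPGroup_V (S : OffenderSetup p V H Q) : IsPGroup p V := PGroups.elemAb_isPGroup S.elab'

theorem fixOn_ne_self (S : OffenderSetup p V H Q) (hB : B ≤ H) (hne : B ≠ ⊥) : fixOn V B ≠ V := by
  intro h
  refine hne (le_bot_iff.mp ?_)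
  rw [← S.faithful]
  exact le_inf hB (fixOn_eq_self_iff.mp h)

theorem card_mul_le_of_lt {U W : Subgroup G} (hW : IsPGroup p W) (hlt : U < W) :
    Nat.card U * p ≤ Nat.card W := by
  obtain ⟨x, hxW, hxU⟩ := SetLike.exists_of_lt hlt
  exact PGroups.card_mul_le_card_of_mem hlt.le hW hxW hxU

theorem card_fixOn_mul_le (S : OffenderSetup p V H Q) (hB : B ≤ H) (hne : B ≠ ⊥) :
    Nat.card (fixOn V B) * p ≤ Nat.card V :=
  card_mul_le_of_lt (isPGroup_V S) (lt_of_le_of_ne fixOn_le (fixOn_ne_self S hB hne))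

/-- If `B ≤ A` fixes no more of `V` than `A`, then `C_Q(B)` centralises `A`. -/
theorem fixOn_le_centralizer_of_fix_eq (S : OffenderSetup p V H Q)
    (hA : Cfsg.IsElementaryAbelian p A) (hAH : A ≤ H) (hBA : B ≤ A)
    (he : fixOn V B = fixOn V A) : fixOn Q B ≤ Subgroup.centralizer (A : Set G) := by
  intro l hl
  refine Subgroup.mem_centralizer_iff.mpr fun a ha => ?_
  have hlH : l ∈ H := S.Q_le hl.1
  set d := ⁅l, a⁆ with hd
  have hdQ : d ∈ Q := commutatorElement_mem (S.Q_norm (hAH ha)) hl.1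
  have hdH : d ∈ H := S.Q_le hdQ
  have hB : IsPGroup p B := (PGroups.elemAb_isPGroup hA).to_le hBA
  have hdB : ∀ t ∈ B, d * t = t * d := by
    intro t ht
    have h1 : Commute t l := (mem_fixOn.mp hl).2 t ht
    have h2 : Commute t a := PGroups.elemAb_comm hA (hBA ht) ha
    exact (((h1.mul_right h2).mul_right h1.inv_right).mul_right h2.inv_right).symm.eq
  have hfix : ∀ x ∈ V, (∀ t ∈ B, t * x = x * t) → d * x = x * d := by
    intro x hx hxB
    have hxf : x ∈ fixOn V B := mem_fixOn.mpr ⟨hx, hxB⟩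
    have hlN : l ∈ Subgroup.normalizer (fixOn V B : Set G) := normalizer_inf_le_normalizer_fixOn
      ⟨S.norm hlH, Subgroup.centralizer_le_normalizer _ hl.2⟩
    have hca : ∀ y ∈ fixOn V B, Commute a y := fun y hy => (mem_fixOn.mp (he ▸ hy)).2 a ha
    have h1 : Commute (l * a * l⁻¹) x := by
      have hy : l⁻¹ * x * l ∈ fixOn V B := (Subgroup.mem_normalizer_iff''.mp hlN x).mp hxf
      have h2 := (hca _ hy).map (MulAut.conj l).toMonoidHom
      simpa [mul_assoc] using h2
    have h3 : d = (l * a * l⁻¹) * a⁻¹ := by rw [hd, commutatorElement_def]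
    rw [h3]
    exact (h1.mul_left (hca x hxf).inv_left).eq
  have hdord : (orderOf d).Coprime p := Nat.Coprime.of_dvd_left
    ((Subgroup.orderOf_dvd_natCard _ hdQ)) S.coprime
  have hall := Classif.pTimesQ (p := p) V B d (isPGroup_V S) hB ((hBA.trans hAH).trans S.norm)
    (fun x hx => (Subgroup.mem_normalizer_iff.mp (S.norm hdH) x).mp hx) hdord hdB hfix
  have hd1 : d ∈ H ⊓ Subgroup.centralizer (V : Set G) :=
    ⟨hdH, Subgroup.mem_centralizer_iff.mpr fun x hx => (hall x hx).symm⟩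
  rw [S.faithful, Subgroup.mem_bot] at hd1
  exact (commutatorElement_eq_one_iff_mul_comm.mp hd1).symm

/-- A hyperplane `B` of a best offender `A` whose centraliser in `Q` is not centralised by `A`
has the measure of `A`. -/
theorem meas_of_bad_hyperplane (S : OffenderSetup p V H Q) (hA : Cfsg.IsBestOffenderOn p V A)
    (hAH : A ≤ H) (hBA : B ≤ A) (hi : B.relIndex A ≤ p)
    (hbad : ¬ fixOn Q B ≤ Subgroup.centralizer (A : Set G)) :
    meas V B = meas V A ∧ B.relIndex A = p := by
  have hAe := bestOffender_elemAb S hA hAH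
  have hcard : Nat.card A = Nat.card B * B.relIndex A := by
    rw [Subgroup.relIndex, ← Nat.card_congr (Subgroup.subgroupOfEquivOfLe hBA).toEquiv,
      Subgroup.card_mul_index]
  have hBne : B ≠ A := by
    rintro rfl
    exact hbad inf_le_right
  have hrel : B.relIndex A = p := by
    obtain ⟨n, hn⟩ := PGroups.elemAb_card_eq_pow hAe
    have hd : B.relIndex A ∣ p ^ n := hn ▸ hcard ▸ dvd_mul_left _ _
    obtain ⟨j, -, hj⟩ := (Nat.dvd_prime_pow hp.out).mp hd
    rcases j with _ | _ | j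
    · exact absurd (le_antisymm hBA (Subgroup.relIndex_eq_one.mp (by simpa using hj))) hBne
    · simpa using hj
    · rw [hj] at hi
      have := Nat.pow_le_pow_right hp.out.pos (show 2 ≤ j + 1 + 1 by omega)
      have h2 := hp.out.one_lt
      nlinarith
  refine ⟨le_antisymm (hA.1 B hBA) ?_, hrel⟩
  have hlt : fixOn V A < fixOn V B := lt_of_le_of_ne (fixOn_anti hBA) fun he =>
    hbad (fixOn_le_centralizer_of_fix_eq S hAe hAH hBA he.symm)
  have h2 := card_mul_le_of_lt ((isPGroup_V S).to_le fixOn_le) hlt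
  calc meas V A = Nat.card B * (Nat.card (fixOn V A) * p) := by rw [meas, hcard, hrel]; ring
    _ ≤ meas V B := Nat.mul_le_mul_left _ h2

/-- Some such hyperplane avoids any given nontrivial element. -/
theorem exists_bad_hyperplane (S : OffenderSetup p V H Q) (hA : Cfsg.IsBestOffenderOn p V A)
    (hAH : A ≤ H) {a : G} (ha : a ∈ A) (ha1 : a ≠ 1) :
    ∃ B : Subgroup G, B ≤ A ∧ a ∉ B ∧ B.relIndex A = p ∧ meas V B = meas V A := by
  have hAe := bestOffender_elemAb S hA hAH
  by_contra hcon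
  push Not at hcon
  have hQ : Q ≤ Subgroup.centralizer (Subgroup.zpowers a : Set G) := by
    refine (le_iSup_fixOn_hyperplane hAe (hAH.trans S.Q_norm) S.coprime).trans (iSup_le ?_)
    rintro ⟨B, hBA, hi⟩
    by_cases hbad : fixOn Q B ≤ Subgroup.centralizer (A : Set G)
    · exact hbad.trans (Subgroup.centralizer_le (Subgroup.zpowers_le.mpr ha))
    · obtain ⟨hm, hr⟩ := meas_of_bad_hyperplane S hA hAH hBA hi hbad
      by_cases haB : a ∈ B
      · exact inf_le_right.trans (Subgroup.centralizer_le (Subgroup.zpowers_le.mpr haB))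
      · exact absurd hm (hcon B hBA haB hr)
  have := eq_bot_of_centralizes_Q S
    ((PGroups.elemAb_isPGroup hAe).to_le (Subgroup.zpowers_le.mpr ha))
    ((Subgroup.zpowers_le.mpr ha).trans hAH) hQ
  exact ha1 (Subgroup.mem_bot.mp (this ▸ Subgroup.mem_zpowers a))

/-- Every best offender `A` satisfies `|A| |C_V(A)| = |V|`. -/
theorem bestOffender_meas_eq (S : OffenderSetup p V H Q) :
    ∀ {A : Subgroup G}, Cfsg.IsBestOffenderOn p V A → A ≤ H → meas V A = Nat.card V := by
  suffices key : ∀ (n : ℕ) (A : Subgroup G), Nat.card A ≤ n → Cfsg.IsBestOffenderOn p V A → A ≤ H →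
      meas V A = Nat.card V from fun {A} h h' => key _ A le_rfl h h'
  intro n
  induction n with
  | zero => intro A hn; exact absurd hn (by have := Nat.card_pos (α := A); omega)
  | succ n ih =>
    intro A hn hA hAH
    rcases Subgroup.bot_or_exists_ne_one A with rfl | ⟨a, ha, ha1⟩
    · exact meas_bot
    obtain ⟨B, hBA, haB, -, hm⟩ := exists_bad_hyperplane S hA hAH ha ha1
    have hlt : Nat.card B < Nat.card A := lt_of_le_of_ne (Subgroup.card_le_of_le hBA) fun he =>
      haB ((Subgroup.eq_of_le_of_card_ge hBA he.ge) ▸ ha)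
    exact hm.symm.trans (ih B (by omega) (bestOffender_of_meas_eq hA hBA hm) (hBA.trans hAH))

theorem isTransv_of_bestOffender (S : OffenderSetup p V H Q) (hB : Cfsg.IsBestOffenderOn p V B)
    (hBH : B ≤ H) (hc : Nat.card B = p) : IsTransv p V H B :=
  ⟨hBH, hc, bestOffender_meas_eq S hB hBH⟩

theorem isTransv_ne_bot (hB : IsTransv p V H B) : B ≠ ⊥ := by
  intro h
  have := hB.2.1
  rw [h, Subgroup.card_bot] at this
  exact hp.out.one_lt.ne this

theorem isTransv_bestOffender (S : OffenderSetup p V H Q) (hB : IsTransv p V H B) :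
    Cfsg.IsBestOffenderOn p V B := by
  have hBe : Cfsg.IsElementaryAbelian p B := PGroups.elemAb_of_card_eq_prime hB.2.1
  refine ⟨fun C hC => ?_, ?_, fun b hb => by rw [hBe.2 b hb]; exact one_mem _⟩
  · change meas V C ≤ meas V B
    rw [hB.2.2]
    rcases (Nat.dvd_prime hp.out).mp (hB.2.1 ▸ Subgroup.card_dvd_of_le hC) with h | h
    · rw [Subgroup.card_eq_one.mp h, meas_bot]
    · rw [Subgroup.eq_of_le_of_card_ge hC (by rw [hB.2.1, h]), hB.2.2]
  · rw [Subgroup.commutator_self_eq_bot_iff.mpr hBe.1]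
    exact bot_le

theorem mem_bot_or_eq_of_card_prime {C : Subgroup G} (hc : Nat.card C = p) (D : Subgroup G) :
    C ⊓ D = ⊥ ∨ C ≤ D := by
  rcases (Nat.dvd_prime hp.out).mp (hc ▸ Subgroup.card_dvd_of_le (inf_le_left : C ⊓ D ≤ C)) with h | h
  · exact Or.inl (Subgroup.card_eq_one.mp h)
  · exact Or.inr ((Subgroup.eq_of_le_of_card_ge inf_le_left (by rw [hc, h])).ge.trans inf_le_right)

/-- Adjoining one more independent subgroup of an abelian group to an independent family. -/
theorem iSupIndep_cons {k : ℕ} {C F : Subgroup G} {B : Fin k → Subgroup G}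
    (hcomm : C ≤ Subgroup.centralizer (F : Set G)) (hind : iSupIndep B) (hsup : ⨆ i, B i = F)
    (hCF : C ⊓ F = ⊥) :
    iSupIndep (Fin.cons C B : Fin (k + 1) → Subgroup G) := by
  intro i
  rw [disjoint_iff, eq_bot_iff]
  rintro x ⟨hx, hx'⟩
  rw [Subgroup.mem_bot]
  induction i using Fin.cases with
  | zero =>
    have hle : (⨆ (j) (_ : j ≠ (0 : Fin (k + 1))), (Fin.cons C B : Fin (k + 1) → Subgroup G) j) ≤ F := by
      refine iSup₂_le fun j hj => ?_
      obtain ⟨j', rfl⟩ := Fin.exists_succ_eq.mpr hj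
      rw [Fin.cons_succ, ← hsup]
      exact le_iSup B j'
    have : x ∈ C ⊓ F := ⟨by simpa using hx, hle hx'⟩
    rwa [hCF, Subgroup.mem_bot] at this
  | succ i =>
    rw [Fin.cons_succ] at hx
    set O := ⨆ (j) (_ : j ≠ i), B j with hO
    have hle : (⨆ (j) (_ : j ≠ i.succ), (Fin.cons C B : Fin (k + 1) → Subgroup G) j) ≤ C ⊔ O := by
      refine iSup₂_le fun j hj => ?_
      induction j using Fin.cases with
      | zero => rw [Fin.cons_zero]; exact le_sup_left
      | succ j =>
        rw [Fin.cons_succ]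
        exact le_sup_of_le_right (le_iSup₂_of_le j (fun h => hj (h ▸ rfl)) le_rfl)
    have hOF : O ≤ F := iSup₂_le fun j _ => hsup ▸ le_iSup B j
    have hn : C ≤ Subgroup.normalizer (O : Set G) :=
      (hcomm.trans (Subgroup.centralizer_le hOF)).trans (Subgroup.centralizer_le_normalizer _)
    have hxm : x ∈ ((C ⊔ O : Subgroup G) : Set G) := hle hx'
    rw [Subgroup.coe_mul_of_left_le_normalizer_right _ _ hn] at hxm
    obtain ⟨c, hc, y, hy, rfl⟩ := hxm
    have hcF : c ∈ C ⊓ F := ⟨hc, by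
      have h1 := F.mul_mem (hsup ▸ le_iSup B i hx) (F.inv_mem (hOF hy))
      simpa using h1⟩
    rw [hCF, Subgroup.mem_bot] at hcF
    subst hcF
    have h2 : (1 : G) * y ∈ B i ⊓ O := ⟨hx, by simpa using hy⟩
    have h3 : B i ⊓ O = ⊥ := disjoint_iff.mp (hind i)
    rwa [h3, Subgroup.mem_bot] at h2

/-- A best offender is the direct product of transvection groups. -/
theorem exists_decomposition (S : OffenderSetup p V H Q) :
    ∀ {A : Subgroup G}, Cfsg.IsBestOffenderOn p V A → A ≤ H →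
      ∃ (k : ℕ) (B : Fin k → Subgroup G), (∀ i, B i ≤ A ∧ IsTransv p V H (B i)) ∧
        iSupIndep B ∧ ⨆ i, B i = A := by
  suffices key : ∀ (n : ℕ) (A : Subgroup G), Nat.card A ≤ n → Cfsg.IsBestOffenderOn p V A → A ≤ H →
      ∃ (k : ℕ) (B : Fin k → Subgroup G), (∀ i, B i ≤ A ∧ IsTransv p V H (B i)) ∧
        iSupIndep B ∧ ⨆ i, B i = A from fun {A} h h' => key _ A le_rfl h h'
  intro n
  induction n with
  | zero => intro A hn; exact absurd hn (by have := Nat.card_pos (α := A); omega)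
  | succ n ih =>
    intro A hn hA hAH
    rcases Subgroup.bot_or_exists_ne_one A with rfl | ⟨a, ha, ha1⟩
    · exact ⟨0, Fin.elim0, fun i => i.elim0, fun i => i.elim0, by simp⟩
    have hAe := bestOffender_elemAb S hA hAH
    obtain ⟨F, hFA, haF, hFi, hFm⟩ := exists_bad_hyperplane S hA hAH ha ha1
    obtain ⟨C, ⟨hCA, hCm, hCF⟩, hmin⟩ := Set.Finite.exists_minimal
      (s := {C : Subgroup G | C ≤ A ∧ meas V C = meas V A ∧ ¬ C ≤ F}) (Set.toFinite _)
      ⟨A, le_rfl, rfl, fun h => haF (h ha)⟩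
    have hCb := bestOffender_of_meas_eq hA hCA hCm
    obtain ⟨c, hcC, hcF⟩ := SetLike.not_le_iff_exists.mp hCF
    have hc1 : c ≠ 1 := fun h => hcF (h ▸ F.one_mem)
    obtain ⟨G₁, hG₁C, -, hG₁i, hG₁m⟩ := exists_bad_hyperplane S hCb (hCA.trans hAH) hcC hc1
    have hbadF : ∀ D : Subgroup G, D ≤ C → D.relIndex C = p → meas V D = meas V C → D ≤ F := by
      intro D hDC hDi hDm
      by_contra hDF
      have h1 := hmin (y := D) ⟨hDC.trans hCA, hDm.trans hCm, hDF⟩ hDC
      have h2 : D.relIndex C = 1 := Subgroup.relIndex_eq_one.mpr h1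
      exact hp.out.one_lt.ne (h2.symm.trans hDi)
    have hG₁bot : G₁ = ⊥ := by
      rcases Subgroup.bot_or_exists_ne_one G₁ with h | ⟨g, hg, hg1⟩
      · exact h
      exfalso
      obtain ⟨G₂, hG₂C, hgG₂, hG₂i, hG₂m⟩ :=
        exists_bad_hyperplane S hCb (hCA.trans hAH) (hG₁C hg) hg1
      have hle : G₁ ⊔ G₂ ≤ C := sup_le hG₁C hG₂C
      have h1 : (G₁ ⊔ G₂).relIndex C ∣ p :=
        hG₂i ▸ Dvd.intro_left _ (Subgroup.relIndex_mul_relIndex G₂ _ C le_sup_right hle)
      rcases (Nat.dvd_prime hp.out).mp h1 with h2 | h2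
      · exact hCF ((Subgroup.relIndex_eq_one.mp h2).trans
          (sup_le (hbadF G₁ hG₁C hG₁i hG₁m) (hbadF G₂ hG₂C hG₂i hG₂m)))
      · have h3 := Subgroup.relIndex_mul_relIndex G₂ (G₁ ⊔ G₂) C le_sup_right hle
        rw [h2, hG₂i] at h3
        have h4 : G₂.relIndex (G₁ ⊔ G₂) = 1 := by
          have := hp.out.pos
          nlinarith
        exact hgG₂ ((Subgroup.relIndex_eq_one.mp h4) (Subgroup.mem_sup_left hg))
    have hCcard : Nat.card C = p := by
      rw [← hG₁i, hG₁bot, Subgroup.relIndex_bot_left]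
    have hCFb : C ⊓ F = ⊥ := (mem_bot_or_eq_of_card_prime hCcard F).resolve_right hCF
    have hlt : Nat.card F < Nat.card A := lt_of_le_of_ne (Subgroup.card_le_of_le hFA) fun he =>
      haF ((Subgroup.eq_of_le_of_card_ge hFA he.ge) ▸ ha)
    obtain ⟨k, B, hB, hind, hsup⟩ := ih F (by omega) (bestOffender_of_meas_eq hA hFA hFm)
      (hFA.trans hAH)
    have hcomm : C ≤ Subgroup.centralizer (F : Set G) := fun x hx =>
      Subgroup.mem_centralizer_iff.mpr fun y hy => PGroups.elemAb_comm hAe (hFA hy) (hCA hx)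
    refine ⟨k + 1, Fin.cons C B, ?_, iSupIndep_cons hcomm hind hsup hCFb, ?_⟩
    · intro i
      induction i using Fin.cases with
      | zero => exact ⟨hCA, isTransv_of_bestOffender S hCb (hCA.trans hAH) hCcard⟩
      | succ i => exact ⟨(hB i).1.trans hFA, (hB i).2⟩
    · refine le_antisymm (iSup_le fun i => ?_) ?_
      · induction i using Fin.cases with
        | zero => simpa using hCA
        | succ i => simpa using (hB i).1.trans hFA
      · have hle : C ⊔ F ≤ ⨆ i, (Fin.cons C B : Fin (k + 1) → Subgroup G) i := by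
          refine sup_le (le_iSup_of_le 0 (by simp)) ?_
          rw [← hsup]
          exact iSup_le fun i => le_iSup_of_le i.succ (by simp)
        refine le_trans ?_ hle
        rw [← Subgroup.relIndex_eq_one]
        have h1 := Subgroup.relIndex_mul_relIndex F (C ⊔ F) A le_sup_right (sup_le hCA hFA)
        rw [hFi] at h1
        rcases (Nat.dvd_prime hp.out).mp (Dvd.intro_left _ h1) with h2 | h2
        · exact h2
        · rw [h2] at h1
          have h3 : F.relIndex (C ⊔ F) = 1 := by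
            have := hp.out.pos
            nlinarith
          exact absurd (le_sup_left.trans (Subgroup.relIndex_eq_one.mp h3)) hCF

/-- A minimal nontrivially-acting best offender is a transvection group. -/
theorem isTransv_of_minimal (S : OffenderSetup p V H Q) (hA : Cfsg.IsBestOffenderOn p V A)
    (hAH : A ≤ H) (hne : ⁅V, A⁆ ≠ ⊥)
    (hmin : ∀ B : Subgroup G, B ≤ A → Cfsg.IsBestOffenderOn p V B → ⁅V, B⁆ ≠ ⊥ → B = A) :
    IsTransv p V H A := by
  obtain ⟨k, B, hB, -, hsup⟩ := exists_decomposition S hA hAH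
  rcases k with _ | k
  · refine absurd ?_ hne
    have h : A = ⊥ := le_bot_iff.mp (hsup ▸ iSup_le fun i => i.elim0)
    rw [h, Subgroup.commutator_bot_right]
  have h0 := (hB 0).2
  have hnt : ⁅V, B 0⁆ ≠ ⊥ := fun h =>
    fixOn_ne_self S h0.1 (isTransv_ne_bot h0) (fixOn_eq_self_iff_commutator.mpr h)
  have := hmin (B 0) (hB 0).1 (isTransv_bestOffender S h0) hnt
  exact this ▸ h0

theorem isTransv_relIndex (S : OffenderSetup p V H Q) (hB : IsTransv p V H B) :
    (fixOn V B).relIndex V = p := by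
  have h := hB.2.2
  rw [meas, hB.2.1] at h
  have h1 : Nat.card (fixOn V B) * (fixOn V B).relIndex V = Nat.card V := by
    rw [Subgroup.relIndex, ← Nat.card_congr (Subgroup.subgroupOfEquivOfLe (fixOn_le (V := V) (A := B))).toEquiv,
      Subgroup.card_mul_index]
  have h2 : 0 < Nat.card (fixOn V B) := Nat.card_pos
  nlinarith

theorem isTransv_eq_zpowers (hB : IsTransv p V H B) {b : G} (hb : b ∈ B) (hb1 : b ≠ 1) :
    Subgroup.zpowers b = B := by
  refine Subgroup.eq_of_le_of_card_ge (Subgroup.zpowers_le.mpr hb) ?_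
  rw [Nat.card_zpowers, hB.2.1,
    PGroups.elemAb_orderOf (PGroups.elemAb_of_card_eq_prime hB.2.1) hb hb1]

theorem isTransv_card_range (S : OffenderSetup p V H Q) (hB : IsTransv p V H B) {b : G}
    (hb : b ∈ B) (hb1 : b ≠ 1) :
    Nat.card (commRange S.elab'.1 b (S.norm (hB.1 hb))) = p := by
  have h1 := card_eq_fix_mul_range S.elab'.1 (S.norm (hB.1 hb))
  rw [isTransv_eq_zpowers hB hb hb1] at h1
  have h2 := hB.2.2
  rw [meas, hB.2.1] at h2
  have h3 : 0 < Nat.card (fixOn V B) := Nat.card_pos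
  nlinarith

/-- `[V,B]` has order `p` and is fixed by `B`. -/
theorem isTransv_commutator (S : OffenderSetup p V H Q) (hB : IsTransv p V H B) :
    Nat.card (⁅V, B⁆ : Subgroup G) = p ∧ ⁅V, B⁆ ≤ fixOn V B := by
  obtain ⟨b, hb, hb1⟩ := (Subgroup.bot_or_exists_ne_one B).resolve_left (isTransv_ne_bot hB)
  have hbN := S.norm (hB.1 hb)
  have hBz := isTransv_eq_zpowers hB hb hb1
  set R := commRange S.elab'.1 b hbN with hR
  have hRc : Nat.card R = p := isTransv_card_range S hB hb hb1
  have hRV : R ≤ V := Subgroup.map_subtype_le _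
  have hBR : B ≤ Subgroup.normalizer (R : Set G) := by
    rw [← hBz, Subgroup.zpowers_le]
    refine Subgroup.mem_normalizer_iff_map_conj_eq.mpr (Subgroup.eq_of_le_of_card_ge ?_
      (Subgroup.card_map_of_injective (MulAut.conj b).injective).ge)
    rintro _ ⟨x, hx, rfl⟩
    obtain ⟨v, hv, rfl⟩ := (mem_commRange S.elab'.1 hbN).mp hx
    refine (mem_commRange S.elab'.1 hbN).mpr ⟨b * v * b⁻¹, (Subgroup.mem_normalizer_iff.mp hbN v).mp hv, ?_⟩
    show ⁅b * v * b⁻¹, b⁆ = b * ⁅v, b⁆ * b⁻¹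
    simp only [commutatorElement_def]
    group
  have hRfix : R ≤ fixOn V B := by
    have hne : R ≠ ⊥ := fun h => by
      rw [h, Subgroup.card_bot] at hRc
      exact hp.out.one_lt.ne hRc
    have h1 := fixOn_ne_bot hBR (pActsOn_of_isPGroup (p := p)
      (PGroups.elemAb_isPGroup (PGroups.elemAb_of_card_eq_prime hB.2.1))) ((isPGroup_V S).to_le hRV) hne
    have h2 : R ≤ Subgroup.centralizer (B : Set G) := by
      rcases mem_bot_or_eq_of_card_prime hRc (Subgroup.centralizer (B : Set G)) with h | h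
      · exact absurd h h1
      · exact h
    exact le_inf hRV h2
  have hle : ⁅V, B⁆ = R := by
    refine le_antisymm (Subgroup.commutator_le.mpr fun v hv y hy => ?_) fun x hx => ?_
    · rw [← hBz] at hy
      obtain ⟨n, rfl⟩ := mem_powers_iff_mem_zpowers.mpr hy
      have hmem : ⁅v, b⁆ ∈ R := (mem_commRange S.elab'.1 hbN).mpr ⟨v, hv, rfl⟩
      have h4 := pow_conj_eq (v := v) (a := b) ((mem_fixOn.mp (hRfix hmem)).2 b hb) n
      have h5 : ⁅v, b ^ n⁆ = v * (b ^ n * v * (b ^ n)⁻¹)⁻¹ := by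
        simp only [commutatorElement_def]; group
      rw [h5, h4]
      simp only [inv_pow, mul_inv_rev, inv_inv, mul_inv_cancel_left]
      exact R.pow_mem hmem n
    · obtain ⟨v, hv, rfl⟩ := (mem_commRange S.elab'.1 hbN).mp hx
      exact Subgroup.commutator_mem_commutator hv hb
  rw [hle]
  exact ⟨hRc, hRfix⟩

theorem map_conj_self {g : G} (hV : g ∈ Subgroup.normalizer (V : Set G)) :
    V.map (MulAut.conj g).toMonoidHom = V :=
  Subgroup.mem_normalizer_iff_map_conj_eq.mp hV

theorem map_conj_fixOn {g : G} (hV : g ∈ Subgroup.normalizer (V : Set G)) (B : Subgroup G) :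
    fixOn V (B.map (MulAut.conj g).toMonoidHom) = (fixOn V B).map (MulAut.conj g).toMonoidHom := by
  rw [fixOn, fixOn, Subgroup.map_inf _ _ _ (MulAut.conj g).injective, map_conj_self hV]
  congr 1
  ext x
  simp only [Subgroup.mem_centralizer_iff, Subgroup.mem_map, SetLike.mem_coe]
  constructor
  · intro h
    refine ⟨g⁻¹ * x * g, fun b hb => ?_, by simp [mul_assoc]⟩
    have h2 := h (g * b * g⁻¹) ⟨b, hb, rfl⟩
    calc b * (g⁻¹ * x * g) = g⁻¹ * (g * b * g⁻¹ * x) * g := by group
      _ = g⁻¹ * (x * (g * b * g⁻¹)) * g := by rw [h2]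
      _ = _ := by group
  · rintro ⟨y, hy, rfl⟩ _ ⟨b, hb, rfl⟩
    simp only [MulEquiv.coe_toMonoidHom, ← map_mul, hy b hb]

theorem isTransv_conj (S : OffenderSetup p V H Q) (hB : IsTransv p V H B) {g : G} (hg : g ∈ H) :
    IsTransv p V H (B.map (MulAut.conj g).toMonoidHom) := by
  refine ⟨?_, by rw [Subgroup.card_map_of_injective (MulAut.conj g).injective, hB.2.1], ?_⟩
  · rintro _ ⟨b, hb, rfl⟩
    exact H.mul_mem (H.mul_mem hg (hB.1 hb)) (H.inv_mem hg)
  · rw [meas, map_conj_fixOn (S.norm hg), Subgroup.card_map_of_injective (MulAut.conj g).injective,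
      Subgroup.card_map_of_injective (MulAut.conj g).injective]
    exact hB.2.2

theorem commutator_conj {g : G} (hV : g ∈ Subgroup.normalizer (V : Set G)) (B : Subgroup G) :
    ⁅V, B.map (MulAut.conj g).toMonoidHom⁆ = (⁅V, B⁆ : Subgroup G).map (MulAut.conj g).toMonoidHom := by
  rw [Subgroup.map_commutator, map_conj_self hV]

end Cfsg.Agent.Lib.PLocal
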