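import Cfsg.Agent.Lib.PLocal.Action

/-!
# Stabilisers of a step of a series

Owner: helper19.
-/

namespace Cfsg.Agent.Lib.PLocal

open Subgroup
open scoped commutatorElement

variable {G : Type*} [Group G] {p : ℕ}

/-- The elements normalising `U` and acting trivially on `V` modulo `U`. -/
def stabStep (V U : Subgroup G) : Subgroup G where
  carrier := {x | x ∈ Subgroup.normalizer (U : Set G) ∧ ∀ v ∈ V, ⁅v, x⁆ ∈ U}
  one_mem' := ⟨one_mem _, fun v _ => by simp [commutatorElement_def, one_mem]⟩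
  mul_mem' := by
    rintro x y ⟨hx, hx'⟩ ⟨hy, hy'⟩
    refine ⟨mul_mem hx hy, fun v hv => ?_⟩
    rw [commutatorElement_mul_right_eq_mul_conj, mul_assoc (a := ⁅v, x⁆),
      mul_assoc (a := ⁅v, x⁆)]
    exact U.mul_mem (hx' v hv) ((Subgroup.mem_normalizer_iff.mp hx _).mp (hy' v hv))
  inv_mem' := by
    rintro x ⟨hx, hx'⟩
    refine ⟨inv_mem hx, fun v hv => ?_⟩
    rw [commutatorElement_inv_right, ← commutatorElement_inv v x]
    exact (Subgroup.mem_normalizer_iff''.mp hx _).mp (U.inv_mem (hx' v hv))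

theorem mem_stabStep {V U : Subgroup G} {x : G} :
    x ∈ stabStep V U ↔ x ∈ Subgroup.normalizer (U : Set G) ∧ ∀ v ∈ V, ⁅v, x⁆ ∈ U := Iff.rfl

theorem le_stabStep {A V U : Subgroup G} (hUV : U ≤ V) (h : ⁅V, A⁆ ≤ U) : A ≤ stabStep V U :=
  fun _ ha => ⟨Subgroup.le_normalizer_iff_commutator_le_left.mpr
      ((Subgroup.commutator_mono hUV le_rfl).trans h) ha,
    fun _ hv => h (Subgroup.commutator_mem_commutator hv ha)⟩

/-- An element stabilising a three step series has `p²`-th power centralising the top. -/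
theorem pow_sq_mem_centralizer {V U U' : Subgroup G} (hV : ∀ v ∈ V, v ^ p = 1) (hU : U ≤ V)
    (hU' : U' ≤ V) {x : G} (h1 : x ∈ stabStep V U) (h2 : x ∈ stabStep U U')
    (h3 : x ∈ Subgroup.centralizer (U' : Set G)) :
    x ^ (p * p) ∈ Subgroup.centralizer (V : Set G) := by
  have hxU : x ^ p ∈ Subgroup.centralizer (U : Set G) :=
    pow_mem_centralizer_of_two_step (fun w hw => hV w (hU' hw)) h2.2
      (fun w hw => (Subgroup.mem_centralizer_iff.mp h3 w hw).symm)
  rw [pow_mul]
  exact pow_mem_centralizer_of_two_step (fun w hw => hV w (hU hw))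
    ((stabStep V U).pow_mem h1 p).2
    (fun w hw => (Subgroup.mem_centralizer_iff.mp hxU w hw).symm)

end Cfsg.Agent.Lib.PLocal
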