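import Cfsg.Agent.Lib.PLocal.OffenderBasic
import Cfsg.Agent.Lib.PLocal.Frame
import Cfsg.Agent.Lib.PLocal.Stab

/-!
# Two transvection groups generating a non-`p`-group

Owner: helper19.
-/

namespace Cfsg.Agent.Lib.PLocal

open Subgroup
open scoped commutatorElement

variable {G : Type*} [Group G] [Finite G] {p : ℕ} [hp : Fact p.Prime] {V H Q A B : Subgroup G}

/-- Two transvection groups generating a group which is not a `p`-group. -/
structure TransvPair (p : ℕ) (V H Q A B : Subgroup G) : Prop where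
  setup : OffenderSetup p V H Q
  left : IsTransv p V H A
  right : IsTransv p V H B
  not_pGroup : ¬ IsPGroup p ↥(A ⊔ B)

theorem isPGroup_sup_of_range_le (S : OffenderSetup p V H Q) (hA : IsTransv p V H A)
    (hB : IsTransv p V H B) (h : ⁅V, B⁆ ≤ fixOn V A) : IsPGroup p ↥(A ⊔ B) := by
  obtain ⟨-, hAf⟩ := isTransv_commutator S hA
  obtain ⟨-, hBf⟩ := isTransv_commutator S hB
  set U : Subgroup G := ⁅V, A⁆ ⊔ ⁅V, B⁆ with hU
  set U' : Subgroup G := ⁅V, B⁆ with hU'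
  have hUV : U ≤ V := sup_le (hAf.trans fixOn_le) (hBf.trans fixOn_le)
  have hU'U : U' ≤ U := le_sup_right
  have hUA : U ≤ fixOn V A := sup_le hAf h
  have hA' : A ≤ stabStep V U ⊓ stabStep U U' ⊓ Subgroup.centralizer (U' : Set G) := by
    refine le_inf (le_inf (le_stabStep hUV le_sup_left) (le_stabStep hU'U ?_))
      (Subgroup.le_centralizer_iff.mp (h.trans inf_le_right))
    rw [Subgroup.commutator_eq_bot_iff_le_centralizer.mpr (hUA.trans inf_le_right)]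
    exact bot_le
  have hB' : B ≤ stabStep V U ⊓ stabStep U U' ⊓ Subgroup.centralizer (U' : Set G) :=
    le_inf (le_inf (le_stabStep hUV le_sup_right)
      (le_stabStep hU'U (Subgroup.commutator_mono hUV le_rfl)))
      (Subgroup.le_centralizer_iff.mp (hBf.trans inf_le_right))
  rintro ⟨x, hx⟩
  refine ⟨2, Subtype.ext ?_⟩
  have h' := sup_le hA' hB' hx
  have h3 : x ^ (p * p) ∈ H ⊓ Subgroup.centralizer (V : Set G) :=
    ⟨H.pow_mem ((sup_le hA.1 hB.1) hx) _, pow_sq_mem_centralizer S.elab'.2 hUV (hU'U.trans hUV)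
      h'.1.1 h'.1.2 h'.2⟩
  rw [S.faithful, Subgroup.mem_bot] at h3
  simpa [pow_two] using h3

namespace TransvPair

theorem symm (P : TransvPair p V H Q A B) : TransvPair p V H Q B A :=
  ⟨P.setup, P.right, P.left, sup_comm A B ▸ P.not_pGroup⟩

theorem range_inf_fix (P : TransvPair p V H Q A B) : ⁅V, B⁆ ⊓ fixOn V A = ⊥ :=
  (mem_bot_or_eq_of_card_prime (isTransv_commutator P.setup P.right).1 _).resolve_right fun h =>
    P.not_pGroup (isPGroup_sup_of_range_le P.setup P.left P.right h)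

theorem range_inf_range (P : TransvPair p V H Q A B) : ⁅V, A⁆ ⊓ ⁅V, B⁆ = ⊥ :=
  le_bot_iff.mp (le_trans (le_inf inf_le_right
    (inf_le_left.trans (isTransv_commutator P.setup P.left).2)) P.range_inf_fix.le)

theorem range_le (P : TransvPair p V H Q A B) : ⁅V, A⁆ ≤ V :=
  (isTransv_commutator P.setup P.left).2.trans fixOn_le

theorem range_normalizer (P : TransvPair p V H Q A B) :
    ⁅V, A⁆ ≤ Subgroup.normalizer ((⁅V, B⁆ : Subgroup G) : Set G) := by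
  refine le_trans ?_ (Subgroup.centralizer_le_normalizer _)
  exact P.range_le.trans ((Subgroup.le_centralizer_iff_isMulCommutative.mpr P.setup.elab'.1).trans
    (Subgroup.centralizer_le P.symm.range_le))

theorem card_W (P : TransvPair p V H Q A B) :
    Nat.card ↥(⁅V, A⁆ ⊔ ⁅V, B⁆) = p ^ 2 := by
  have h := card_sup_mul_card_inf P.range_normalizer
  rw [P.range_inf_range, Subgroup.card_bot, mul_one, (isTransv_commutator P.setup P.left).1,
    (isTransv_commutator P.setup P.right).1] at h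
  rw [h, pow_two]

theorem W_le (P : TransvPair p V H Q A B) : ⁅V, A⁆ ⊔ ⁅V, B⁆ ≤ V :=
  sup_le P.range_le P.symm.range_le

theorem normalizer_W (P : TransvPair p V H Q A B) :
    A ⊔ B ≤ Subgroup.normalizer ((⁅V, A⁆ ⊔ ⁅V, B⁆ : Subgroup G) : Set G) :=
  sup_le ((le_stabStep P.W_le le_sup_left).trans fun _ hx => hx.1)
    ((le_stabStep P.W_le le_sup_right).trans fun _ hx => hx.1)

theorem commutator_eq (P : TransvPair p V H Q A B) :
    ⁅V, A ⊔ B⁆ = ⁅V, A⁆ ⊔ ⁅V, B⁆ := by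
  refine le_antisymm ?_ (sup_le (Subgroup.commutator_mono le_rfl le_sup_left)
    (Subgroup.commutator_mono le_rfl le_sup_right))
  rw [Subgroup.commutator_le]
  intro v hv x hx
  exact (sup_le (le_stabStep P.W_le le_sup_left) (le_stabStep P.W_le le_sup_right) hx).2 v hv

theorem W_inf_fix (P : TransvPair p V H Q A B) :
    (⁅V, A⁆ ⊔ ⁅V, B⁆) ⊓ fixOn V (A ⊔ B) = ⊥ := by
  rw [eq_bot_iff]
  rintro x ⟨hx, hxf⟩
  rw [fixOn_sup] at hxf
  have hxm : x ∈ ((⁅V, A⁆ ⊔ ⁅V, B⁆ : Subgroup G) : Set G) := hx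
  rw [Subgroup.coe_mul_of_left_le_normalizer_right _ _ P.range_normalizer] at hxm
  obtain ⟨y, hy, z, hz, rfl⟩ := hxm
  have h1 : z ∈ ⁅V, B⁆ ⊓ fixOn V A := ⟨hz, by
    have := (fixOn V A).mul_mem ((fixOn V A).inv_mem ((isTransv_commutator P.setup P.left).2 hy)) hxf.1
    simpa using this⟩
  rw [P.range_inf_fix, Subgroup.mem_bot] at h1
  subst h1
  have h2 : y ∈ ⁅V, A⁆ ⊓ fixOn V B := ⟨hy, by simpa using hxf.2⟩
  rw [P.symm.range_inf_fix, Subgroup.mem_bot] at h2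
  simp [h2]

theorem fix_normalizer (P : TransvPair p V H Q A B) :
    ⁅V, A⁆ ⊔ ⁅V, B⁆ ≤ Subgroup.normalizer (fixOn V (A ⊔ B) : Set G) :=
  (P.W_le.trans ((Subgroup.le_centralizer_iff_isMulCommutative.mpr P.setup.elab'.1).trans
    (Subgroup.centralizer_le fixOn_le))).trans (Subgroup.centralizer_le_normalizer _)

theorem card_fix_le (P : TransvPair p V H Q A B) :
    Nat.card V ≤ p ^ 2 * Nat.card (fixOn V (A ⊔ B)) := by
  have hn : fixOn V A ≤ Subgroup.normalizer (fixOn V B : Set G) :=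
    (fixOn_le.trans ((Subgroup.le_centralizer_iff_isMulCommutative.mpr P.setup.elab'.1).trans
      (Subgroup.centralizer_le fixOn_le))).trans (Subgroup.centralizer_le_normalizer _)
  have h := card_sup_mul_card_inf hn
  have h1 : Nat.card ↥(fixOn V A ⊔ fixOn V B) ≤ Nat.card V :=
    Subgroup.card_le_of_le (sup_le fixOn_le fixOn_le)
  have hA := P.left.2.2
  have hB := P.right.2.2
  rw [meas, P.left.2.1] at hA
  rw [meas, P.right.2.1] at hB
  rw [← fixOn_sup] at h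
  have h2 : Nat.card V * Nat.card V ≤
      Nat.card V * (p ^ 2 * Nat.card (fixOn V (A ⊔ B))) :=
    calc Nat.card V * Nat.card V = (p * Nat.card (fixOn V A)) * (p * Nat.card (fixOn V B)) := by
          rw [hA, hB]
      _ = p ^ 2 * (Nat.card (fixOn V A) * Nat.card (fixOn V B)) := by ring
      _ = p ^ 2 * (Nat.card ↥(fixOn V A ⊔ fixOn V B) * Nat.card (fixOn V (A ⊔ B))) := by rw [h]
      _ ≤ p ^ 2 * (Nat.card V * Nat.card (fixOn V (A ⊔ B))) := by gcongr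
      _ = _ := by ring
  exact Nat.le_of_mul_le_mul_left h2 Nat.card_pos

theorem sup_fix (P : TransvPair p V H Q A B) :
    (⁅V, A⁆ ⊔ ⁅V, B⁆) ⊔ fixOn V (A ⊔ B) = V := by
  refine Subgroup.eq_of_le_of_card_ge (sup_le P.W_le fixOn_le) ?_
  have h := card_sup_mul_card_inf P.fix_normalizer
  rw [P.W_inf_fix, Subgroup.card_bot, mul_one, P.card_W] at h
  rw [h]
  exact P.card_fix_le

theorem card_fix_eq (P : TransvPair p V H Q A B) :
    p ^ 2 * Nat.card (fixOn V (A ⊔ B)) = Nat.card V := by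
  have h := card_sup_mul_card_inf P.fix_normalizer
  rw [P.W_inf_fix, Subgroup.card_bot, mul_one, P.card_W, P.sup_fix] at h
  exact h.symm

theorem eq_bot_of_centralizes (P : TransvPair p V H Q A B) {K : Subgroup G} (hK : K ≤ H)
    (h1 : K ≤ Subgroup.centralizer ((⁅V, A⁆ ⊔ ⁅V, B⁆ : Subgroup G) : Set G))
    (h2 : K ≤ Subgroup.centralizer (fixOn V (A ⊔ B) : Set G)) : K = ⊥ := by
  rw [eq_bot_iff, ← P.setup.faithful]
  refine le_inf hK (Subgroup.le_centralizer_iff.mpr ?_)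
  conv_lhs => rw [← P.sup_fix]
  exact sup_le (Subgroup.le_centralizer_iff.mp h1) (Subgroup.le_centralizer_iff.mp h2)

theorem faithful_W (P : TransvPair p V H Q A B) :
    (A ⊔ B) ⊓ Subgroup.centralizer ((⁅V, A⁆ ⊔ ⁅V, B⁆ : Subgroup G) : Set G) = ⊥ :=
  P.eq_bot_of_centralizes (inf_le_left.trans (sup_le P.left.1 P.right.1)) inf_le_right
    (inf_le_left.trans (Subgroup.le_centralizer_iff.mp inf_le_right))

/-- A basis of `W` adapted to generators of `A` and `B`. -/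
theorem exists_frame (P : TransvPair p V H Q A B) :
    ∃ w₁ w₂ a b : G, Frame p (⁅V, A⁆ ⊔ ⁅V, B⁆) w₁ w₂ ∧ w₁ ∈ ⁅V, A⁆ ∧ w₂ ∈ ⁅V, B⁆ ∧ a ∈ A ∧ b ∈ B ∧
      a * w₁ * a⁻¹ = w₁ ∧ a * w₂ * a⁻¹ = w₁ * w₂ ∧ b * w₁ * b⁻¹ = w₁ * w₂ ∧ b * w₂ * b⁻¹ = w₂ := by
  have S := P.setup
  obtain ⟨hAc, hAf⟩ := isTransv_commutator S P.left
  obtain ⟨hBc, hBf⟩ := isTransv_commutator S P.right
  have hne : ∀ {K : Subgroup G}, Nat.card K = p → K ≠ ⊥ := fun {K} h hb => by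
    rw [hb, Subgroup.card_bot] at h
    exact hp.out.one_lt.ne h
  obtain ⟨w₂, hw₂, hw₂1⟩ := (Subgroup.bot_or_exists_ne_one _).resolve_left (hne hBc)
  obtain ⟨a, ha, ha1⟩ := (Subgroup.bot_or_exists_ne_one A).resolve_left (hne P.left.2.1)
  obtain ⟨b₀, hb₀, hb₀1⟩ := (Subgroup.bot_or_exists_ne_one B).resolve_left (hne P.right.2.1)
  have hcomm : ∀ {K : Subgroup G} {y v : G}, y ∈ K → IsTransv p V H K → y ≠ 1 → v ∈ V →
      v ∉ fixOn V K → ⁅v, y⁆ ≠ 1 := by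
    intro K y v hy hK hy1 hv hvf h
    apply hvf
    rw [← isTransv_eq_zpowers hK hy hy1]
    refine mem_fixOn.mpr ⟨hv, fun z hz => ?_⟩
    obtain ⟨n, rfl⟩ := hz
    exact ((show Commute v y from commutatorElement_eq_one_iff_mul_comm.mp h).zpow_right n).symm
  have hw₂V : w₂ ∈ V := P.symm.range_le hw₂
  set w₁ := (⁅w₂, a⁆ : G)⁻¹ with hw₁def
  have hw₂f : w₂ ∉ fixOn V A := fun h => by
    have h' : w₂ ∈ ⁅V, B⁆ ⊓ fixOn V A := ⟨hw₂, h⟩
    rw [P.range_inf_fix, Subgroup.mem_bot] at h'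
    exact hw₂1 h'
  have hw₁ : w₁ ∈ ⁅V, A⁆ := Subgroup.inv_mem _ (Subgroup.commutator_mem_commutator hw₂V ha)
  have hw₁1 : w₁ ≠ 1 := fun h =>
    hcomm ha P.left ha1 hw₂V hw₂f (inv_eq_one.mp h)
  have hw₁f : w₁ ∉ fixOn V B := fun h => by
    have h' : w₁ ∈ ⁅V, A⁆ ⊓ fixOn V B := ⟨hw₁, h⟩
    rw [P.symm.range_inf_fix, Subgroup.mem_bot] at h'
    exact hw₁1 h'
  have hw₁V : w₁ ∈ V := P.range_le hw₁
  have hc : (⁅w₁, b₀⁆ : G)⁻¹ ∈ ⁅V, B⁆ :=
    Subgroup.inv_mem _ (Subgroup.commutator_mem_commutator hw₁V hb₀)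
  have hc1 : (⁅w₁, b₀⁆ : G)⁻¹ ≠ 1 := fun h =>
    hcomm hb₀ P.right hb₀1 hw₁V hw₁f (inv_eq_one.mp h)
  have hcyc : Subgroup.zpowers (⁅w₁, b₀⁆ : G)⁻¹ = ⁅V, B⁆ := by
    refine Subgroup.eq_of_le_of_card_ge (Subgroup.zpowers_le.mpr hc) ?_
    rw [Nat.card_zpowers, hBc, PGroups.elemAb_orderOf (PGroups.elemAb_of_card_eq_prime hBc) hc hc1]
  obtain ⟨n, hn⟩ : w₂ ∈ Submonoid.powers (⁅w₁, b₀⁆ : G)⁻¹ :=
    mem_powers_iff_mem_zpowers.mpr (hcyc ▸ hw₂)
  refine ⟨w₁, w₂, a, b₀ ^ n, ⟨?_, P.card_W, Subgroup.mem_sup_left hw₁, Subgroup.mem_sup_right hw₂,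
    hw₁1, ?_⟩, hw₁, hw₂, ha, B.pow_mem hb₀ n, ?_, ?_, ?_, ?_⟩
  · exact PGroups.elemAb_mono S.elab' P.W_le
  · intro h
    have h' : w₂ ∈ ⁅V, A⁆ ⊓ ⁅V, B⁆ := ⟨Subgroup.zpowers_le.mpr hw₁ h, hw₂⟩
    rw [P.range_inf_range, Subgroup.mem_bot] at h'
    exact hw₂1 h'
  · rw [(mem_fixOn.mp (hAf hw₁)).2 a ha, mul_inv_cancel_right]
  · rw [conj_eq_commutator_inv_mul]
  · rw [pow_conj_eq ((mem_fixOn.mp (hBf (Subgroup.commutator_mem_commutator hw₁V hb₀))).2 b₀ hb₀),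
      show ((⁅w₁, b₀⁆ : G)⁻¹) ^ n = w₂ from hn]
    exact PGroups.elemAb_comm S.elab' hw₂V hw₁V
  · rw [(mem_fixOn.mp (hBf hw₂)).2 _ (B.pow_mem hb₀ n), mul_inv_cancel_right]

omit hp in
theorem closure_eq (A B : Subgroup G) : A ⊔ B = Subgroup.closure ((A : Set G) ∪ B) := by
  rw [Subgroup.closure_union, Subgroup.closure_eq, Subgroup.closure_eq]

theorem gen_pow (P : TransvPair p V H Q A B) : ∀ x ∈ ((A : Set G) ∪ B), x ^ p = 1 := by
  rintro x (hx | hx)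
  · exact (PGroups.elemAb_of_card_eq_prime P.left.2.1).2 x hx
  · exact (PGroups.elemAb_of_card_eq_prime P.right.2.1).2 x hx

/-- `A ⊔ B ≅ SL(2,p)`. -/
theorem equiv_SL (P : TransvPair p V H Q A B) :
    Nonempty (↥(A ⊔ B) ≃* Matrix.SpecialLinearGroup (Fin 2) (ZMod p)) := by
  obtain ⟨w₁, w₂, a, b, F, -, -, ha, hb, e1, e2, e3, e4⟩ := P.exists_frame
  set f := frameSL F P.normalizer_W (closure_eq A B) P.gen_pow
  refine ⟨MulEquiv.ofBijective f ⟨frameSL_injective F _ _ _ P.faithful_W, ?_⟩⟩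
  rw [← MonoidHom.range_eq_top, ← top_le_iff, ← SLTwo.closure_pair_eq_top, Subgroup.closure_le]
  rintro _ (rfl | rfl)
  · exact ⟨⟨a, Subgroup.mem_sup_left ha⟩, frameSL_eq_up F _ _ _ _ e1 e2⟩
  · exact ⟨⟨b, Subgroup.mem_sup_right hb⟩, frameSL_eq_lo F _ _ _ _ e3 e4⟩

/-- Every nontrivial element of `W` lies in `[V, A^d]` for some `d ∈ ⟨A,B⟩`. -/
theorem exists_conj_mem (P : TransvPair p V H Q A B) {u : G} (hu : u ∈ ⁅V, A⁆ ⊔ ⁅V, B⁆) :
    ∃ d ∈ A ⊔ B, u ∈ (⁅V, A⁆ : Subgroup G).map (MulAut.conj d).toMonoidHom := by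
  obtain ⟨w₁, w₂, a, b, F, hw₁, -, ha, hb, e1, e2, e3, e4⟩ := P.exists_frame
  obtain ⟨v, hv⟩ := (frameEquiv F).surjective ⟨u, hu⟩
  have hu' : w₁ ^ (v 0).val * w₂ ^ (v 1).val = u := congrArg Subtype.val hv
  have hcomm : Commute w₁ w₂ := PGroups.elemAb_comm F.elab' F.mem₁ F.mem₂
  by_cases hj : v 1 = 0
  · refine ⟨1, one_mem _, u, ?_, by simp⟩
    rw [← hu', hj]
    simpa using Subgroup.pow_mem _ hw₁ _
  have had : a⁻¹ * w₂ * a = w₁⁻¹ * w₂ := by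
    have h1 : a * (w₁⁻¹ * w₂) * a⁻¹ = w₂ :=
      calc a * (w₁⁻¹ * w₂) * a⁻¹ = (a * w₁ * a⁻¹)⁻¹ * (a * w₂ * a⁻¹) := by group
        _ = w₂ := by rw [e1, e2, inv_mul_cancel_left]
    conv_lhs => rw [← h1]
    group
  by_cases hi : v 0 = 0
  · refine ⟨a⁻¹ * b, Subgroup.mul_mem_sup (A.inv_mem ha) hb, w₁ ^ (v 1).val,
      Subgroup.pow_mem _ hw₁ _, ?_⟩
    rw [← hu', hi]
    simp only [ZMod.val_zero, pow_zero, one_mul, map_pow]
    congr 1
    show a⁻¹ * b * w₁ * (a⁻¹ * b)⁻¹ = w₂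
    calc a⁻¹ * b * w₁ * (a⁻¹ * b)⁻¹ = a⁻¹ * (b * w₁ * b⁻¹) * a := by group
      _ = (a⁻¹ * w₁ * a) * (a⁻¹ * w₂ * a) := by rw [e3]; group
      _ = w₂ := by
          rw [had]
          have h1 : a⁻¹ * w₁ * a = w₁ := by nth_rw 1 [← e1]; group
          rw [h1, mul_inv_cancel_left]
  · set k : ℕ := (v 1 * (v 0)⁻¹).val with hk
    refine ⟨b ^ k, Subgroup.mem_sup_right (B.pow_mem hb k), w₁ ^ (v 0).val,
      Subgroup.pow_mem _ hw₁ _, ?_⟩
    show b ^ k * w₁ ^ (v 0).val * (b ^ k)⁻¹ = u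
    rw [← conj_pow]
    have hbk : b ^ k * w₁ * (b ^ k)⁻¹ = w₁ * w₂ ^ k := by
      clear_value k
      clear hk
      induction k with
      | zero => simp
      | succ k ih =>
        calc b ^ (k + 1) * w₁ * (b ^ (k + 1))⁻¹ = b * (b ^ k * w₁ * (b ^ k)⁻¹) * b⁻¹ := by
              rw [pow_succ']; group
          _ = (b * w₁ * b⁻¹) * (b * w₂ * b⁻¹) ^ k := by rw [ih, conj_pow]; group
          _ = _ := by rw [e3, e4, mul_assoc, ← pow_succ']
    rw [hbk, (hcomm.pow_right k).mul_pow, ← pow_mul, ← hu',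
      pow_eq_pow_mod (k * (v 0).val) (F.elab'.2 _ F.mem₂)]
    congr 2
    rw [← ZMod.val_natCast, Nat.cast_mul, hk, ZMod.natCast_zmod_val, ZMod.natCast_zmod_val,
      mul_assoc, inv_mul_cancel₀ hi, mul_one]

/-- No proper nontrivial subgroup of `W` is invariant under both `A` and `B`. -/
theorem eq_W_of_invariant (P : TransvPair p V H Q A B) {L : Subgroup G}
    (hL : L ≤ ⁅V, A⁆ ⊔ ⁅V, B⁆) (hne : L ≠ ⊥) (hinv : A ⊔ B ≤ Subgroup.normalizer (L : Set G)) :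
    L = ⁅V, A⁆ ⊔ ⁅V, B⁆ := by
  obtain ⟨hAc, -⟩ := isTransv_commutator P.setup P.left
  obtain ⟨w₁, w₂, a, b, F, hw₁, hw₂, ha, hb, e1, e2, e3, e4⟩ := P.exists_frame
  obtain ⟨u, hu, hu1⟩ := (Subgroup.bot_or_exists_ne_one L).resolve_left hne
  obtain ⟨d, hd, x, hx, hxu⟩ := P.exists_conj_mem (hL hu)
  have hxL : x ∈ L := (Subgroup.mem_normalizer_iff.mp (hinv hd) x).mpr (by
    rw [← hxu] at hu; exact hu)
  have hA : ⁅V, A⁆ ≤ L := by
    rcases mem_bot_or_eq_of_card_prime hAc L with h | h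
    · exfalso
      have hxb : x ∈ ⁅V, A⁆ ⊓ L := ⟨hx, hxL⟩
      rw [h, Subgroup.mem_bot] at hxb
      exact hu1 (by rw [← hxu, hxb]; simp)
    · exact h
  refine le_antisymm hL (sup_le hA ?_)
  have hw₂L : w₂ ∈ L := by
    have h1 := (Subgroup.mem_normalizer_iff.mp (hinv (Subgroup.mem_sup_right hb)) w₁).mp (hA hw₁)
    rw [e3] at h1
    have h2 := L.mul_mem (L.inv_mem (hA hw₁)) h1
    rwa [inv_mul_cancel_left] at h2
  rcases mem_bot_or_eq_of_card_prime (isTransv_commutator P.setup P.right).1 L with h | h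
  · exfalso
    have hwb : w₂ ∈ ⁅V, B⁆ ⊓ L := ⟨hw₂, hw₂L⟩
    rw [h, Subgroup.mem_bot] at hwb
    exact F.not_mem (hwb ▸ Subgroup.one_mem _)
  · exact h

/-- A subgroup generated by elements of order `p` acting faithfully on `W` has order at most
that of `A ⊔ B`. -/
theorem card_le_of_faithful (P : TransvPair p V H Q A B) {K : Subgroup G} {s : Set G}
    (hK : K ≤ Subgroup.normalizer ((⁅V, A⁆ ⊔ ⁅V, B⁆ : Subgroup G) : Set G))
    (hgen : K = Subgroup.closure s) (hs : ∀ x ∈ s, x ^ p = 1)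
    (hf : K ⊓ Subgroup.centralizer ((⁅V, A⁆ ⊔ ⁅V, B⁆ : Subgroup G) : Set G) = ⊥) :
    Nat.card K ≤ Nat.card ↥(A ⊔ B) := by
  obtain ⟨w₁, w₂, a, b, F, -⟩ := P.exists_frame
  obtain ⟨e⟩ := P.equiv_SL
  rw [Nat.card_congr e.toEquiv]
  exact Nat.card_le_card_of_injective _ (frameSL_injective F hK hgen hs hf)

end TransvPair

end Cfsg.Agent.Lib.PLocal
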