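import Cfsg.Agent.Lib.PLocal.PStable
import Cfsg.Agent.Lib.PLocal.PPrimeQuotient
import Cfsg.Agent.Lib.PLocal.CoprimeGen
import Cfsg.Agent.Lib.Transfer.Frobenius
import Cfsg.Agent.Lib.Transfer.PResidual
import Cfsg.Agent.Lib.Frobenius.PComplement
import Cfsg.Agent.Lib.Coprime.Conjugacy
import Cfsg.Agent.Lib.Transfer.FunctorReduction
import Cfsg.Agent.S0624

/-!
# A normal `p`-complement from that of `N(W(S))`

Owner: helper19. For odd `p` a group has a normal `p`-complement as soon as the normalizer of the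
stable normal closure of a Sylow subgroup has one. A minimal counterexample is `p`-solvable with
abelian Sylow 2-subgroups, so `W(S)` is normal in it.
-/

set_option autoImplicit false

namespace Cfsg.Agent.Lib.PLocal.StableComplement

open Cfsg.Agent.Lib.Transfer.PResidual Cfsg.Agent.Lib.Frobenius.PComplement

universe u

variable {G : Type u} [Group G] {p : ℕ}

/-- The stable normal closure of a subgroup, inside the ambient group. -/
abbrev stableOf (p : ℕ) (P : Subgroup G) : Subgroup G :=
  (Cfsg.stableNormalClosure p ↥P).map P.subtype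

theorem map_stableOf {H : Type u} [Group H] (f : G →* H) {P : Subgroup G}
    (hf : Function.Injective (f.comp P.subtype)) :
    (stableOf p P).map f = stableOf p (P.map f) := by
  have hr : (f.comp P.subtype).range = P.map f := by
    rw [MonoidHom.range_comp, Subgroup.range_subtype]
  let e : ↥P ≃* ↥(P.map f) := (MonoidHom.ofInjective hf).trans (MulEquiv.subgroupCongr hr)
  show (stableOf p P).map f = (Cfsg.stableNormalClosure p ↥(P.map f)).map (P.map f).subtype
  rw [← closure_map_equiv e, stableOf, Subgroup.map_map, Subgroup.map_map]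
  rfl

theorem normalizer_le_stableOf (P : Subgroup G) :
    Subgroup.normalizer (P : Set G) ≤ Subgroup.normalizer (stableOf p P : Set G) := fun g hg =>
  PGroups.mem_normalizer_of_map_conj_eq (by
    rw [map_stableOf _ ((MulAut.conj g).injective.comp P.subtype_injective),
      PGroups.map_conj_eq_of_mem_normalizer hg])

theorem stableOf_ne_bot [Finite G] [Fact p.Prime] {P : Subgroup G} (hP : IsPGroup p P)
    (hne : P ≠ ⊥) : stableOf p P ≠ ⊥ := by
  haveI : Nontrivial P := (Subgroup.nontrivial_iff_ne_bot P).mpr hne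
  rw [stableOf, Ne, Subgroup.map_eq_bot_iff_of_injective _ P.subtype_injective]
  exact closure_ne_bot hP

/-- The hypothesis. -/
def Hyp (p : ℕ) (P : Subgroup G) : Prop :=
  Cfsg.HasNormalPComplement p (Subgroup.normalizer (stableOf p P : Set G))

theorem hyp_of_injective {H : Type u} [Group H] [Finite G] [Finite H] [Fact p.Prime] (f : H →* G)
    (hf : Function.Injective f) {S : Subgroup H} (h : Hyp p (S.map f)) : Hyp p S := by
  refine hnpc_of_map_le f hf ?_ h
  rw [← map_stableOf f (hf.comp S.subtype_injective)]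
  exact Subgroup.le_normalizer_map f

variable [hp : Fact p.Prime]

theorem hyp_sylow [Finite G] {P : Sylow p G} (h : Hyp p (P : Subgroup G)) (P' : Sylow p G) :
    Hyp p (P' : Subgroup G) := by
  obtain ⟨g, rfl⟩ := MulAction.exists_smul_eq G P P'
  show Hyp p ((P : Subgroup G).map (MulAut.conj g).toMonoidHom)
  refine hyp_of_injective (MulAut.conj g⁻¹).toMonoidHom (MulAut.conj g⁻¹).injective ?_
  rw [Subgroup.map_map,
    show (MulAut.conj g⁻¹).toMonoidHom.comp (MulAut.conj g).toMonoidHom = MonoidHom.id G from by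
      ext x; simp [mul_assoc], Subgroup.map_id]
  exact h

theorem exists_pCore_ne_bot [Finite G] (hG : ¬ Cfsg.HasNormalPComplement p G) (P₀ : Sylow p G)
    (hP₀ : Hyp p (P₀ : Subgroup G))
    (hind : ∀ H : Subgroup G, H ≠ ⊤ → ∀ S : Sylow p H, Hyp p (S : Subgroup H) →
      Cfsg.HasNormalPComplement p H) :
    Cfsg.pCore p G ≠ ⊥ := by
  classical
  let bad : Set (Subgroup G) := {U | IsPGroup p U ∧ U ≠ ⊥ ∧
    ¬ Cfsg.HasNormalPComplement p (Subgroup.normalizer (U : Set G))}
  have hne : bad.Nonempty := by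
    by_contra h
    apply hG
    refine Transfer.Frobenius.hasNormalPComplement_of_forall_centralizes fun Q hQ hQ1 g hg hgp => ?_
    have hN : Cfsg.HasNormalPComplement p (Subgroup.normalizer (Q : Set G)) :=
      by_contra fun hc => h ⟨Q, hQ, hQ1, hc⟩
    have h1 := Transfer.Frobenius.mem_centralizer_of_hasNormalPComplement hN
      (Q := Q.subgroupOf (Subgroup.normalizer (Q : Set G))) hQ.comap_subtype (g := ⟨g, hg⟩)
      (Subgroup.mem_normalizer_iff.mpr fun x => Subgroup.mem_normalizer_iff.mp hg x)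
      (by rwa [Subgroup.orderOf_mk])
    exact Subgroup.mem_centralizer_iff.mpr fun x hx => congrArg Subtype.val
      (Subgroup.mem_centralizer_iff.mp h1 ⟨x, Subgroup.le_normalizer hx⟩ hx)
  obtain ⟨U, ⟨hU, hU1, hUbad⟩, hmax⟩ := Set.exists_max_image bad
    (fun U => (Nat.card (Subgroup.normalizer (U : Set G))).factorization p) (Set.toFinite _) hne
  let H := Subgroup.normalizer (U : Set G)
  by_cases hH : H = ⊤
  · have : U.Normal := Subgroup.normalizer_eq_top_iff.mp hH
    exact fun h => hU1 (le_bot_iff.mp (h ▸ Cores.le_pCore hU))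
  exfalso
  obtain ⟨S⟩ : Nonempty (Sylow p H) := inferInstance
  let S' : Subgroup G := (S : Subgroup H).map H.subtype
  have hS' : IsPGroup p S' := S.2.map _
  obtain ⟨P, hSP⟩ := hS'.exists_le_sylow
  have hP : Hyp p (P : Subgroup G) := hyp_sylow hP₀ P
  have hUS : U ≤ S' := by
    have : (U.comap H.subtype).Normal := Subgroup.normal_in_normalizer
    intro x hx
    exact ⟨⟨x, Subgroup.le_normalizer hx⟩,
      hU.comap_subtype.le_sylow_of_normal S
        (hx : (⟨x, Subgroup.le_normalizer hx⟩ : H) ∈ U.subgroupOf H), rfl⟩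
  apply hUbad
  refine hind H hH S (hyp_of_injective H.subtype H.subtype_injective ?_)
  show Cfsg.HasNormalPComplement p (Subgroup.normalizer (stableOf p S' : Set G))
  by_cases hSeq : S' = (P : Subgroup G)
  · rw [hSeq]; exact hP
  by_contra hbadJ
  have hS1 : S' ≠ ⊥ := fun h => hU1 (le_bot_iff.mp (h ▸ hUS))
  have hJp : IsPGroup p (stableOf p S') := hS'.to_le (Subgroup.map_subtype_le _)
  have hle := hmax (stableOf p S') ⟨hJp, stableOf_ne_bot hS' hS1, hbadJ⟩
  -- but the normalizer of `S'` in `P` is larger than `S'`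
  let T := (P : Subgroup G) ⊓ Subgroup.normalizer (S' : Set G)
  have hT : IsPGroup p T := P.2.to_le inf_le_left
  have hlt : S' < T := by
    refine lt_of_le_of_ne (le_inf hSP Subgroup.le_normalizer) fun he => ?_
    have hnc := Group.normalizerCondition_of_isNilpotent (h := P.2.isNilpotent)
    have hne : S'.subgroupOf (P : Subgroup G) ≠ ⊤ := fun h =>
      hSeq (le_antisymm hSP (Subgroup.subgroupOf_eq_top.mp h))
    obtain ⟨x, hx, hxn⟩ := SetLike.exists_of_lt (hnc _ (lt_top_iff_ne_top.mpr hne))
    refine hxn ?_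
    change (x : G) ∈ S'
    have hxT : (x : G) ∈ T := by
      refine ⟨x.2, Subgroup.mem_normalizer_iff.mpr fun y => ?_⟩
      constructor
      · intro hy
        exact (Subgroup.mem_normalizer_iff.mp hx ⟨y, hSP hy⟩).mp hy
      · intro hy
        have hyP : y ∈ (P : Subgroup G) := by
          have := (P : Subgroup G).mul_mem ((P : Subgroup G).mul_mem
            ((P : Subgroup G).inv_mem x.2) (hSP hy)) x.2
          simpa [mul_assoc] using this
        exact (Subgroup.mem_normalizer_iff.mp hx ⟨y, hyP⟩).mpr hy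
    rwa [← he] at hxT
  have hTJ : T ≤ Subgroup.normalizer (stableOf p S' : Set G) :=
    inf_le_right.trans (normalizer_le_stableOf S')
  obtain ⟨k, hk⟩ := IsPGroup.iff_card.mp hT
  obtain ⟨j, hj⟩ := IsPGroup.iff_card.mp hS'
  have hjk : j < k := by
    have : Nat.card S' < Nat.card T := lt_of_le_of_ne (Subgroup.card_le_of_le hlt.le)
      fun h => hlt.ne (Subgroup.eq_of_le_of_card_ge hlt.le h.ge)
    rw [hj, hk] at this
    exact (Nat.pow_lt_pow_iff_right hp.out.one_lt).mp this
  have hk' := (hp.out.pow_dvd_iff_le_factorization Nat.card_pos.ne').mp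
    (hk ▸ Subgroup.card_dvd_of_le hTJ)
  have hj' : j = (Nat.card H).factorization p := by
    have h1 := S.card_eq_multiplicity
    have h2 : Nat.card S' = Nat.card (S : Subgroup H) := Subgroup.card_subtype _ _
    rw [hj, h1] at h2
    exact Nat.pow_right_injective hp.out.two_le h2
  have hle' : (Nat.card (Subgroup.normalizer (stableOf p S' : Set G))).factorization p
      ≤ (Nat.card H).factorization p := hle
  omega

/-- The inductive step. -/
theorem step [Finite G] (hp2 : p ≠ 2) (P : Sylow p G) (hP : Hyp p (P : Subgroup G))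
    (hsub : ∀ H : Subgroup G, H ≠ ⊤ → ∀ S : Sylow p H, Hyp p (S : Subgroup H) →
      Cfsg.HasNormalPComplement p H)
    (hquot : ∀ (N : Subgroup G) [N.Normal], N ≠ ⊥ → ∀ S : Sylow p (G ⧸ N),
      Hyp p (S : Subgroup (G ⧸ N)) → Cfsg.HasNormalPComplement p (G ⧸ N)) :
    Cfsg.HasNormalPComplement p G := by
  classical
  by_contra hG
  have hO' : Cfsg.pPrimeCore p G = ⊥ := by
    by_contra hne
    apply hG
    let M := Cfsg.pPrimeCore p G
    have hM : ¬ p ∣ Nat.card M := Cores.not_dvd_card_pPrimeCore p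
    have hMc := Cores.pPrimeCore_coprime (G := G) p
    refine hasNormalPComplement_of_quotient_pPrime hM
      (hquot M hne (P.mapSurjective (QuotientGroup.mk'_surjective M)) ?_)
    have hinj := comp_subtype_injective_of_coprime (N := M) hMc P.2
    rw [Sylow.coe_mapSurjective]
    refine hnpc_map (QuotientGroup.mk' M) ?_ hP
    rw [← map_stableOf _ hinj]
    exact normalizer_map_le_map_normalizer M _ hMc (P.2.to_le (Subgroup.map_subtype_le _))
  let Q := Cfsg.pCore p G
  have hQ1 : Q ≠ ⊥ := exists_pCore_ne_bot hG P hP hsub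
  have hQp : IsPGroup p Q := Cores.pCore_isPGroup p
  have hQP : Q ≤ (P : Subgroup G) := Cores.pCore_le_sylow P
  have hnorm : ¬ (stableOf p (P : Subgroup G)).Normal := fun h => hG (hnpc_of_top_le
    (by rw [Subgroup.normalizer_eq_top_iff.mpr h]) hP)
  have hQne : Q ≠ (P : Subgroup G) := by
    intro h
    apply hnorm
    have hPn : (P : Subgroup G).Normal := h ▸ inferInstance
    rw [← Subgroup.normalizer_eq_top_iff, eq_top_iff]
    exact le_trans (Subgroup.normalizer_eq_top_iff.mpr hPn).ge (normalizer_le_stableOf _)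
  let f := QuotientGroup.mk' Q
  have hfs : Function.Surjective f := QuotientGroup.mk'_surjective Q
  let Pb : Sylow p (G ⧸ Q) := P.mapSurjective hfs
  have hPbne : (Pb : Subgroup (G ⧸ Q)) ≠ ⊥ := by
    rw [Sylow.coe_mapSurjective, Ne, Subgroup.map_eq_bot_iff, QuotientGroup.ker_mk']
    exact fun h => hQne (le_antisymm hQP h)
  have hcore : Cfsg.pCore p (G ⧸ Q) = ⊥ := Cores.pCore_quotient_pCore p
  have hover : ∀ L : Subgroup G, (P : Subgroup G) ≤ L → L ≠ ⊤ → Cfsg.HasNormalPComplement p L := by
    intro L hPL hL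
    refine hsub L hL (P.subtype hPL) (hyp_of_injective L.subtype L.subtype_injective ?_)
    rw [Sylow.coe_subtype, Subgroup.subgroupOf_map_subtype, inf_eq_left.mpr hPL]
    exact hP
  have hGb : Cfsg.HasNormalPComplement p (G ⧸ Q) := by
    refine hquot Q hQ1 Pb ?_
    set K := Subgroup.normalizer (stableOf p (Pb : Subgroup (G ⧸ Q)) : Set (G ⧸ Q)) with hK
    have hPK : (Pb : Subgroup (G ⧸ Q)) ≤ K :=
      Subgroup.le_normalizer.trans (normalizer_le_stableOf _)
    have hKne : K ≠ ⊤ := by
      intro h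
      have := Subgroup.normalizer_eq_top_iff.mp h
      refine stableOf_ne_bot Pb.2 hPbne (le_bot_iff.mp (hcore ▸ Cores.le_pCore ?_))
      exact Pb.2.to_le (Subgroup.map_subtype_le _)
    show Cfsg.HasNormalPComplement p K
    refine hnpc_map f (A := K.comap f) (by rw [Subgroup.map_comap_eq_self_of_surjective hfs])
      (hover _ ?_ ?_)
    · exact fun x hx => hPK (Subgroup.mem_map_of_mem f hx)
    · intro h
      apply hKne
      rw [← Subgroup.map_comap_eq_self_of_surjective hfs K, h, Subgroup.map_top_of_surjective f hfs]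
  let K := Cfsg.pResidual p (G ⧸ Q)
  have hKp : ¬ p ∣ Nat.card K := hasNormalPComplement_iff_not_dvd.mp hGb
  have hKc : (Nat.card K).Coprime p := (hp.out.coprime_iff_not_dvd.mpr hKp).symm
  have hsol : Cfsg.IsPSolvable p G :=
    PSolvable.isPSolvable_of_extension Q (PSolvable.isPSolvable_of_isPGroup hQp)
      (PSolvable.isPSolvable_of_extension K (PSolvable.isPSolvable_of_coprime hKc)
        (PSolvable.isPSolvable_of_isPGroup isPGroup_quotient))
  have hCQ : Subgroup.centralizer (Q : Set G) ≤ Q := PSolvable.centralizer_pCore_le hsol hO'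
  have hY : ∀ Y : Subgroup (G ⧸ Q), Y ≤ K →
      (Pb : Subgroup (G ⧸ Q)) ≤ Subgroup.normalizer (Y : Set (G ⧸ Q)) → Y = ⊥ ∨ Y = K := by
    intro Y hYK hPY
    have hYp : ¬ p ∣ Nat.card Y := fun h => hKp (h.trans (Subgroup.card_dvd_of_le hYK))
    by_cases hL : (Pb : Subgroup (G ⧸ Q)) ⊔ Y = ⊤
    · right
      refine Subgroup.eq_of_le_of_card_ge hYK (le_of_eq ?_)
      have h1 := Lib.Coprime.card_sup_of_disjoint hPY (disjoint_of_not_dvd hYp Pb.2).symm
      rw [hL, Subgroup.card_top, ← (isComplement'_pResidual hGb Pb).card_mul_card, mul_comm] at h1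
      exact Nat.eq_of_mul_eq_mul_left Nat.card_pos h1
    left
    let L := ((Pb : Subgroup (G ⧸ Q)) ⊔ Y).comap f
    have hPL : (P : Subgroup G) ≤ L := fun x hx =>
      le_sup_left (b := Y) (Subgroup.mem_map_of_mem f hx : f x ∈ (Pb : Subgroup (G ⧸ Q)))
    have hLne : L ≠ ⊤ := by
      intro h
      apply hL
      rw [← Subgroup.map_comap_eq_self_of_surjective hfs ((Pb : Subgroup (G ⧸ Q)) ⊔ Y)]
      change L.map f = ⊤
      rw [h, Subgroup.map_top_of_surjective f hfs]
    have hLc := hover L hPL hLne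
    have hres : ∀ x : G, x ∈ L → (orderOf x).Coprime p → x = 1 := by
      intro x hx hxp
      have hxC : x ∈ Subgroup.centralizer (Q : Set G) := by
        have h1 := Transfer.Frobenius.mem_centralizer_of_hasNormalPComplement hLc
          (Q := Q.subgroupOf L) hQp.comap_subtype (g := ⟨x, hx⟩)
          (by
            rw [Subgroup.normalizer_eq_top_iff.mpr
              (inferInstance : (Q.subgroupOf L).Normal)]
            exact Subgroup.mem_top _)
          (by rwa [Subgroup.orderOf_mk])
        exact Subgroup.mem_centralizer_iff.mpr fun y hy => congrArg Subtype.val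
          (Subgroup.mem_centralizer_iff.mp h1 ⟨y, hPL (hQP hy)⟩ hy)
      exact congrArg Subtype.val
        (eq_one_of_pGroup_of_coprime hQp (a := (⟨x, hCQ hxC⟩ : Q)) (by rwa [Subgroup.orderOf_mk]))
    have hLp : IsPGroup p L := by
      rw [IsPGroup.iff_orderOf]
      intro x
      obtain ⟨a, b, ha, hb, hab, -, ⟨k, hk⟩, hbp⟩ :=
        exists_pPart_mul_pPrimePart (p := p) x (isOfFinOrder_of_finite x)
      have hb1 : (b : G) = 1 := hres b b.2 (by rwa [Subgroup.orderOf_coe])
      rw [show b = 1 from Subtype.ext hb1, mul_one] at hab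
      subst hab
      obtain ⟨i, -, hi⟩ := (Nat.dvd_prime_pow hp.out).mp (orderOf_dvd_of_pow_eq_one hk)
      exact ⟨i, hi⟩
    have hYP : IsPGroup p Y := by
      refine (hLp.map f).to_le ?_
      change Y ≤ L.map f
      rw [Subgroup.map_comap_eq_self_of_surjective hfs]
      exact le_sup_right
    obtain ⟨k, hk⟩ := IsPGroup.iff_card.mp hYP
    rw [← Subgroup.card_eq_one, hk]
    rcases Nat.eq_zero_or_pos k with h0 | h0
    · rw [h0, pow_zero]
    · exact absurd (hk ▸ dvd_pow_self p h0.ne') hYp
  -- Sylow `2`-subgroups of `K` are abelian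
  haveI : Fact (Nat.Prime 2) := ⟨Nat.prime_two⟩
  have hKn : K.Normal := inferInstance
  obtain ⟨R, hR⟩ := exists_invariant_sylow Pb.2
    (le_top.trans (Subgroup.normalizer_eq_top_iff.mpr hKn).ge) hKc 2
  have hRcomm : ∀ x ∈ (R : Subgroup K), ∀ y ∈ (R : Subgroup K), x * y = y * x := by
    rcases hY _ (Subgroup.map_subtype_le _) hR with h | h
    · rw [Subgroup.map_eq_bot_iff_of_injective _ K.subtype_injective] at h
      intro x hx y hy
      rw [h, Subgroup.mem_bot] at hx
      rw [hx, one_mul, mul_one]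
    · have hK2 : IsPGroup 2 K := h ▸ R.2.map K.subtype
      haveI := hK2.isNilpotent
      rcases hY ⁅K, K⁆ (Subgroup.commutator_le_self K)
          (by rw [Subgroup.normalizer_eq_top_iff.mpr inferInstance]; exact le_top) with h' | h'
      · exact fun x _ y _ => Subtype.ext (commutatorElement_eq_one_iff_mul_comm.mp
          (Subgroup.mem_bot.mp (h' ▸ Subgroup.commutator_mem_commutator x.2 y.2)))
      · intro x hx y hy
        by_cases hbot : K = ⊥
        · have hx1 : x = 1 := Subtype.ext (Subgroup.mem_bot.mp (hbot ▸ x.2))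
          rw [hx1, one_mul, mul_one]
        · exfalso
          have : Group.IsPerfect K := Subgroup.isPerfect_iff.mpr h'
          have : Nontrivial K := (Subgroup.nontrivial_iff_ne_bot K).mpr hbot
          exact Group.IsPerfect.not_isSolvable K inferInstance
  -- so those of `G` are abelian
  obtain ⟨T⟩ := (inferInstance : Nonempty (Sylow 2 G))
  have hcopT : ∀ x : G, x ∈ T → (orderOf x).Coprime p := by
    intro x hx
    obtain ⟨k, hk⟩ := IsPGroup.iff_orderOf.mp T.2 ⟨x, hx⟩
    rw [Subgroup.orderOf_mk] at hk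
    rw [hk]
    exact (((Nat.coprime_primes Nat.prime_two hp.out).mpr (Ne.symm hp2))).pow_left k
  have hfinj : ∀ x : G, x ∈ T → f x = 1 → x = 1 := fun x hx h => congrArg Subtype.val
    (eq_one_of_pGroup_of_coprime hQp (a := (⟨x, (QuotientGroup.eq_one_iff x).mp h⟩ : Q))
      (by rw [Subgroup.orderOf_mk]; exact hcopT x hx))
  have hTK : (T : Subgroup G).map f ≤ K := by
    rintro _ ⟨x, hx, rfl⟩
    exact mem_pResidual ((hcopT x hx).coprime_dvd_left (orderOf_map_dvd f x))
  obtain ⟨R', hR'⟩ := ((T.2.map f).comap_subtype (K := K)).exists_le_sylow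
  obtain ⟨k, rfl⟩ := MulAction.exists_smul_eq K R R'
  have hTab : IsMulCommutative T := by
    refine ⟨⟨fun x y => Subtype.ext ?_⟩⟩
    have hx := hR' (show (⟨f x, hTK ⟨x, x.2, rfl⟩⟩ : K) ∈ _ from
      Subgroup.mem_subgroupOf.mpr ⟨x, x.2, rfl⟩)
    have hy := hR' (show (⟨f y, hTK ⟨y, y.2, rfl⟩⟩ : K) ∈ _ from
      Subgroup.mem_subgroupOf.mpr ⟨y, y.2, rfl⟩)
    obtain ⟨u, hu, hux⟩ := hx
    obtain ⟨v, hv, hvy⟩ := hy
    have hc : (⟨f x, hTK ⟨x, x.2, rfl⟩⟩ : K) * ⟨f y, hTK ⟨y, y.2, rfl⟩⟩ =
        ⟨f y, hTK ⟨y, y.2, rfl⟩⟩ * ⟨f x, hTK ⟨x, x.2, rfl⟩⟩ := by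
      rw [← hux, ← hvy]
      show MulAut.conj k u * MulAut.conj k v = MulAut.conj k v * MulAut.conj k u
      rw [← map_mul, ← map_mul, hRcomm u hu v hv]
    have hc' : f ((x : G) * y * (y * x : G)⁻¹) = 1 := by
      rw [map_mul, map_mul, map_inv, map_mul, mul_inv_eq_one]
      exact congrArg Subtype.val hc
    exact mul_inv_eq_one.mp (hfinj _ ((T : Subgroup G).mul_mem ((T : Subgroup G).mul_mem x.2 y.2)
      ((T : Subgroup G).inv_mem ((T : Subgroup G).mul_mem y.2 x.2))) hc')
  exact hnorm (Cfsg.Agent.S0624.result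
    (isActionPStable_of_noSLTwo hp2 (noSLTwo_of_abelian_sylow_two hp2 T hTab)) hCQ P)

/-- The criterion. -/
theorem hasNormalPComplement_of_stable (hp2 : p ≠ 2) :
    ∀ {G : Type u} [Group G] [Finite G] (P : Sylow p G), Hyp p (P : Subgroup G) →
      Cfsg.HasNormalPComplement p G := by
  suffices ∀ (n : ℕ) (G : Type u) [Group G] [Finite G], Nat.card G ≤ n →
      ∀ P : Sylow p G, Hyp p (P : Subgroup G) → Cfsg.HasNormalPComplement p G from
    fun {G} _ _ P hP => this _ G le_rfl P hP
  intro n
  induction n with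
  | zero => intro G _ _ h; exact absurd h (not_le.mpr Nat.card_pos)
  | succ n ih =>
    intro G _ _ hn P hP
    refine step hp2 P hP
      (fun H hH => ih H (by
        have hlt : Nat.card H < Nat.card G := lt_of_le_of_ne (Subgroup.card_le_card_group H)
          fun h => hH (Subgroup.eq_top_of_card_eq H h)
        omega))
      (fun N _ hN => ih (G ⧸ N) (by
        have h1 := Subgroup.card_eq_card_quotient_mul_card_subgroup N
        have h2 : 2 ≤ Nat.card N := (Subgroup.one_lt_card_iff_ne_bot N).mpr hN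
        have h3 : Nat.card (G ⧸ N) * 2 ≤ Nat.card G := h1 ▸ Nat.mul_le_mul_left _ h2
        have : 0 < Nat.card (G ⧸ N) := Nat.card_pos
        omega))

end Cfsg.Agent.Lib.PLocal.StableComplement
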