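import Mathlib.FieldTheory.Finite.Basic
import Mathlib.LinearAlgebra.Eigenspace.Minpoly
import Mathlib.LinearAlgebra.Dimension.Constructions
import Mathlib.LinearAlgebra.Matrix.ToLin
import Mathlib.LinearAlgebra.Matrix.SpecialLinearGroup
import Mathlib.LinearAlgebra.Quotient.Basic
import Mathlib.Algebra.CharP.Lemmas
import Mathlib.GroupTheory.OrderOfElement

/-!
# Two quadratic generators: a two-dimensional constituent detecting a given subgroup

Owner: helper19. If `Γ = ⟨a, b⟩` acts with `a`, `b` quadratic and the semisimple part of `ab` has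
its eigenvalues in `K`, then for every subgroup not acting as a `p`-group some homomorphism
`Γ → SL(2,K)` keeps it from being a `p`-group.
-/

set_option autoImplicit false

namespace Cfsg.Agent.Lib.PLocal.TwoQuadratic

open Polynomial

universe u v w

variable {K : Type u} [Field K] [Fintype K] {p : ℕ} [hp : Fact p.Prime] [CharP K p]

/-- An operator whose semisimple part has order dividing `|K| - 1` has an eigenvalue in `K`. -/
theorem exists_eigenvalue {W : Type v} [AddCommGroup W] [Module K W] [FiniteDimensional K W]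
    [Nontrivial W] (X : Module.End K W) {e : ℕ} (hX : X ^ (p ^ e * (Fintype.card K - 1)) = 1) :
    ∃ μ : K, ∃ w : W, w ≠ 0 ∧ X w = μ • w := by
  classical
  set q := Fintype.card K with hq
  haveI : CharP K[X] p := inferInstance
  have hdvd : minpoly K X ∣ ((Polynomial.X : K[X]) ^ (q - 1) - 1) ^ p ^ e := by
    rw [sub_pow_char_pow, one_pow, ← pow_mul, mul_comm]
    exact minpoly.dvd K X (by simp [hX])
  have hX0 : IsIntegral K X := Algebra.IsIntegral.isIntegral X
  obtain ⟨f, hf, hfm⟩ := WfDvdMonoid.exists_irreducible_factor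
    (minpoly.not_isUnit K X) (minpoly.ne_zero hX0)
  have hf1 : f ∣ (Polynomial.X : K[X]) ^ (q - 1) - 1 := hf.prime.dvd_of_dvd_pow (hfm.trans hdvd)
  have hf2 : f ∣ ∏ ζ : K, (Polynomial.X - C ζ) := by
    have hprod : ∏ ζ : K, (Polynomial.X - C ζ) = (Polynomial.X : K[X]) ^ q - Polynomial.X := by
      have hroots := FiniteField.roots_X_pow_card_sub_X K
      have hdeg := FiniteField.X_pow_card_sub_X_natDegree_eq K (Fintype.one_lt_card (α := K))
      rw [← Finset.prod_map_val, ← hroots]
      exact prod_multiset_X_sub_C_of_monic_of_roots_card_eq (monic_X_pow_sub (by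
          rw [degree_X]; exact_mod_cast Fintype.one_lt_card)) (by rw [hroots, hdeg]; rfl)
    rw [hprod]
    have hq1 : 1 ≤ q := Fintype.card_pos
    have : (Polynomial.X : K[X]) ^ q - Polynomial.X =
        Polynomial.X * (Polynomial.X ^ (q - 1) - 1) := by
      rw [mul_sub, mul_one, ← pow_succ', Nat.sub_add_cancel hq1]
    rw [this]
    exact dvd_mul_of_dvd_right hf1 _
  obtain ⟨ζ, -, hζ⟩ := hf.prime.exists_mem_finset_dvd hf2
  have hass := hf.associated_of_dvd (irreducible_X_sub_C ζ) hζ
  have hroot : (minpoly K X).IsRoot ζ := dvd_iff_isRoot.mp (hass.symm.dvd.trans hfm)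
  obtain ⟨w, hw⟩ := (Module.End.hasEigenvalue_of_isRoot hroot).exists_hasEigenvector
  exact ⟨ζ, w, hw.2, hw.apply_eq_smul⟩

variable {Γ : Type w} [Group Γ] [Finite Γ]

omit [Fintype K] in
theorem pow_char_eq_one {A : Type v} [Ring A] [Algebra K A] [Nontrivial A] {x : A}
    (hx : (x - 1) * (x - 1) = 0) : x ^ p = 1 := by
  haveI : CharP A p := charP_of_injective_algebraMap (algebraMap K A).injective p
  have h := sub_pow_char_of_commute (p := p) (Commute.one_right x)
  have hz : (x - 1) ^ p = 0 := pow_eq_zero_of_le hp.out.two_le ((sq _).trans hx)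
  rw [one_pow, hz] at h
  exact sub_eq_zero.mp h.symm

omit [Fintype K] hp [CharP K p] in
/-- A representation of dimension two with unipotent generators lands in `SL(2,K)`. -/
theorem exists_hom_of_rank_two (p : ℕ) [Fact p.Prime] [CharP K p] {U : Type v} [AddCommGroup U] [Module K U] [FiniteDimensional K U]
    (hU : Module.finrank K U = 2) (σ : Γ →* Module.End K U) {a b : Γ}
    (hgen : Subgroup.closure {a, b} = ⊤) (ha : (σ a - 1) * (σ a - 1) = 0)
    (hb : (σ b - 1) * (σ b - 1) = 0) :
    ∃ φ : Γ →* Matrix.SpecialLinearGroup (Fin 2) K, ∀ g, φ g = 1 ↔ σ g = 1 := by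
  classical
  let B := Module.finBasisOfFinrankEq K U hU
  let E := LinearMap.toMatrixAlgEquiv B
  let τ : Γ →* Matrix (Fin 2) (Fin 2) K := E.toMonoidHom.comp σ
  have hτ : ∀ g, τ g = E (σ g) := fun g => rfl
  have hdet : ∀ x : Γ, (σ x - 1) * (σ x - 1) = 0 → (τ x).det = 1 := by
    intro x hx
    have hx' : (τ x - 1) * (τ x - 1) = 0 := by
      rw [hτ, ← map_one E, ← map_sub, ← map_mul, hx, map_zero]
    have h := congrArg Matrix.det (pow_char_eq_one (K := K) (p := p) hx')
    rw [Matrix.det_pow, Matrix.det_one] at h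
    have h' : ((τ x).det - 1) ^ p = 0 := by rw [sub_pow_char, h, one_pow, sub_self]
    exact sub_eq_zero.mp (eq_zero_of_pow_eq_zero h')
  have hall : ∀ g : Γ, (τ g).det = 1 := by
    let T : Subgroup Γ :=
      { carrier := {g | (τ g).det = 1}
        one_mem' := by simp
        mul_mem' := fun {x y} hx hy => by
          simp only [Set.mem_setOf_eq] at hx hy ⊢
          rw [map_mul, Matrix.det_mul, hx, hy, one_mul]
        inv_mem' := fun {x} hx => by
          simp only [Set.mem_setOf_eq] at hx ⊢
          have := congrArg Matrix.det (map_mul τ x x⁻¹)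
          rw [mul_inv_cancel, map_one, Matrix.det_one, Matrix.det_mul, hx, one_mul] at this
          exact this.symm }
    have hle : Subgroup.closure ({a, b} : Set Γ) ≤ T := by
      rw [Subgroup.closure_le]
      rintro x (rfl | rfl)
      exacts [hdet _ ha, hdet _ hb]
    exact fun g => hle (hgen ▸ Subgroup.mem_top g)
  refine ⟨{ toFun := fun g => ⟨τ g, hall g⟩, map_one' := Subtype.ext (map_one τ),
            map_mul' := fun x y => Subtype.ext (map_mul τ x y) }, fun g => ?_⟩
  constructor
  · intro h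
    have h' : E (σ g) = 1 := congrArg Subtype.val h
    rwa [← map_one E, E.injective.eq_iff] at h'
  · intro h
    exact Subtype.ext (show τ g = 1 by rw [hτ, h, map_one])

theorem exists_hom_aux : ∀ (n : ℕ) (W : Type v) [AddCommGroup W] [Module K W]
    [FiniteDimensional K W], Module.finrank K W = n → ∀ (ρ : Γ →* Module.End K W) (a b : Γ),
    Subgroup.closure {a, b} = ⊤ → (ρ a - 1) * (ρ a - 1) = 0 → (ρ b - 1) * (ρ b - 1) = 0 →
    (∃ e : ℕ, ρ (a * b) ^ (p ^ e * (Fintype.card K - 1)) = 1) →
    ∀ S : Subgroup Γ, (∃ s ∈ S, ∀ j : ℕ, ρ (s ^ p ^ j) ≠ 1) →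
    ∃ φ : Γ →* Matrix.SpecialLinearGroup (Fin 2) K, ∃ s ∈ S, ∀ j : ℕ, φ (s ^ p ^ j) ≠ 1 := by
  intro n
  induction n using Nat.strong_induction_on with
  | _ n ih =>
  intro W _ _ _ hn ρ a b hgen ha hb hX S hS
  classical
  haveI : Nontrivial W := by
    by_contra h
    rw [not_nontrivial_iff_subsingleton] at h
    obtain ⟨s, -, hs⟩ := hS
    exact hs 0 (Subsingleton.elim _ _)
  obtain ⟨e, he⟩ := hX
  obtain ⟨μ, w₀, hw₀, hμ⟩ := exists_eigenvalue (ρ (a * b)) he
  rw [map_mul, Module.End.mul_apply] at hμ
  have hinj : ∀ g : Γ, Function.Injective (ρ g) := fun g x y hxy => by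
    have h := congrArg (ρ g⁻¹) hxy
    rwa [← Module.End.mul_apply, ← Module.End.mul_apply, ← map_mul, inv_mul_cancel, map_one] at h
  have hμ0 : μ ≠ 0 := by
    rintro rfl
    rw [zero_smul] at hμ
    exact hw₀ (hinj b (by rw [map_zero]; exact hinj a (by rw [hμ, map_zero])))
  set v₀ := ρ b w₀ with hv₀
  have hq : ∀ (x : Γ), (ρ x - 1) * (ρ x - 1) = 0 → ∀ y : W, ρ x (ρ x y) = (2 : K) • ρ x y - y := by
    intro x hx y
    have h := congrArg (fun f : Module.End K W => f y) hx
    simp only [Module.End.mul_apply, LinearMap.sub_apply, Module.End.one_apply, map_sub,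
      LinearMap.zero_apply] at h
    rw [two_smul, ← sub_eq_zero, ← h]
    abel
  have haw : ρ a w₀ = (2 : K) • w₀ - μ⁻¹ • v₀ := by
    have h := hq a ha v₀
    rw [hμ, map_smul, smul_comm] at h
    rw [← inv_smul_smul₀ hμ0 (ρ a w₀), h, smul_sub, smul_smul, inv_mul_cancel₀ hμ0]
    simp
  set U := Submodule.span K (({w₀, v₀} : Finset W) : Set W) with hUdef
  have hw₀U : w₀ ∈ U := Submodule.subset_span (by simp)
  have hv₀U : v₀ ∈ U := Submodule.subset_span (by simp)
  have hinvgen : ∀ x : Γ, ρ x w₀ ∈ U → ρ x v₀ ∈ U → ∀ y ∈ U, ρ x y ∈ U := by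
    intro x h1 h2 y hy
    refine Submodule.span_induction ?_ ?_ ?_ ?_ hy
    · intro z hz
      rw [Finset.coe_insert, Finset.coe_singleton] at hz
      rcases hz with rfl | rfl
      exacts [h1, h2]
    · simp
    · intro y z _ _ hy' hz'; rw [map_add]; exact U.add_mem hy' hz'
    · intro c y _ hy'; rw [map_smul]; exact U.smul_mem c hy'
  have hinv : ∀ (x : Γ), ∀ y ∈ U, ρ x y ∈ U := by
    intro x
    have hx : x ∈ Subgroup.closure ({a, b} : Set Γ) := hgen ▸ Subgroup.mem_top x
    rw [← Subgroup.mem_toSubmonoid, Subgroup.closure_toSubmonoid_of_finite] at hx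
    induction hx using Submonoid.closure_induction with
    | mem z hz =>
      rcases hz with rfl | rfl
      · refine hinvgen _ ?_ ?_
        · rw [haw]; exact U.sub_mem (U.smul_mem _ hw₀U) (U.smul_mem _ hv₀U)
        · rw [hμ]; exact U.smul_mem _ hw₀U
      · refine hinvgen _ hv₀U ?_
        rw [hv₀, hq _ hb]
        exact U.sub_mem (U.smul_mem _ hv₀U) hw₀U
    | one => intro y hy; simpa using hy
    | mul z z' _ _ hz hz' =>
      intro y hy; rw [map_mul, Module.End.mul_apply]; exact hz _ (hz' y hy)
  let σ : Γ →* Module.End K U :=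
    { toFun := fun g => (ρ g).restrict (hinv g)
      map_one' := LinearMap.ext fun y => Subtype.ext (by simp)
      map_mul' := fun g g' => LinearMap.ext fun y => Subtype.ext (by simp) }
  have hσ : ∀ g (y : U), (σ g y : W) = ρ g y := fun g y => rfl
  have hσq : ∀ x : Γ, (ρ x - 1) * (ρ x - 1) = 0 → (σ x - 1) * (σ x - 1) = 0 := by
    intro x hx
    refine LinearMap.ext fun y => Subtype.ext ?_
    have h := congrArg (fun f : Module.End K W => f (y : W)) hx
    simpa [hσ] using h
  by_cases hA : ∃ s ∈ S, ∀ j : ℕ, σ (s ^ p ^ j) ≠ 1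
  · obtain ⟨s, hs, hsj⟩ := hA
    have hle : Module.finrank K U ≤ 2 :=
      (finrank_span_finset_le_card _).trans Finset.card_le_two
    have hne : Module.finrank K U ≠ 0 := fun h0 => hw₀ (by
      have := Submodule.finrank_eq_zero.mp h0
      rwa [this, Submodule.mem_bot] at hw₀U)
    have h2 : Module.finrank K U = 2 := by
      by_contra h2
      have h1 : Module.finrank K U = 1 := by omega
      have hone : ∀ x : Γ, (σ x - 1) * (σ x - 1) = 0 → σ x = 1 := by
        intro x hx
        have h := congrArg (LinearMap.toMatrixAlgEquiv (Module.finBasisOfFinrankEq K U h1)) hx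
        rw [map_mul, map_zero] at h
        have h00 := congrFun (congrFun h 0) 0
        rw [Matrix.mul_apply, Fin.sum_univ_one, Matrix.zero_apply, mul_self_eq_zero] at h00
        have : LinearMap.toMatrixAlgEquiv (Module.finBasisOfFinrankEq K U h1) (σ x - 1) = 0 := by
          ext i j; rw [Subsingleton.elim i 0, Subsingleton.elim j 0]; exact h00
        exact sub_eq_zero.mp ((map_eq_zero_iff _ (AlgEquiv.injective _)).mp this)
      have htriv : ∀ x : Γ, σ x = 1 := by
        intro x
        have hx : x ∈ Subgroup.closure ({a, b} : Set Γ) := hgen ▸ Subgroup.mem_top x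
        rw [← Subgroup.mem_toSubmonoid, Subgroup.closure_toSubmonoid_of_finite] at hx
        induction hx using Submonoid.closure_induction with
        | mem z hz =>
          rcases hz with rfl | rfl
          exacts [hone _ (hσq _ ha), hone _ (hσq _ hb)]
        | one => exact map_one σ
        | mul z z' _ _ hz hz' => rw [map_mul, hz, hz', one_mul]
      exact hsj 0 (htriv _)
    obtain ⟨φ, hφ⟩ := exists_hom_of_rank_two p h2 σ hgen (hσq _ ha) (hσq _ hb)
    exact ⟨φ, s, hs, fun j h => hsj j ((hφ _).mp h)⟩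
  · push Not at hA
    let τ : Γ →* Module.End K (W ⧸ U) :=
      { toFun := fun g => U.mapQ U (ρ g) (fun y hy => hinv g y hy)
        map_one' := LinearMap.ext fun y => by
          induction y using Submodule.Quotient.induction_on with
          | _ y => simp
        map_mul' := fun g g' => LinearMap.ext fun y => by
          induction y using Submodule.Quotient.induction_on with
          | _ y => simp }
    have hτ : ∀ g (y : W), τ g (Submodule.Quotient.mk y) = Submodule.Quotient.mk (ρ g y) :=
      fun g y => rfl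
    have hτq : ∀ x : Γ, (ρ x - 1) * (ρ x - 1) = 0 → (τ x - 1) * (τ x - 1) = 0 := by
      intro x hx
      refine LinearMap.ext fun y => ?_
      induction y using Submodule.Quotient.induction_on with
      | _ y =>
        have h := congrArg (fun f : Module.End K W => (Submodule.Quotient.mk (f y) : W ⧸ U)) hx
        simpa [hτ, Submodule.Quotient.mk_sub] using h
    have hpos : 0 < Module.finrank K U := Nat.pos_of_ne_zero fun h0 => hw₀ (by
      have := Submodule.finrank_eq_zero.mp h0
      rwa [this, Submodule.mem_bot] at hw₀U)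
    have hlt : Module.finrank K (W ⧸ U) < n := by
      have := Submodule.finrank_quotient_add_finrank U
      omega
    refine ih _ hlt _ rfl τ a b hgen (hτq _ ha) (hτq _ hb) ⟨e, ?_⟩ S ?_
    · rw [← map_pow] at he ⊢
      refine LinearMap.ext fun y => ?_
      induction y using Submodule.Quotient.induction_on with
      | _ y => rw [hτ, he]; rfl
    · by_contra hcon
      push Not at hcon
      obtain ⟨s, hs, hsj⟩ := hS
      obtain ⟨i, hi⟩ := hA s hs
      obtain ⟨j, hj⟩ := hcon s hs
      set m := i + j with hm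
      have hmono : ∀ {V' : Type v} [AddCommGroup V'] [Module K V'] (π : Γ →* Module.End K V')
          {i m : ℕ}, i ≤ m → π (s ^ p ^ i) = 1 → π (s ^ p ^ m) = 1 := by
        intro V' _ _ π i m hle h
        obtain ⟨d, rfl⟩ := Nat.exists_eq_add_of_le hle
        rw [pow_add, pow_mul, map_pow, h, one_pow]
      have hU1 := hmono σ (show i ≤ m by omega) hi
      have hQ1 := hmono τ (show j ≤ m by omega) hj
      obtain ⟨x, hx⟩ : ∃ x, x = s ^ p ^ m := ⟨_, rfl⟩
      rw [← hx] at hU1 hQ1
      have hsq : (ρ x - 1) * (ρ x - 1) = 0 := by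
        refine LinearMap.ext fun y => ?_
        have hy : (ρ x - 1) y ∈ U := by
          rw [LinearMap.sub_apply, Module.End.one_apply, ← Submodule.Quotient.eq, ← hτ, hQ1]
          rfl
        rw [Module.End.mul_apply, LinearMap.zero_apply, LinearMap.sub_apply, Module.End.one_apply,
          sub_eq_zero]
        have := congrArg (fun f : Module.End K U => ((f ⟨_, hy⟩ : U) : W)) hU1
        simpa [hσ] using this
      apply hsj (m + 1)
      rw [pow_succ, pow_mul, map_pow, ← hx]
      exact pow_char_eq_one (K := K) hsq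

/-- The detection theorem. -/
theorem exists_hom {W : Type v} [AddCommGroup W] [Module K W] [FiniteDimensional K W]
    (ρ : Γ →* Module.End K W) {a b : Γ} (hgen : Subgroup.closure {a, b} = ⊤)
    (ha : (ρ a - 1) * (ρ a - 1) = 0) (hb : (ρ b - 1) * (ρ b - 1) = 0)
    (hX : ∃ e k : ℕ, (a * b) ^ (p ^ e * k) = 1 ∧ k ∣ Fintype.card K - 1)
    {S : Subgroup Γ} (hS : ∃ s ∈ S, ∀ j : ℕ, ρ (s ^ p ^ j) ≠ 1) :
    ∃ φ : Γ →* Matrix.SpecialLinearGroup (Fin 2) K, ∃ s ∈ S, ∀ j : ℕ, φ (s ^ p ^ j) ≠ 1 := by
  obtain ⟨e, k, hek, c, hc⟩ := hX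
  refine exists_hom_aux _ W rfl ρ a b hgen ha hb ⟨e, ?_⟩ S hS
  rw [← map_pow, hc, ← mul_assoc, pow_mul, hek, one_pow, map_one]

end Cfsg.Agent.Lib.PLocal.TwoQuadratic
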